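import Cfsg.Agent.Lib.PermComp.G24
import Cfsg.Agent.Lib.PermComp.Simple
import Cfsg.Agent.Lib.Golay.M24

/-!
# From code lists to subgroups of the group of the length-24 code

`Rep24 c g` says that the code `c` (five bits per point) represents the permutation `g` of the
24 points.  This file connects the certificates of `Core`/`Simple` with `Cfsg.M24` of the prelude
and the helper lemmas on `Lib.Golay`.
-/

namespace Cfsg.Agent.Lib.PermComp.Mathieu.Bridge

open Cfsg Cfsg.Agent.Lib.PermComp Cfsg.Agent.Lib.PermComp.G24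
open Cfsg.Agent.Lib.Golay.Perm (checkAut)
open scoped Pointwise

/-! ### Groups -/

section General

variable {α : Type*}

/-- A subgroup of a subgroup, seen in the big group. -/
noncomputable def equivOfMem {G : Subgroup (Equiv.Perm α)} (S : Subgroup G)
    (K : Subgroup (Equiv.Perm α)) (h : ∀ x, x ∈ K ↔ ∃ hx : x ∈ G, (⟨x, hx⟩ : G) ∈ S) : S ≃* K :=
  (Subgroup.equivMapOfInjective S G.subtype G.subtype_injective).trans
    (MulEquiv.subgroupCongr (by
      ext x
      rw [h]
      constructor
      · rintro ⟨⟨y, hy⟩, hyS, rfl⟩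
        exact ⟨hy, hyS⟩
      · rintro ⟨hx, hxS⟩
        exact ⟨⟨x, hx⟩, hxS, rfl⟩))

/-- The stabilizers in a group, of `a` and `b`: conjugation. -/
theorem nonempty_equiv_inf_conj {G : Type*} [Group G] {X Y : Type*} [MulAction G X] [MulAction G Y]
    (g : G) (a : X) (b : Y) :
    Nonempty (↥(MulAction.stabilizer G a ⊓ MulAction.stabilizer G b) ≃*
      ↥(MulAction.stabilizer G (g • a) ⊓ MulAction.stabilizer G (g • b))) := by
  refine ⟨(MulEquiv.subgroupMap (MulAut.conj g) _).trans (MulEquiv.subgroupCongr ?_)⟩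
  rw [Subgroup.map_inf _ _ _ (MulAut.conj g).injective]
  rw [MulAction.stabilizer_smul_eq_stabilizer_map_conj,
    MulAction.stabilizer_smul_eq_stabilizer_map_conj]
  rfl

/-- Three stabilizers: conjugation. -/
theorem nonempty_equiv_inf_conj3 {G : Type*} [Group G] {X : Type*} [MulAction G X]
    (g : G) (a b c : X) :
    Nonempty (↥(MulAction.stabilizer G a ⊓ MulAction.stabilizer G b ⊓ MulAction.stabilizer G c) ≃*
      ↥(MulAction.stabilizer G (g • a) ⊓ MulAction.stabilizer G (g • b) ⊓
        MulAction.stabilizer G (g • c))) := by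
  refine ⟨(MulEquiv.subgroupMap (MulAut.conj g) _).trans (MulEquiv.subgroupCongr ?_)⟩
  rw [Subgroup.map_inf _ _ _ (MulAut.conj g).injective,
    Subgroup.map_inf _ _ _ (MulAut.conj g).injective]
  rw [MulAction.stabilizer_smul_eq_stabilizer_map_conj,
    MulAction.stabilizer_smul_eq_stabilizer_map_conj,
    MulAction.stabilizer_smul_eq_stabilizer_map_conj]
  rfl

end General

/-! ### Codes -/

/-- The numbering of points agrees with the one in `Lib.Golay`. -/
theorem val_e24 (a : GolayPt) : ((e24 a : Fin 24) : ℕ) = Cfsg.Agent.Lib.Golay.Core.idx a := by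
  cases a <;> rfl

/-- `c` represents `g` on the 24 points. -/
abbrev Rep24 (c : Nat) (g : Equiv.Perm GolayPt) : Prop := Core.Rep 5 31 e24 c g

theorem apply_of_rep24 {c : Nat} {g : Equiv.Perm GolayPt} (h : Rep24 c g) (p : GolayPt) :
    g p = Cfsg.Agent.Lib.Golay.Core.pt
      (Cfsg.Agent.Lib.Golay.Perm.img c (Cfsg.Agent.Lib.Golay.Core.idx p)) := by
  have h1 : Core.app 5 31 c (e24 p) = e24 (g p) := h p
  rw [val_e24, val_e24] at h1
  have h2 : Cfsg.Agent.Lib.Golay.Perm.img c (Cfsg.Agent.Lib.Golay.Core.idx p) =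
      Cfsg.Agent.Lib.Golay.Core.idx (g p) := h1
  rw [h2, Cfsg.Agent.Lib.Golay.Core.pt_idx]

theorem mem_M24_of_rep24 {c : Nat} {g : Equiv.Perm GolayPt} (hc : checkAut c = true)
    (h : Rep24 c g) : g ∈ M24 :=
  Cfsg.Agent.Lib.Golay.Perm.mem_M24_of_check hc (apply_of_rep24 h)

/-- The permutation of a code in the group of the code. -/
theorem exists_rep24 {c : Nat} (hc : checkAut c = true) : ∃ g, Rep24 c g := by
  refine ⟨Cfsg.Agent.Lib.Golay.Perm.g c, fun a => ?_⟩
  have hv := Cfsg.Agent.Lib.Golay.Perm.checkAut_valid hc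
  have h1 := Cfsg.Agent.Lib.Golay.Perm.idx_g hv a
  show Core.app 5 31 c (e24 a) = e24 (Cfsg.Agent.Lib.Golay.Perm.g c a)
  rw [val_e24, val_e24, h1]
  rfl

/-- A list of codes of elements in the group of the code. -/
def allAut (T : List Nat) : Bool := T.all checkAut

theorem exists_rep24_of_all {T : List Nat} (h : allAut T = true) :
    ∀ c ∈ T, ∃ g, Rep24 c g := fun c hc =>
  exists_rep24 (List.all_eq_true.1 h c hc)

/-- The group generated by the codes lies in `K` if the generators do. -/
theorem H_le {T : List Nat} {K : Subgroup (Equiv.Perm GolayPt)}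
    (hK : ∀ c ∈ T, ∀ g, Rep24 c g → g ∈ K) : Core.H 5 31 e24 T ≤ K := by
  apply (Subgroup.closure_le _).2
  rintro g ⟨c, hc, hg⟩
  exact hK c hc g hg

theorem H_le_M24 {T : List Nat} (h : allAut T = true) : Core.H 5 31 e24 T ≤ M24 :=
  H_le fun c hc _ hg => mem_M24_of_rep24 (List.all_eq_true.1 h c hc) hg

/-- The image of a point under the permutation of a code. -/
theorem apply_eq_of_rep24 {c : Nat} {g : Equiv.Perm GolayPt} (h : Rep24 c g) {a b : GolayPt}
    (hab : Core.app 5 31 c (e24 a) = e24 b) : g a = b := by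
  apply e24.injective
  apply Fin.ext
  rw [← h a, hab]

/-- The group generated by codes in the group of the code fixing a point. -/
theorem H_le_stab {T : List Nat} (h : allAut T = true) {a : GolayPt}
    (ha : ∀ c ∈ T, Nat.beq (Core.app 5 31 c (e24 a)) (e24 a) = true) :
    Core.H 5 31 e24 T ≤ MulAction.stabilizer (Equiv.Perm GolayPt) a := by
  apply H_le
  intro c hc g hg
  exact apply_eq_of_rep24 hg (Nat.eq_of_beq_eq_true (ha c hc))

end Cfsg.Agent.Lib.PermComp.Mathieu.Bridge
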