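import Cfsg.Agent.Lib.PermComp.Simple

/-!
# Certificate of simplicity for the Mathieu group M22

Generated by `tools/gen_mathieu.py`: a stabilizer chain of the group generated by the codes
`m22_G_T`, and the Sylow and normal closure data.
-/

namespace Cfsg.Agent.Lib.PermComp.Mathieu.CertM22

open Cfsg.Agent.Lib.PermComp

def m22_n : Nat := nat_lit 24
def m22_w : Nat := nat_lit 5
def m22_mask : Nat := nat_lit 31
def m22_L : Nat := nat_lit 120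
def m22_maskL : Nat := nat_lit 0xffffffffffffffffffffffffffffff
def m22_idc : Nat := nat_lit 0xbdab49ca307b9ac5a928398a418820

def m22_G_T : List Nat := [nat_lit 0xbb2a2a3923828ab886c833e723b480, nat_lit 0xba60b33ac83cc818b5e5a315590860]
def m22_G_prog : List (Nat × Nat × Nat) := [(nat_lit 1, nat_lit 1, nat_lit 0), (nat_lit 1, nat_lit 1, nat_lit 0), (nat_lit 0, nat_lit 3, nat_lit 2), (nat_lit 0, nat_lit 0, nat_lit 4), (nat_lit 0, nat_lit 0, nat_lit 4), (nat_lit 0, nat_lit 0, nat_lit 5), (nat_lit 0, nat_lit 4, nat_lit 5), (nat_lit 0, nat_lit 0, nat_lit 5), (nat_lit 0, nat_lit 0, nat_lit 2), (nat_lit 0, nat_lit 9, nat_lit 10), (nat_lit 0, nat_lit 0, nat_lit 11), (nat_lit 0, nat_lit 0, nat_lit 11), (nat_lit 0, nat_lit 0, nat_lit 13), (nat_lit 0, nat_lit 0, nat_lit 13), (nat_lit 0, nat_lit 0, nat_lit 14), (nat_lit 0, nat_lit 0, nat_lit 16), (nat_lit 0, nat_lit 0, nat_lit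 16), (nat_lit 0, nat_lit 0, nat_lit 17), (nat_lit 0, nat_lit 11, nat_lit 0), (nat_lit 1, nat_lit 10, nat_lit 0), (nat_lit 1, nat_lit 1, nat_lit 0), (nat_lit 0, nat_lit 12, nat_lit 2), (nat_lit 0, nat_lit 0, nat_lit 13), (nat_lit 0, nat_lit 0, nat_lit 14), (nat_lit 0, nat_lit 0, nat_lit 15), (nat_lit 0, nat_lit 16, nat_lit 16), (nat_lit 0, nat_lit 0, nat_lit 7), (nat_lit 0, nat_lit 0, nat_lit 18), (nat_lit 0, nat_lit 0, nat_lit 19), (nat_lit 0, nat_lit 0, nat_lit 10), (nat_lit 0, nat_lit 0, nat_lit 11), (nat_lit 0, nat_lit 0, nat_lit 22), (nat_lit 0, nat_lit 0, nat_lit 13), (nat_lit 0, nat_lit 0, nat_lit 24), (nat_lit 0, nat_lit 13, nat_lit 14), (nat_lit 0, nat_lit 0, nat_lit 15), (nat_lit 0, nat_lit 0, nat_lit 2), (nat_lit 0, nat_lit 14, nat_lit 18), (nat_lit 0, nat_lit 0, nat_lit 29), (nat_lit 0, nat_lit 0, nat_lit 30), (nat_lit 0, nat_lit 0, nat_lit 21), (nat_lit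 0, nat_lit 0, nat_lit 32), (nat_lit 0, nat_lit 0, nat_lit 23), (nat_lit 0, nat_lit 0, nat_lit 24), (nat_lit 0, nat_lit 0, nat_lit 35), (nat_lit 0, nat_lit 24, nat_lit 24), (nat_lit 0, nat_lit 0, nat_lit 26), (nat_lit 0, nat_lit 0, nat_lit 2), (nat_lit 1, nat_lit 23, nat_lit 0), (nat_lit 1, nat_lit 12, nat_lit 0), (nat_lit 1, nat_lit 2, nat_lit 0), (nat_lit 0, nat_lit 14, nat_lit 3), (nat_lit 0, nat_lit 0, nat_lit 15), (nat_lit 0, nat_lit 0, nat_lit 5), (nat_lit 0, nat_lit 0, nat_lit 17), (nat_lit 0, nat_lit 0, nat_lit 7), (nat_lit 0, nat_lit 0, nat_lit 31), (nat_lit 0, nat_lit 0, nat_lit 20), (nat_lit 0, nat_lit 8, nat_lit 7), (nat_lit 0, nat_lit 0, nat_lit 10), (nat_lit 0, nat_lit 0, nat_lit 2), (nat_lit 0, nat_lit 36, nat_lit 24), (nat_lit 0, nat_lit 0, nat_lit 14), (nat_lit 0, nat_lit 0, nat_lit 38), (nat_lit 0, nat_lit 0, nat_lit 27), (nat_lit 0, nat_lit 0, nat_lit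 17), (nat_lit 0, nat_lit 0, nat_lit 18), (nat_lit 0, nat_lit 0, nat_lit 19), (nat_lit 0, nat_lit 0, nat_lit 20), (nat_lit 0, nat_lit 0, nat_lit 32), (nat_lit 0, nat_lit 19, nat_lit 19), (nat_lit 0, nat_lit 0, nat_lit 1), (nat_lit 0, nat_lit 47, nat_lit 24), (nat_lit 0, nat_lit 0, nat_lit 25), (nat_lit 0, nat_lit 0, nat_lit 49), (nat_lit 0, nat_lit 0, nat_lit 50), (nat_lit 0, nat_lit 0, nat_lit 28), (nat_lit 0, nat_lit 0, nat_lit 40), (nat_lit 0, nat_lit 0, nat_lit 41), (nat_lit 0, nat_lit 0, nat_lit 42), (nat_lit 0, nat_lit 0, nat_lit 32), (nat_lit 0, nat_lit 0, nat_lit 56), (nat_lit 0, nat_lit 33, nat_lit 33), (nat_lit 0, nat_lit 0, nat_lit 34), (nat_lit 0, nat_lit 0, nat_lit 2), (nat_lit 1, nat_lit 24, nat_lit 0), (nat_lit 1, nat_lit 1, nat_lit 0), (nat_lit 0, nat_lit 15, nat_lit 15), (nat_lit 0, nat_lit 0, nat_lit 3), (nat_lit 0, nat_lit 0, nat_lit 4), (nat_lit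 0, nat_lit 3, nat_lit 4), (nat_lit 0, nat_lit 0, nat_lit 5), (nat_lit 0, nat_lit 0, nat_lit 2)]
def m22_G_s0 : Nat := nat_lit 0xbb2a2a3923828ab886c833e723b480
def m22_G_s1 : Nat := nat_lit 0xba464b1a8b920a7129d37b22d85420
def m22_G_s2 : Nat := nat_lit 0xbbced3459422d251da0eace4a40820
def m22_G_s3 : Nat := nat_lit 0xbb54c79cb044486aae534d1d618820
def m22_G_s4 : Nat := nat_lit 0xbac8a69dd2a159333d3585a2818820
def m22_G_s5 : Nat := nat_lit 0xbc12ba18ad946c79b11553dc418820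
noncomputable def m22_G_lev0 : Core.Lev := Core.mkLev m22_n m22_w m22_mask m22_L m22_maskL m22_idc (nat_lit 1) [m22_G_s5, m22_G_s3, m22_G_s4, m22_G_s2, m22_G_s1, m22_G_s0] [(nat_lit 4, m22_G_s0, nat_lit 1), (nat_lit 22, m22_G_s3, nat_lit 4), (nat_lit 8, m22_G_s4, nat_lit 4), (nat_lit 10, m22_G_s2, nat_lit 4), (nat_lit 13, m22_G_s1, nat_lit 4), (nat_lit 18, m22_G_s0, nat_lit 4), (nat_lit 16, m22_G_s5, nat_lit 22), (nat_lit 11, m22_G_s4, nat_lit 22), (nat_lit 15, m22_G_s2, nat_lit 22), (nat_lit 9, m22_G_s1, nat_lit 22), (nat_lit 12, m22_G_s0, nat_lit 22), (nat_lit 21, m22_G_s5, nat_lit 8), (nat_lit 19, m22_G_s3, nat_lit 8), (nat_lit 14, m22_G_s2, nat_lit 8), (nat_lit 5, m22_G_s1, nat_lit 13), (nat_lit 6, m22_G_s5, nat_lit 18), (nat_lit 7, m22_G_s3, nat_lit 18), (nat_lit 17, m22_G_s2, nat_lit 18), (nat_lit 20, m22_G_s2, nat_lit 16), (nat_lit 3, m22_G_s0, nat_lit 16),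 (nat_lit 2, m22_G_s1, nat_lit 11)]
noncomputable def m22_G_lev1 : Core.Lev := Core.mkLev m22_n m22_w m22_mask m22_L m22_maskL m22_idc (nat_lit 2) [m22_G_s5, m22_G_s3, m22_G_s4, m22_G_s2, m22_G_s1] [(nat_lit 21, m22_G_s1, nat_lit 2), (nat_lit 9, m22_G_s5, nat_lit 21), (nat_lit 10, m22_G_s3, nat_lit 21), (nat_lit 4, m22_G_s4, nat_lit 21), (nat_lit 7, m22_G_s2, nat_lit 21), (nat_lit 3, m22_G_s1, nat_lit 21), (nat_lit 8, m22_G_s5, nat_lit 9), (nat_lit 18, m22_G_s3, nat_lit 9), (nat_lit 16, m22_G_s2, nat_lit 9), (nat_lit 14, m22_G_s1, nat_lit 9), (nat_lit 12, m22_G_s5, nat_lit 10), (nat_lit 11, m22_G_s3, nat_lit 10), (nat_lit 15, m22_G_s4, nat_lit 10), (nat_lit 22, m22_G_s2, nat_lit 10), (nat_lit 13, m22_G_s1, nat_lit 4), (nat_lit 19, m22_G_s3, nat_lit 8), (nat_lit 6, m22_G_s5, nat_lit 18), (nat_lit 17, m22_G_s2, nat_lit 18), (nat_lit 20, m22_G_s2, nat_lit 16), (nat_lit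 5, m22_G_s4, nat_lit 14)]
noncomputable def m22_G_lev2 : Core.Lev := Core.mkLev m22_n m22_w m22_mask m22_L m22_maskL m22_idc (nat_lit 3) [m22_G_s5, m22_G_s3, m22_G_s4, m22_G_s2] [(nat_lit 8, m22_G_s2, nat_lit 3), (nat_lit 21, m22_G_s5, nat_lit 8), (nat_lit 19, m22_G_s3, nat_lit 8), (nat_lit 14, m22_G_s2, nat_lit 8), (nat_lit 9, m22_G_s5, nat_lit 21), (nat_lit 10, m22_G_s3, nat_lit 21), (nat_lit 4, m22_G_s4, nat_lit 21), (nat_lit 7, m22_G_s2, nat_lit 21), (nat_lit 20, m22_G_s5, nat_lit 19), (nat_lit 15, m22_G_s3, nat_lit 19), (nat_lit 13, m22_G_s4, nat_lit 19), (nat_lit 6, m22_G_s2, nat_lit 19), (nat_lit 17, m22_G_s5, nat_lit 14), (nat_lit 5, m22_G_s4, nat_lit 14), (nat_lit 11, m22_G_s2, nat_lit 14), (nat_lit 18, m22_G_s3, nat_lit 9), (nat_lit 16, m22_G_s2, nat_lit 9), (nat_lit 12, m22_G_s5, nat_lit 10), (nat_lit 22, m22_G_s2, nat_lit 10)]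
noncomputable def m22_G_lev3 : Core.Lev := Core.mkLev m22_n m22_w m22_mask m22_L m22_maskL m22_idc (nat_lit 4) [m22_G_s5, m22_G_s3, m22_G_s4] [(nat_lit 22, m22_G_s3, nat_lit 4), (nat_lit 8, m22_G_s4, nat_lit 4), (nat_lit 16, m22_G_s5, nat_lit 22), (nat_lit 13, m22_G_s3, nat_lit 22), (nat_lit 11, m22_G_s4, nat_lit 22), (nat_lit 21, m22_G_s5, nat_lit 8), (nat_lit 19, m22_G_s3, nat_lit 8), (nat_lit 18, m22_G_s4, nat_lit 16), (nat_lit 12, m22_G_s4, nat_lit 13), (nat_lit 6, m22_G_s4, nat_lit 11), (nat_lit 9, m22_G_s5, nat_lit 21), (nat_lit 10, m22_G_s3, nat_lit 21), (nat_lit 20, m22_G_s5, nat_lit 19), (nat_lit 15, m22_G_s3, nat_lit 19), (nat_lit 7, m22_G_s3, nat_lit 18)]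
noncomputable def m22_G_lev4 : Core.Lev := Core.mkLev m22_n m22_w m22_mask m22_L m22_maskL m22_idc (nat_lit 5) [m22_G_s5] [(nat_lit 14, m22_G_s5, nat_lit 5), (nat_lit 17, m22_G_s5, nat_lit 14)]
noncomputable def m22_G_levels : List Core.Lev := [m22_G_lev0, m22_G_lev1, m22_G_lev2, m22_G_lev3, m22_G_lev4]

def m22_R0_T : List Nat := [nat_lit 0xb9ea964965139138aa8db0e0433c20, nat_lit 0xbcc8bb4a2d6060fa292831cb510dc0, nat_lit 0xbaccd125437b28eb46483d4a484c20]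
def m22_R0_prog : List (Nat × Nat × Nat) := [(nat_lit 1, nat_lit 2, nat_lit 0), (nat_lit 1, nat_lit 2, nat_lit 0), (nat_lit 1, nat_lit 2, nat_lit 0), (nat_lit 0, nat_lit 4, nat_lit 3), (nat_lit 0, nat_lit 0, nat_lit 6), (nat_lit 0, nat_lit 0, nat_lit 6), (nat_lit 0, nat_lit 0, nat_lit 8), (nat_lit 0, nat_lit 0, nat_lit 7), (nat_lit 0, nat_lit 0, nat_lit 9), (nat_lit 0, nat_lit 0, nat_lit 11), (nat_lit 0, nat_lit 0, nat_lit 11), (nat_lit 0, nat_lit 0, nat_lit 12), (nat_lit 0, nat_lit 11, nat_lit 10), (nat_lit 0, nat_lit 0, nat_lit 10), (nat_lit 0, nat_lit 0, nat_lit 2), (nat_lit 0, nat_lit 15, nat_lit 16), (nat_lit 0, nat_lit 0, nat_lit 18), (nat_lit 0, nat_lit 0, nat_lit 17), (nat_lit 0, nat_lit 17, nat_lit 0), (nat_lit 1, nat_lit 4, nat_lit 0), (nat_lit 1, nat_lit 1, nat_lit 0), (nat_lit 0, nat_lit 2, nat_lit 2), (nat_lit 0, nat_lit 0, nat_lit 7), (nat_lit 0, nat_lit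 0, nat_lit 4), (nat_lit 0, nat_lit 0, nat_lit 9), (nat_lit 0, nat_lit 0, nat_lit 10), (nat_lit 0, nat_lit 11, nat_lit 11), (nat_lit 0, nat_lit 0, nat_lit 12), (nat_lit 0, nat_lit 0, nat_lit 13), (nat_lit 0, nat_lit 0, nat_lit 14), (nat_lit 0, nat_lit 0, nat_lit 15), (nat_lit 0, nat_lit 0, nat_lit 12), (nat_lit 0, nat_lit 0, nat_lit 17), (nat_lit 0, nat_lit 0, nat_lit 18), (nat_lit 0, nat_lit 0, nat_lit 19), (nat_lit 0, nat_lit 14, nat_lit 0), (nat_lit 0, nat_lit 8, nat_lit 17), (nat_lit 0, nat_lit 0, nat_lit 18), (nat_lit 0, nat_lit 0, nat_lit 19), (nat_lit 0, nat_lit 0, nat_lit 20), (nat_lit 0, nat_lit 0, nat_lit 21), (nat_lit 0, nat_lit 0, nat_lit 26), (nat_lit 0, nat_lit 0, nat_lit 23), (nat_lit 0, nat_lit 0, nat_lit 28), (nat_lit 0, nat_lit 24, nat_lit 0), (nat_lit 1, nat_lit 19, nat_lit 0), (nat_lit 1, nat_lit 10, nat_lit 0), (nat_lit 1, nat_lit 2, nat_lit 0),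 (nat_lit 0, nat_lit 3, nat_lit 3), (nat_lit 0, nat_lit 0, nat_lit 4), (nat_lit 0, nat_lit 0, nat_lit 5), (nat_lit 0, nat_lit 3, nat_lit 4), (nat_lit 0, nat_lit 0, nat_lit 4), (nat_lit 0, nat_lit 0, nat_lit 2), (nat_lit 0, nat_lit 28, nat_lit 28), (nat_lit 0, nat_lit 0, nat_lit 10), (nat_lit 0, nat_lit 0, nat_lit 20), (nat_lit 0, nat_lit 0, nat_lit 31), (nat_lit 0, nat_lit 0, nat_lit 13), (nat_lit 0, nat_lit 0, nat_lit 14), (nat_lit 0, nat_lit 12, nat_lit 0), (nat_lit 0, nat_lit 25, nat_lit 25), (nat_lit 0, nat_lit 0, nat_lit 17), (nat_lit 0, nat_lit 0, nat_lit 18), (nat_lit 0, nat_lit 0, nat_lit 19), (nat_lit 0, nat_lit 0, nat_lit 39), (nat_lit 0, nat_lit 0, nat_lit 40), (nat_lit 0, nat_lit 21, nat_lit 19), (nat_lit 0, nat_lit 0, nat_lit 1), (nat_lit 0, nat_lit 9, nat_lit 43), (nat_lit 0, nat_lit 0, nat_lit 34), (nat_lit 0, nat_lit 0, nat_lit 26), (nat_lit 0, nat_lit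 4, nat_lit 25), (nat_lit 0, nat_lit 0, nat_lit 26), (nat_lit 0, nat_lit 0, nat_lit 2), (nat_lit 1, nat_lit 14, nat_lit 0), (nat_lit 1, nat_lit 7, nat_lit 0), (nat_lit 0, nat_lit 8, nat_lit 2), (nat_lit 0, nat_lit 0, nat_lit 9), (nat_lit 0, nat_lit 0, nat_lit 25), (nat_lit 0, nat_lit 0, nat_lit 5), (nat_lit 0, nat_lit 0, nat_lit 12), (nat_lit 0, nat_lit 0, nat_lit 7), (nat_lit 0, nat_lit 0, nat_lit 29), (nat_lit 0, nat_lit 0, nat_lit 23), (nat_lit 0, nat_lit 0, nat_lit 16), (nat_lit 0, nat_lit 10, nat_lit 9), (nat_lit 0, nat_lit 0, nat_lit 1)]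
def m22_R0_s0 : Nat := nat_lit 0xb9ea964965139138aa8db0e0433c20
def m22_R0_s1 : Nat := nat_lit 0xbd872aad8d3ce0655225425e170880
def m22_R0_s2 : Nat := nat_lit 0xb9d96945f56a66e2920342d46a0820
def m22_R0_s3 : Nat := nat_lit 0xbb2ad350abb464f5408999dc818820
def m22_R0_s4 : Nat := nat_lit 0xba8cb9d9cf4152d24990a9e3418820
def m22_R0_s5 : Nat := nat_lit 0xbb5135bdd63160aa1ea964a2418820
noncomputable def m22_R0_lev0 : Core.Lev := Core.mkLev m22_n m22_w m22_mask m22_L m22_maskL m22_idc (nat_lit 2) [m22_R0_s5, m22_R0_s3, m22_R0_s4, m22_R0_s2, m22_R0_s1, m22_R0_s0] [(nat_lit 15, m22_R0_s0, nat_lit 2), (nat_lit 6, m22_R0_s5, nat_lit 15), (nat_lit 22, m22_R0_s3, nat_lit 15), (nat_lit 8, m22_R0_s4, nat_lit 15), (nat_lit 13, m22_R0_s2, nat_lit 15), (nat_lit 7, m22_R0_s1, nat_lit 15), (nat_lit 18, m22_R0_s5, nat_lit 6), (nat_lit 11, m22_R0_s2, nat_lit 6), (nat_lit 9, m22_R0_s1,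 nat_lit 6), (nat_lit 3, m22_R0_s0, nat_lit 6), (nat_lit 12, m22_R0_s3, nat_lit 22), (nat_lit 10, m22_R0_s4, nat_lit 22), (nat_lit 16, m22_R0_s4, nat_lit 8), (nat_lit 5, m22_R0_s1, nat_lit 8), (nat_lit 19, m22_R0_s2, nat_lit 13), (nat_lit 21, m22_R0_s4, nat_lit 7), (nat_lit 20, m22_R0_s3, nat_lit 18), (nat_lit 17, m22_R0_s2, nat_lit 18), (nat_lit 4, m22_R0_s4, nat_lit 11), (nat_lit 14, m22_R0_s1, nat_lit 3), (nat_lit 1, m22_R0_s1, nat_lit 4)]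
noncomputable def m22_R0_lev1 : Core.Lev := Core.mkLev m22_n m22_w m22_mask m22_L m22_maskL m22_idc (nat_lit 1) [m22_R0_s5, m22_R0_s3, m22_R0_s4, m22_R0_s2, m22_R0_s1] [(nat_lit 4, m22_R0_s1, nat_lit 1), (nat_lit 8, m22_R0_s3, nat_lit 4), (nat_lit 20, m22_R0_s4, nat_lit 4), (nat_lit 6, m22_R0_s2, nat_lit 4), (nat_lit 9, m22_R0_s5, nat_lit 8), (nat_lit 16, m22_R0_s4, nat_lit 8), (nat_lit 3, m22_R0_s2, nat_lit 8), (nat_lit 5, m22_R0_s1, nat_lit 8), (nat_lit 19, m22_R0_s5, nat_lit 20), (nat_lit 13, m22_R0_s3, nat_lit 20), (nat_lit 11, m22_R0_s4, nat_lit 20), (nat_lit 22, m22_R0_s2, nat_lit 20), (nat_lit 18, m22_R0_s1, nat_lit 20), (nat_lit 7, m22_R0_s3, nat_lit 6), (nat_lit 21, m22_R0_s5, nat_lit 9), (nat_lit 12, m22_R0_s4, nat_lit 9), (nat_lit 17, m22_R0_s1, nat_lit 9), (nat_lit 15, m22_R0_s4, nat_lit 16), (nat_lit 14, m22_R0_s1, nat_lit 3), (nat_lit 10, m22_R0_s2, nat_lit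 5)]
noncomputable def m22_R0_lev2 : Core.Lev := Core.mkLev m22_n m22_w m22_mask m22_L m22_maskL m22_idc (nat_lit 3) [m22_R0_s5, m22_R0_s3, m22_R0_s4, m22_R0_s2] [(nat_lit 20, m22_R0_s2, nat_lit 3), (nat_lit 19, m22_R0_s5, nat_lit 20), (nat_lit 13, m22_R0_s3, nat_lit 20), (nat_lit 11, m22_R0_s4, nat_lit 20), (nat_lit 22, m22_R0_s2, nat_lit 20), (nat_lit 6, m22_R0_s3, nat_lit 19), (nat_lit 18, m22_R0_s2, nat_lit 19), (nat_lit 16, m22_R0_s5, nat_lit 13), (nat_lit 9, m22_R0_s4, nat_lit 13), (nat_lit 10, m22_R0_s3, nat_lit 11), (nat_lit 4, m22_R0_s4, nat_lit 11), (nat_lit 5, m22_R0_s2, nat_lit 11), (nat_lit 12, m22_R0_s3, nat_lit 22), (nat_lit 7, m22_R0_s2, nat_lit 22), (nat_lit 15, m22_R0_s5, nat_lit 18), (nat_lit 17, m22_R0_s2, nat_lit 18), (nat_lit 21, m22_R0_s2, nat_lit 16), (nat_lit 8, m22_R0_s3, nat_lit 4), (nat_lit 14, m22_R0_s3, nat_lit 5)]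
noncomputable def m22_R0_lev3 : Core.Lev := Core.mkLev m22_n m22_w m22_mask m22_L m22_maskL m22_idc (nat_lit 4) [m22_R0_s5, m22_R0_s3, m22_R0_s4] [(nat_lit 8, m22_R0_s3, nat_lit 4), (nat_lit 20, m22_R0_s4, nat_lit 4), (nat_lit 9, m22_R0_s5, nat_lit 8), (nat_lit 16, m22_R0_s4, nat_lit 8), (nat_lit 19, m22_R0_s5, nat_lit 20), (nat_lit 13, m22_R0_s3, nat_lit 20), (nat_lit 11, m22_R0_s4, nat_lit 20), (nat_lit 21, m22_R0_s5, nat_lit 9), (nat_lit 12, m22_R0_s4, nat_lit 9), (nat_lit 22, m22_R0_s5, nat_lit 16), (nat_lit 15, m22_R0_s4, nat_lit 16), (nat_lit 6, m22_R0_s3, nat_lit 19), (nat_lit 18, m22_R0_s3, nat_lit 13), (nat_lit 10, m22_R0_s3, nat_lit 11), (nat_lit 7, m22_R0_s3, nat_lit 6)]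
noncomputable def m22_R0_lev4 : Core.Lev := Core.mkLev m22_n m22_w m22_mask m22_L m22_maskL m22_idc (nat_lit 5) [m22_R0_s5] [(nat_lit 17, m22_R0_s5, nat_lit 5), (nat_lit 14, m22_R0_s5, nat_lit 17)]
noncomputable def m22_R0_levels : List Core.Lev := [m22_R0_lev0, m22_R0_lev1, m22_R0_lev2, m22_R0_lev3, m22_R0_lev4]

noncomputable def m22_R0_cert : Simple.RepCert := ⟨nat_lit 0xbd99494e25091b54092b31e0e1a9e0, [(nat_lit 0, nat_lit 1, nat_lit 0), (nat_lit 0, nat_lit 1, nat_lit 2), (nat_lit 0, nat_lit 0, nat_lit 3), (nat_lit 0, nat_lit 0, nat_lit 3), (nat_lit 0, nat_lit 0, nat_lit 5), (nat_lit 0, nat_lit 4, nat_lit 5), (nat_lit 0, nat_lit 0, nat_lit 7), (nat_lit 0, nat_lit 0, nat_lit 7), (nat_lit 0, nat_lit 0, nat_lit 8), (nat_lit 0, nat_lit 0, nat_lit 10), (nat_lit 0, nat_lit 0, nat_lit 11), (nat_lit 0, nat_lit 0, nat_lit 11), (nat_lit 0, nat_lit 0, nat_lit 13), (nat_lit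 0, nat_lit 11, nat_lit 13), (nat_lit 0, nat_lit 0, nat_lit 15), (nat_lit 0, nat_lit 0, nat_lit 16), (nat_lit 0, nat_lit 0, nat_lit 17), (nat_lit 0, nat_lit 0, nat_lit 18)], [(nat_lit 0xb9ea964965139138aa8db0e0433c20, nat_lit 0xbba8a78a4d29aa98b02bb1d0324e00), (nat_lit 0xbcc8bb4a2d6060fa292831cb510dc0, nat_lit 0xba6c5256547315338e268356f40820), (nat_lit 0xbaccd125437b28eb46483d4a484c20, nat_lit 0xba2471c1ec8b489aac26989d42d940)], m22_R0_prog, m22_R0_levels⟩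

def m22_R1_T : List Nat := [nat_lit 0xb8ab681a4d23a695b1470c5e51d100, nat_lit 0xbc19199d424b88895075598a17d9a0, nat_lit 0xb9ab29b05020dd48d925428e16ade0]
def m22_R1_prog : List (Nat × Nat × Nat) := [(nat_lit 1, nat_lit 2, nat_lit 0), (nat_lit 1, nat_lit 2, nat_lit 0), (nat_lit 0, nat_lit 3, nat_lit 2), (nat_lit 0, nat_lit 0, nat_lit 5), (nat_lit 0, nat_lit 0, nat_lit 5), (nat_lit 0, nat_lit 0, nat_lit 6), (nat_lit 0, nat_lit 0, nat_lit 6), (nat_lit 0, nat_lit 5, nat_lit 5), (nat_lit 0, nat_lit 0, nat_lit 1), (nat_lit 0, nat_lit 9, nat_lit 10), (nat_lit 0, nat_lit 0, nat_lit 12), (nat_lit 0, nat_lit 0, nat_lit 12), (nat_lit 0, nat_lit 0, nat_lit 14), (nat_lit 0, nat_lit 0, nat_lit 13), (nat_lit 0, nat_lit 0, nat_lit 15), (nat_lit 0, nat_lit 0, nat_lit 17), (nat_lit 0, nat_lit 0, nat_lit 18), (nat_lit 0, nat_lit 0, nat_lit 18), (nat_lit 0, nat_lit 0, nat_lit 18), (nat_lit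 0, nat_lit 0, nat_lit 21), (nat_lit 0, nat_lit 19, nat_lit 18), (nat_lit 0, nat_lit 0, nat_lit 1), (nat_lit 1, nat_lit 13, nat_lit 0), (nat_lit 1, nat_lit 1, nat_lit 0), (nat_lit 0, nat_lit 15, nat_lit 15), (nat_lit 0, nat_lit 0, nat_lit 16), (nat_lit 0, nat_lit 0, nat_lit 17), (nat_lit 0, nat_lit 4, nat_lit 4), (nat_lit 0, nat_lit 0, nat_lit 4), (nat_lit 0, nat_lit 0, nat_lit 2), (nat_lit 0, nat_lit 21, nat_lit 8), (nat_lit 0, nat_lit 0, nat_lit 22), (nat_lit 0, nat_lit 0, nat_lit 10), (nat_lit 0, nat_lit 10, nat_lit 9), (nat_lit 0, nat_lit 0, nat_lit 10), (nat_lit 0, nat_lit 0, nat_lit 2), (nat_lit 0, nat_lit 14, nat_lit 27), (nat_lit 0, nat_lit 0, nat_lit 15), (nat_lit 0, nat_lit 0, nat_lit 16), (nat_lit 0, nat_lit 0, nat_lit 30), (nat_lit 0, nat_lit 0, nat_lit 31), (nat_lit 0, nat_lit 0, nat_lit 32), (nat_lit 0, nat_lit 0, nat_lit 33), (nat_lit 0, nat_lit 8, nat_lit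 19), (nat_lit 0, nat_lit 0, nat_lit 21), (nat_lit 0, nat_lit 0, nat_lit 2), (nat_lit 1, nat_lit 16, nat_lit 0), (nat_lit 1, nat_lit 11, nat_lit 0), (nat_lit 1, nat_lit 2, nat_lit 0), (nat_lit 0, nat_lit 19, nat_lit 13), (nat_lit 0, nat_lit 0, nat_lit 20), (nat_lit 0, nat_lit 0, nat_lit 15), (nat_lit 0, nat_lit 0, nat_lit 16), (nat_lit 0, nat_lit 0, nat_lit 23), (nat_lit 0, nat_lit 0, nat_lit 18), (nat_lit 0, nat_lit 7, nat_lit 7), (nat_lit 0, nat_lit 0, nat_lit 1), (nat_lit 0, nat_lit 21, nat_lit 21), (nat_lit 0, nat_lit 0, nat_lit 22), (nat_lit 0, nat_lit 0, nat_lit 23), (nat_lit 0, nat_lit 0, nat_lit 30), (nat_lit 0, nat_lit 0, nat_lit 15), (nat_lit 0, nat_lit 0, nat_lit 26), (nat_lit 0, nat_lit 0, nat_lit 33), (nat_lit 0, nat_lit 0, nat_lit 18), (nat_lit 0, nat_lit 0, nat_lit 29), (nat_lit 0, nat_lit 0, nat_lit 30), (nat_lit 0, nat_lit 20, nat_lit 19), (nat_lit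 0, nat_lit 0, nat_lit 20), (nat_lit 0, nat_lit 0, nat_lit 21), (nat_lit 0, nat_lit 0, nat_lit 3), (nat_lit 0, nat_lit 25, nat_lit 35), (nat_lit 0, nat_lit 0, nat_lit 26), (nat_lit 0, nat_lit 0, nat_lit 43), (nat_lit 0, nat_lit 0, nat_lit 28), (nat_lit 0, nat_lit 0, nat_lit 39), (nat_lit 0, nat_lit 0, nat_lit 46), (nat_lit 0, nat_lit 0, nat_lit 31), (nat_lit 0, nat_lit 0, nat_lit 32), (nat_lit 0, nat_lit 30, nat_lit 32), (nat_lit 0, nat_lit 0, nat_lit 33), (nat_lit 0, nat_lit 0, nat_lit 2), (nat_lit 1, nat_lit 25, nat_lit 0), (nat_lit 1, nat_lit 12, nat_lit 0), (nat_lit 1, nat_lit 2, nat_lit 0), (nat_lit 0, nat_lit 2, nat_lit 0), (nat_lit 0, nat_lit 29, nat_lit 29), (nat_lit 0, nat_lit 0, nat_lit 5), (nat_lit 0, nat_lit 0, nat_lit 17), (nat_lit 0, nat_lit 0, nat_lit 18), (nat_lit 0, nat_lit 0, nat_lit 19), (nat_lit 0, nat_lit 0, nat_lit 9), (nat_lit 0, nat_lit 0, nat_lit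 10), (nat_lit 0, nat_lit 7, nat_lit 8), (nat_lit 0, nat_lit 0, nat_lit 10), (nat_lit 0, nat_lit 0, nat_lit 2)]
def m22_R1_s0 : Nat := nat_lit 0xb8ab681a4d23a695b1470c5e51d100
def m22_R1_s1 : Nat := nat_lit 0xbc194b21c79892a32c8d7d63228c20
def m22_R1_s2 : Nat := nat_lit 0xba20e224cb89d9450caf6da72a8820
def m22_R1_s3 : Nat := nat_lit 0xba64d4562f83a87312d362caa18820
def m22_R1_s4 : Nat := nat_lit 0xb926faa22da3a0b6255231cb618820
def m22_R1_s5 : Nat := nat_lit 0xbc12ba18ad946c79b11553dc418820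
noncomputable def m22_R1_lev0 : Core.Lev := Core.mkLev m22_n m22_w m22_mask m22_L m22_maskL m22_idc (nat_lit 1) [m22_R1_s5, m22_R1_s3, m22_R1_s4, m22_R1_s2, m22_R1_s1, m22_R1_s0] [(nat_lit 8, m22_R1_s0, nat_lit 1), (nat_lit 21, m22_R1_s5, nat_lit 8), (nat_lit 19, m22_R1_s3, nat_lit 8), (nat_lit 18, m22_R1_s4, nat_lit 8), (nat_lit 15, m22_R1_s2, nat_lit 8), (nat_lit 13, m22_R1_s1, nat_lit 8), (nat_lit 7, m22_R1_s0, nat_lit 8), (nat_lit 9, m22_R1_s5, nat_lit 21), (nat_lit 16, m22_R1_s2, nat_lit 21), (nat_lit 12, m22_R1_s1, nat_lit 21), (nat_lit 20, m22_R1_s5, nat_lit 19), (nat_lit 4, m22_R1_s2, nat_lit 19), (nat_lit 22, m22_R1_s1, nat_lit 19), (nat_lit 6, m22_R1_s5, nat_lit 18), (nat_lit 17, m22_R1_s2, nat_lit 15), (nat_lit 10, m22_R1_s5, nat_lit 7), (nat_lit 5, m22_R1_s2, nat_lit 9), (nat_lit 11, m22_R1_s2, nat_lit 16), (nat_lit 14, m22_R1_s2, nat_lit 20), (nat_lit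 2, m22_R1_s0, nat_lit 22), (nat_lit 3, m22_R1_s2, nat_lit 10)]
noncomputable def m22_R1_lev1 : Core.Lev := Core.mkLev m22_n m22_w m22_mask m22_L m22_maskL m22_idc (nat_lit 2) [m22_R1_s5, m22_R1_s3, m22_R1_s4, m22_R1_s2, m22_R1_s1] [(nat_lit 3, m22_R1_s1, nat_lit 2), (nat_lit 21, m22_R1_s2, nat_lit 3), (nat_lit 5, m22_R1_s1, nat_lit 3), (nat_lit 9, m22_R1_s5, nat_lit 21), (nat_lit 18, m22_R1_s3, nat_lit 21), (nat_lit 19, m22_R1_s4, nat_lit 21), (nat_lit 16, m22_R1_s2, nat_lit 21), (nat_lit 12, m22_R1_s1, nat_lit 21), (nat_lit 14, m22_R1_s5, nat_lit 5), (nat_lit 17, m22_R1_s1, nat_lit 5), (nat_lit 8, m22_R1_s5, nat_lit 9), (nat_lit 22, m22_R1_s3, nat_lit 9), (nat_lit 10, m22_R1_s4, nat_lit 9), (nat_lit 4, m22_R1_s1, nat_lit 9), (nat_lit 6, m22_R1_s5, nat_lit 18), (nat_lit 20, m22_R1_s5, nat_lit 19), (nat_lit 13, m22_R1_s5, nat_lit 16), (nat_lit 15, m22_R1_s3, nat_lit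 16), (nat_lit 11, m22_R1_s2, nat_lit 16), (nat_lit 7, m22_R1_s1, nat_lit 16)]
noncomputable def m22_R1_lev2 : Core.Lev := Core.mkLev m22_n m22_w m22_mask m22_L m22_maskL m22_idc (nat_lit 3) [m22_R1_s5, m22_R1_s3, m22_R1_s4, m22_R1_s2] [(nat_lit 21, m22_R1_s2, nat_lit 3), (nat_lit 9, m22_R1_s5, nat_lit 21), (nat_lit 18, m22_R1_s3, nat_lit 21), (nat_lit 19, m22_R1_s4, nat_lit 21), (nat_lit 16, m22_R1_s2, nat_lit 21), (nat_lit 8, m22_R1_s5, nat_lit 9), (nat_lit 22, m22_R1_s3, nat_lit 9), (nat_lit 10, m22_R1_s4, nat_lit 9), (nat_lit 5, m22_R1_s2, nat_lit 9), (nat_lit 6, m22_R1_s5, nat_lit 18), (nat_lit 20, m22_R1_s5, nat_lit 19), (nat_lit 4, m22_R1_s2, nat_lit 19), (nat_lit 13, m22_R1_s5, nat_lit 16), (nat_lit 15, m22_R1_s3, nat_lit 16), (nat_lit 11, m22_R1_s2, nat_lit 16), (nat_lit 12, m22_R1_s5, nat_lit 10), (nat_lit 14, m22_R1_s5, nat_lit 5), (nat_lit 7, m22_R1_s4,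 nat_lit 6), (nat_lit 17, m22_R1_s2, nat_lit 15)]
noncomputable def m22_R1_lev3 : Core.Lev := Core.mkLev m22_n m22_w m22_mask m22_L m22_maskL m22_idc (nat_lit 4) [m22_R1_s5, m22_R1_s3, m22_R1_s4] [(nat_lit 10, m22_R1_s3, nat_lit 4), (nat_lit 22, m22_R1_s4, nat_lit 4), (nat_lit 12, m22_R1_s5, nat_lit 10), (nat_lit 9, m22_R1_s4, nat_lit 10), (nat_lit 16, m22_R1_s5, nat_lit 22), (nat_lit 7, m22_R1_s5, nat_lit 12), (nat_lit 11, m22_R1_s4, nat_lit 12), (nat_lit 8, m22_R1_s5, nat_lit 9), (nat_lit 13, m22_R1_s5, nat_lit 16), (nat_lit 15, m22_R1_s3, nat_lit 16), (nat_lit 6, m22_R1_s4, nat_lit 7), (nat_lit 19, m22_R1_s5, nat_lit 11), (nat_lit 21, m22_R1_s5, nat_lit 8), (nat_lit 18, m22_R1_s4, nat_lit 8), (nat_lit 20, m22_R1_s3, nat_lit 13)]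
noncomputable def m22_R1_lev4 : Core.Lev := Core.mkLev m22_n m22_w m22_mask m22_L m22_maskL m22_idc (nat_lit 5) [m22_R1_s5] [(nat_lit 14, m22_R1_s5, nat_lit 5), (nat_lit 17, m22_R1_s5, nat_lit 14)]
noncomputable def m22_R1_levels : List Core.Lev := [m22_R1_lev0, m22_R1_lev1, m22_R1_lev2, m22_R1_lev3, m22_R1_lev4]

noncomputable def m22_R1_cert : Simple.RepCert := ⟨nat_lit 0xbce075d5322d1acb20837185153c20, [(nat_lit 0, nat_lit 1, nat_lit 1), (nat_lit 0, nat_lit 0, nat_lit 2), (nat_lit 0, nat_lit 0, nat_lit 3), (nat_lit 0, nat_lit 0, nat_lit 4), (nat_lit 0, nat_lit 0, nat_lit 5), (nat_lit 0, nat_lit 0, nat_lit 6), (nat_lit 0, nat_lit 0, nat_lit 7), (nat_lit 0, nat_lit 0, nat_lit 8), (nat_lit 0, nat_lit 0, nat_lit 8), (nat_lit 0, nat_lit 0, nat_lit 10), (nat_lit 0, nat_lit 10, nat_lit 10), (nat_lit 0, nat_lit 0, nat_lit 11), (nat_lit 0, nat_lit 0, nat_lit 12), (nat_lit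 0, nat_lit 0, nat_lit 13), (nat_lit 0, nat_lit 15, nat_lit 14), (nat_lit 0, nat_lit 0, nat_lit 15), (nat_lit 0, nat_lit 0, nat_lit 16), (nat_lit 0, nat_lit 0, nat_lit 17), (nat_lit 0, nat_lit 0, nat_lit 19)], [(nat_lit 0xb8ab681a4d23a695b1470c5e51d100, nat_lit 0xba9f4614c4409cb4c22db0cf2986a0), (nat_lit 0xbc19199d424b88895075598a17d9a0, nat_lit 0xbadaf90684b0cb33a2354ba0a608c0), (nat_lit 0xb9ab29b05020dd48d925428e16ade0, nat_lit 0xba82db122f28eb035052724eb62260)], m22_R1_prog, m22_R1_levels⟩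

def m22_R2_T : List Nat := [nat_lit 0xb85846ca96819654bc68155c79c540, nat_lit 0xbda2c2bc893c90b8368610eb353820]
def m22_R2_prog : List (Nat × Nat × Nat) := [(nat_lit 1, nat_lit 1, nat_lit 0), (nat_lit 1, nat_lit 1, nat_lit 0), (nat_lit 0, nat_lit 3, nat_lit 3), (nat_lit 0, nat_lit 0, nat_lit 4), (nat_lit 0, nat_lit 0, nat_lit 4), (nat_lit 0, nat_lit 4, nat_lit 4), (nat_lit 0, nat_lit 0, nat_lit 5), (nat_lit 0, nat_lit 0, nat_lit 2), (nat_lit 0, nat_lit 8, nat_lit 9), (nat_lit 0, nat_lit 0, nat_lit 9), (nat_lit 0, nat_lit 0, nat_lit 10), (nat_lit 0, nat_lit 0, nat_lit 11), (nat_lit 0, nat_lit 0, nat_lit 12), (nat_lit 0, nat_lit 0, nat_lit 13), (nat_lit 0, nat_lit 0, nat_lit 15), (nat_lit 0, nat_lit 0, nat_lit 15), (nat_lit 0, nat_lit 0, nat_lit 16), (nat_lit 0, nat_lit 0, nat_lit 18), (nat_lit 0, nat_lit 17, nat_lit 16), (nat_lit 0, nat_lit 0, nat_lit 17), (nat_lit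 0, nat_lit 0, nat_lit 18), (nat_lit 0, nat_lit 0, nat_lit 3), (nat_lit 1, nat_lit 14, nat_lit 0), (nat_lit 1, nat_lit 1, nat_lit 0), (nat_lit 0, nat_lit 16, nat_lit 16), (nat_lit 0, nat_lit 0, nat_lit 17), (nat_lit 0, nat_lit 0, nat_lit 4), (nat_lit 0, nat_lit 0, nat_lit 19), (nat_lit 0, nat_lit 0, nat_lit 20), (nat_lit 0, nat_lit 0, nat_lit 21), (nat_lit 0, nat_lit 0, nat_lit 22), (nat_lit 0, nat_lit 8, nat_lit 8), (nat_lit 0, nat_lit 0, nat_lit 1), (nat_lit 0, nat_lit 25, nat_lit 11), (nat_lit 0, nat_lit 0, nat_lit 12), (nat_lit 0, nat_lit 0, nat_lit 27), (nat_lit 0, nat_lit 0, nat_lit 14), (nat_lit 0, nat_lit 0, nat_lit 29), (nat_lit 0, nat_lit 0, nat_lit 30), (nat_lit 0, nat_lit 0, nat_lit 17), (nat_lit 0, nat_lit 16, nat_lit 0), (nat_lit 1, nat_lit 8, nat_lit 0), (nat_lit 1, nat_lit 1, nat_lit 0), (nat_lit 0, nat_lit 2, nat_lit 2), (nat_lit 0, nat_lit 0, nat_lit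 3), (nat_lit 0, nat_lit 0, nat_lit 12), (nat_lit 0, nat_lit 0, nat_lit 13), (nat_lit 0, nat_lit 4, nat_lit 5), (nat_lit 0, nat_lit 0, nat_lit 1), (nat_lit 0, nat_lit 16, nat_lit 8), (nat_lit 0, nat_lit 0, nat_lit 9), (nat_lit 0, nat_lit 0, nat_lit 18), (nat_lit 0, nat_lit 0, nat_lit 11), (nat_lit 0, nat_lit 0, nat_lit 12), (nat_lit 0, nat_lit 0, nat_lit 21), (nat_lit 0, nat_lit 7, nat_lit 12), (nat_lit 0, nat_lit 0, nat_lit 1), (nat_lit 0, nat_lit 10, nat_lit 16), (nat_lit 0, nat_lit 0, nat_lit 17), (nat_lit 0, nat_lit 0, nat_lit 18), (nat_lit 0, nat_lit 18, nat_lit 17), (nat_lit 0, nat_lit 0, nat_lit 18), (nat_lit 0, nat_lit 0, nat_lit 20), (nat_lit 0, nat_lit 0, nat_lit 21), (nat_lit 0, nat_lit 0, nat_lit 4), (nat_lit 0, nat_lit 14, nat_lit 24), (nat_lit 0, nat_lit 0, nat_lit 33), (nat_lit 0, nat_lit 0, nat_lit 34), (nat_lit 0, nat_lit 0, nat_lit 35), (nat_lit 0,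 nat_lit 0, nat_lit 28), (nat_lit 0, nat_lit 0, nat_lit 37), (nat_lit 0, nat_lit 0, nat_lit 30), (nat_lit 0, nat_lit 0, nat_lit 31), (nat_lit 0, nat_lit 25, nat_lit 31), (nat_lit 0, nat_lit 0, nat_lit 31), (nat_lit 0, nat_lit 0, nat_lit 32), (nat_lit 0, nat_lit 0, nat_lit 3), (nat_lit 1, nat_lit 28, nat_lit 0), (nat_lit 1, nat_lit 13, nat_lit 0), (nat_lit 0, nat_lit 30, nat_lit 14), (nat_lit 0, nat_lit 0, nat_lit 31), (nat_lit 0, nat_lit 0, nat_lit 24), (nat_lit 0, nat_lit 0, nat_lit 5), (nat_lit 0, nat_lit 0, nat_lit 26), (nat_lit 0, nat_lit 0, nat_lit 27), (nat_lit 0, nat_lit 0, nat_lit 28), (nat_lit 0, nat_lit 0, nat_lit 29), (nat_lit 0, nat_lit 0, nat_lit 30), (nat_lit 0, nat_lit 0, nat_lit 11), (nat_lit 0, nat_lit 10, nat_lit 11), (nat_lit 0, nat_lit 0, nat_lit 1)]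
def m22_R2_s0 : Nat := nat_lit 0xb85846ca96819654bc68155c79c540
def m22_R2_s1 : Nat := nat_lit 0xbda2c2bc893c90b8368610eb353820
def m22_R2_s2 : Nat := nat_lit 0xbd528546d3590e51b24e7d20668820
def m22_R2_s3 : Nat := nat_lit 0xbae957b6289ba44b1cd0524ac18820
def m22_R2_s4 : Nat := nat_lit 0xba613220aa3c5f25d4cc6d9d418820
def m22_R2_s5 : Nat := nat_lit 0xbc12ba18ad946c79b11553dc418820
noncomputable def m22_R2_lev0 : Core.Lev := Core.mkLev m22_n m22_w m22_mask m22_L m22_maskL m22_idc (nat_lit 1) [m22_R2_s5, m22_R2_s3, m22_R2_s4, m22_R2_s2, m22_R2_s1, m22_R2_s0] [(nat_lit 10, m22_R2_s0, nat_lit 1), (nat_lit 12, m22_R2_s5, nat_lit 10), (nat_lit 7, m22_R2_s3, nat_lit 10), (nat_lit 21, m22_R2_s4, nat_lit 10), (nat_lit 13, m22_R2_s1, nat_lit 10), (nat_lit 15, m22_R2_s0, nat_lit 10), (nat_lit 4, m22_R2_s3, nat_lit 12), (nat_lit 18, m22_R2_s4, nat_lit 12), (nat_lit 5, m22_R2_s2,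 nat_lit 12), (nat_lit 11, m22_R2_s1, nat_lit 12), (nat_lit 2, m22_R2_s1, nat_lit 7), (nat_lit 9, m22_R2_s5, nat_lit 21), (nat_lit 20, m22_R2_s3, nat_lit 21), (nat_lit 16, m22_R2_s4, nat_lit 21), (nat_lit 17, m22_R2_s1, nat_lit 21), (nat_lit 22, m22_R2_s5, nat_lit 13), (nat_lit 8, m22_R2_s1, nat_lit 13), (nat_lit 19, m22_R2_s3, nat_lit 15), (nat_lit 6, m22_R2_s2, nat_lit 4), (nat_lit 14, m22_R2_s5, nat_lit 5), (nat_lit 3, m22_R2_s2, nat_lit 11)]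
noncomputable def m22_R2_lev1 : Core.Lev := Core.mkLev m22_n m22_w m22_mask m22_L m22_maskL m22_idc (nat_lit 2) [m22_R2_s5, m22_R2_s3, m22_R2_s4, m22_R2_s2, m22_R2_s1] [(nat_lit 14, m22_R2_s1, nat_lit 2), (nat_lit 17, m22_R2_s5, nat_lit 14), (nat_lit 4, m22_R2_s2, nat_lit 14), (nat_lit 18, m22_R2_s1, nat_lit 14), (nat_lit 5, m22_R2_s5, nat_lit 17), (nat_lit 22, m22_R2_s2, nat_lit 17), (nat_lit 12, m22_R2_s3, nat_lit 4), (nat_lit 20, m22_R2_s4, nat_lit 4), (nat_lit 6, m22_R2_s2, nat_lit 4), (nat_lit 19, m22_R2_s1, nat_lit 4), (nat_lit 13, m22_R2_s3, nat_lit 18), (nat_lit 8, m22_R2_s4, nat_lit 18), (nat_lit 15, m22_R2_s1, nat_lit 18), (nat_lit 16, m22_R2_s2, nat_lit 5), (nat_lit 21, m22_R2_s1, nat_lit 5), (nat_lit 11, m22_R2_s3, nat_lit 22), (nat_lit 9, m22_R2_s4, nat_lit 22), (nat_lit 7, m22_R2_s5, nat_lit 12), (nat_lit 3, m22_R2_s1, nat_lit 6), (nat_lit 10, m22_R2_s2,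 nat_lit 19)]
noncomputable def m22_R2_lev2 : Core.Lev := Core.mkLev m22_n m22_w m22_mask m22_L m22_maskL m22_idc (nat_lit 3) [m22_R2_s5, m22_R2_s3, m22_R2_s4, m22_R2_s2] [(nat_lit 13, m22_R2_s2, nat_lit 3), (nat_lit 22, m22_R2_s5, nat_lit 13), (nat_lit 18, m22_R2_s3, nat_lit 13), (nat_lit 15, m22_R2_s4, nat_lit 13), (nat_lit 7, m22_R2_s2, nat_lit 13), (nat_lit 16, m22_R2_s5, nat_lit 22), (nat_lit 11, m22_R2_s3, nat_lit 22), (nat_lit 9, m22_R2_s4, nat_lit 22), (nat_lit 21, m22_R2_s2, nat_lit 22), (nat_lit 6, m22_R2_s5, nat_lit 18), (nat_lit 8, m22_R2_s4, nat_lit 18), (nat_lit 17, m22_R2_s2, nat_lit 18), (nat_lit 19, m22_R2_s3, nat_lit 15), (nat_lit 10, m22_R2_s5, nat_lit 7), (nat_lit 20, m22_R2_s3, nat_lit 21), (nat_lit 12, m22_R2_s4, nat_lit 8), (nat_lit 14, m22_R2_s2, nat_lit 8), (nat_lit 5, m22_R2_s5, nat_lit 17), (nat_lit 4, m22_R2_s4, nat_lit 19)]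
noncomputable def m22_R2_lev3 : Core.Lev := Core.mkLev m22_n m22_w m22_mask m22_L m22_maskL m22_idc (nat_lit 4) [m22_R2_s5, m22_R2_s3, m22_R2_s4] [(nat_lit 12, m22_R2_s3, nat_lit 4), (nat_lit 20, m22_R2_s4, nat_lit 4), (nat_lit 7, m22_R2_s5, nat_lit 12), (nat_lit 18, m22_R2_s4, nat_lit 12), (nat_lit 11, m22_R2_s5, nat_lit 20), (nat_lit 21, m22_R2_s3, nat_lit 20), (nat_lit 19, m22_R2_s4, nat_lit 20), (nat_lit 10, m22_R2_s5, nat_lit 7), (nat_lit 13, m22_R2_s4, nat_lit 7), (nat_lit 6, m22_R2_s5, nat_lit 18), (nat_lit 8, m22_R2_s4, nat_lit 18), (nat_lit 22, m22_R2_s3, nat_lit 11), (nat_lit 9, m22_R2_s5, nat_lit 21), (nat_lit 16, m22_R2_s4, nat_lit 21), (nat_lit 15, m22_R2_s3, nat_lit 19)]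
noncomputable def m22_R2_lev4 : Core.Lev := Core.mkLev m22_n m22_w m22_mask m22_L m22_maskL m22_idc (nat_lit 5) [m22_R2_s5] [(nat_lit 14, m22_R2_s5, nat_lit 5), (nat_lit 17, m22_R2_s5, nat_lit 14)]
noncomputable def m22_R2_levels : List Core.Lev := [m22_R2_lev0, m22_R2_lev1, m22_R2_lev2, m22_R2_lev3, m22_R2_lev4]

noncomputable def m22_R2_cert : Simple.RepCert := ⟨nat_lit 0xbb8730ae28b3544abe8c4c8a2340e0, [(nat_lit 0, nat_lit 0, nat_lit 1), (nat_lit 0, nat_lit 0, nat_lit 2), (nat_lit 0, nat_lit 0, nat_lit 2), (nat_lit 0, nat_lit 0, nat_lit 4), (nat_lit 0, nat_lit 0, nat_lit 5), (nat_lit 0, nat_lit 0, nat_lit 6), (nat_lit 0, nat_lit 0, nat_lit 7), (nat_lit 0, nat_lit 0, nat_lit 8), (nat_lit 0, nat_lit 0, nat_lit 9), (nat_lit 0, nat_lit 10, nat_lit 9), (nat_lit 0, nat_lit 0, nat_lit 11), (nat_lit 0, nat_lit 0, nat_lit 11), (nat_lit 0, nat_lit 0, nat_lit 12)], [(nat_lit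 0xb85846ca96819654bc68155c79c540, nat_lit 0xbba8a78a4d29aa98b02bb1d0324e00), (nat_lit 0xbda2c2bc893c90b8368610eb353820, nat_lit 0xba2704c6cf69862229676542e2ca80)], m22_R2_prog, m22_R2_levels⟩

def m22_R3_T : List Nat := [nat_lit 0xbda7070d316514d792a29150131d60, nat_lit 0xb8dd2645446bc50a1ec1299699a2a0]
def m22_R3_prog : List (Nat × Nat × Nat) := [(nat_lit 1, nat_lit 1, nat_lit 0), (nat_lit 1, nat_lit 1, nat_lit 0), (nat_lit 0, nat_lit 3, nat_lit 2), (nat_lit 0, nat_lit 0, nat_lit 3), (nat_lit 0, nat_lit 0, nat_lit 5), (nat_lit 0, nat_lit 0, nat_lit 6), (nat_lit 0, nat_lit 0, nat_lit 7), (nat_lit 0, nat_lit 0, nat_lit 7), (nat_lit 0, nat_lit 0, nat_lit 9), (nat_lit 0, nat_lit 0, nat_lit 9), (nat_lit 0, nat_lit 9, nat_lit 8), (nat_lit 0, nat_lit 0, nat_lit 10), (nat_lit 0, nat_lit 0, nat_lit 11), (nat_lit 0, nat_lit 0, nat_lit 12), (nat_lit 0, nat_lit 0, nat_lit 12),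 (nat_lit 0, nat_lit 0, nat_lit 5), (nat_lit 0, nat_lit 17, nat_lit 17), (nat_lit 0, nat_lit 0, nat_lit 18), (nat_lit 0, nat_lit 0, nat_lit 19), (nat_lit 0, nat_lit 0, nat_lit 20), (nat_lit 0, nat_lit 0, nat_lit 20), (nat_lit 0, nat_lit 0, nat_lit 22), (nat_lit 0, nat_lit 0, nat_lit 22), (nat_lit 0, nat_lit 0, nat_lit 24), (nat_lit 0, nat_lit 23, nat_lit 23), (nat_lit 0, nat_lit 0, nat_lit 23), (nat_lit 0, nat_lit 0, nat_lit 2), (nat_lit 1, nat_lit 11, nat_lit 0), (nat_lit 1, nat_lit 1, nat_lit 0), (nat_lit 0, nat_lit 13, nat_lit 2), (nat_lit 0, nat_lit 0, nat_lit 14), (nat_lit 0, nat_lit 0, nat_lit 4), (nat_lit 0, nat_lit 0, nat_lit 16), (nat_lit 0, nat_lit 0, nat_lit 17), (nat_lit 0, nat_lit 0, nat_lit 18), (nat_lit 0, nat_lit 0, nat_lit 8), (nat_lit 0, nat_lit 0, nat_lit 9), (nat_lit 0, nat_lit 0, nat_lit 21), (nat_lit 0, nat_lit 0, nat_lit 11), (nat_lit 0, nat_lit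 11, nat_lit 10), (nat_lit 0, nat_lit 0, nat_lit 11), (nat_lit 0, nat_lit 0, nat_lit 12), (nat_lit 0, nat_lit 0, nat_lit 14), (nat_lit 0, nat_lit 0, nat_lit 4), (nat_lit 0, nat_lit 17, nat_lit 17), (nat_lit 0, nat_lit 0, nat_lit 29), (nat_lit 0, nat_lit 0, nat_lit 30), (nat_lit 0, nat_lit 0, nat_lit 20), (nat_lit 0, nat_lit 0, nat_lit 21), (nat_lit 0, nat_lit 0, nat_lit 22), (nat_lit 0, nat_lit 0, nat_lit 34), (nat_lit 0, nat_lit 0, nat_lit 24), (nat_lit 0, nat_lit 0, nat_lit 36), (nat_lit 0, nat_lit 0, nat_lit 37), (nat_lit 0, nat_lit 25, nat_lit 26), (nat_lit 0, nat_lit 0, nat_lit 27), (nat_lit 0, nat_lit 0, nat_lit 2), (nat_lit 1, nat_lit 13, nat_lit 0), (nat_lit 1, nat_lit 1, nat_lit 0), (nat_lit 0, nat_lit 2, nat_lit 2), (nat_lit 0, nat_lit 0, nat_lit 3), (nat_lit 0, nat_lit 0, nat_lit 4), (nat_lit 0, nat_lit 0, nat_lit 18), (nat_lit 0, nat_lit 0, nat_lit 6), (nat_lit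 0, nat_lit 0, nat_lit 7), (nat_lit 0, nat_lit 6, nat_lit 6), (nat_lit 0, nat_lit 0, nat_lit 7), (nat_lit 0, nat_lit 0, nat_lit 9), (nat_lit 0, nat_lit 0, nat_lit 3), (nat_lit 0, nat_lit 9, nat_lit 25), (nat_lit 0, nat_lit 0, nat_lit 26), (nat_lit 0, nat_lit 0, nat_lit 14), (nat_lit 0, nat_lit 0, nat_lit 28), (nat_lit 0, nat_lit 0, nat_lit 29), (nat_lit 0, nat_lit 0, nat_lit 30), (nat_lit 0, nat_lit 0, nat_lit 31), (nat_lit 0, nat_lit 0, nat_lit 32), (nat_lit 0, nat_lit 19, nat_lit 18), (nat_lit 0, nat_lit 0, nat_lit 20), (nat_lit 0, nat_lit 0, nat_lit 21), (nat_lit 0, nat_lit 0, nat_lit 3), (nat_lit 0, nat_lit 24, nat_lit 37), (nat_lit 0, nat_lit 0, nat_lit 38), (nat_lit 0, nat_lit 0, nat_lit 39), (nat_lit 0, nat_lit 14, nat_lit 27), (nat_lit 0, nat_lit 0, nat_lit 41), (nat_lit 0, nat_lit 0, nat_lit 42), (nat_lit 0, nat_lit 0, nat_lit 30), (nat_lit 0, nat_lit 0, nat_lit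 44), (nat_lit 0, nat_lit 0, nat_lit 32), (nat_lit 0, nat_lit 0, nat_lit 46), (nat_lit 0, nat_lit 0, nat_lit 34), (nat_lit 0, nat_lit 0, nat_lit 35), (nat_lit 0, nat_lit 26, nat_lit 0), (nat_lit 0, nat_lit 50, nat_lit 37), (nat_lit 0, nat_lit 0, nat_lit 51), (nat_lit 0, nat_lit 0, nat_lit 52), (nat_lit 0, nat_lit 0, nat_lit 53), (nat_lit 0, nat_lit 0, nat_lit 54), (nat_lit 0, nat_lit 0, nat_lit 55), (nat_lit 0, nat_lit 34, nat_lit 0), (nat_lit 0, nat_lit 17, nat_lit 44), (nat_lit 0, nat_lit 0, nat_lit 58), (nat_lit 0, nat_lit 0, nat_lit 46), (nat_lit 0, nat_lit 46, nat_lit 46), (nat_lit 0, nat_lit 0, nat_lit 46), (nat_lit 0, nat_lit 0, nat_lit 2), (nat_lit 1, nat_lit 38, nat_lit 0), (nat_lit 1, nat_lit 7, nat_lit 0), (nat_lit 0, nat_lit 2, nat_lit 15), (nat_lit 0, nat_lit 0, nat_lit 16), (nat_lit 0, nat_lit 0, nat_lit 4), (nat_lit 0, nat_lit 0, nat_lit 18), (nat_lit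 0, nat_lit 0, nat_lit 19), (nat_lit 0, nat_lit 0, nat_lit 7), (nat_lit 0, nat_lit 0, nat_lit 8), (nat_lit 0, nat_lit 7, nat_lit 8), (nat_lit 0, nat_lit 0, nat_lit 1)]
def m22_R3_s0 : Nat := nat_lit 0xbda7070d316514d792a29150131d60
def m22_R3_s1 : Nat := nat_lit 0xbb8aba3d3511d519a18db1a041c820
def m22_R3_s2 : Nat := nat_lit 0xbc2837ca64899a8615cb524f6a8820
def m22_R3_s3 : Nat := nat_lit 0xba613220aa3c5f25d4cc6d9d418820
def m22_R3_s4 : Nat := nat_lit 0xbd17661a2a23933ac1a7448af18820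
def m22_R3_s5 : Nat := nat_lit 0xbb5135bdd63160aa1ea964a2418820
noncomputable def m22_R3_lev0 : Core.Lev := Core.mkLev m22_n m22_w m22_mask m22_L m22_maskL m22_idc (nat_lit 1) [m22_R3_s5, m22_R3_s3, m22_R3_s4, m22_R3_s2, m22_R3_s1, m22_R3_s0] [(nat_lit 11, m22_R3_s0, nat_lit 1), (nat_lit 20, m22_R3_s5, nat_lit 11), (nat_lit 21, m22_R3_s4, nat_lit 11), (nat_lit 12, m22_R3_s2, nat_lit 11), (nat_lit 19, m22_R3_s1, nat_lit 11), (nat_lit 15, m22_R3_s0, nat_lit 11), (nat_lit 22, m22_R3_s4, nat_lit 20), (nat_lit 3, m22_R3_s2, nat_lit 20), (nat_lit 16, m22_R3_s0, nat_lit 20), (nat_lit 8, m22_R3_s5, nat_lit 21), (nat_lit 5, m22_R3_s1, nat_lit 21), (nat_lit 10, m22_R3_s5, nat_lit 12), (nat_lit 18, m22_R3_s3, nat_lit 12), (nat_lit 17, m22_R3_s1, nat_lit 12), (nat_lit 13, m22_R3_s0, nat_lit 12), (nat_lit 4, m22_R3_s3, nat_lit 19), (nat_lit 14, m22_R3_s0, nat_lit 19), (nat_lit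 6, m22_R3_s5, nat_lit 15), (nat_lit 7, m22_R3_s3, nat_lit 15), (nat_lit 2, m22_R3_s1, nat_lit 15), (nat_lit 9, m22_R3_s3, nat_lit 22)]
noncomputable def m22_R3_lev1 : Core.Lev := Core.mkLev m22_n m22_w m22_mask m22_L m22_maskL m22_idc (nat_lit 2) [m22_R3_s5, m22_R3_s3, m22_R3_s4, m22_R3_s2, m22_R3_s1] [(nat_lit 18, m22_R3_s1, nat_lit 2), (nat_lit 15, m22_R3_s5, nat_lit 18), (nat_lit 8, m22_R3_s3, nat_lit 18), (nat_lit 6, m22_R3_s4, nat_lit 18), (nat_lit 7, m22_R3_s3, nat_lit 15), (nat_lit 4, m22_R3_s4, nat_lit 15), (nat_lit 17, m22_R3_s2, nat_lit 15), (nat_lit 9, m22_R3_s5, nat_lit 8), (nat_lit 12, m22_R3_s3, nat_lit 8), (nat_lit 11, m22_R3_s2, nat_lit 8), (nat_lit 13, m22_R3_s1, nat_lit 8), (nat_lit 22, m22_R3_s3, nat_lit 6), (nat_lit 10, m22_R3_s2, nat_lit 7), (nat_lit 20, m22_R3_s3, nat_lit 4), (nat_lit 14, m22_R3_s5, nat_lit 17), (nat_lit 5, m22_R3_s3, nat_lit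 17), (nat_lit 19, m22_R3_s2, nat_lit 17), (nat_lit 21, m22_R3_s5, nat_lit 9), (nat_lit 16, m22_R3_s5, nat_lit 13), (nat_lit 3, m22_R3_s2, nat_lit 20)]
noncomputable def m22_R3_lev2 : Core.Lev := Core.mkLev m22_n m22_w m22_mask m22_L m22_maskL m22_idc (nat_lit 3) [m22_R3_s5, m22_R3_s3, m22_R3_s4, m22_R3_s2] [(nat_lit 21, m22_R3_s2, nat_lit 3), (nat_lit 8, m22_R3_s5, nat_lit 21), (nat_lit 16, m22_R3_s3, nat_lit 21), (nat_lit 11, m22_R3_s4, nat_lit 21), (nat_lit 20, m22_R3_s2, nat_lit 21), (nat_lit 9, m22_R3_s5, nat_lit 8), (nat_lit 12, m22_R3_s3, nat_lit 8), (nat_lit 7, m22_R3_s4, nat_lit 8), (nat_lit 22, m22_R3_s5, nat_lit 16), (nat_lit 10, m22_R3_s3, nat_lit 16), (nat_lit 4, m22_R3_s2, nat_lit 16), (nat_lit 19, m22_R3_s5, nat_lit 20), (nat_lit 6, m22_R3_s3, nat_lit 9), (nat_lit 13, m22_R3_s4, nat_lit 9), (nat_lit 14, m22_R3_s2, nat_lit 9), (nat_lit 18, m22_R3_s3, nat_lit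 12), (nat_lit 5, m22_R3_s2, nat_lit 10), (nat_lit 15, m22_R3_s4, nat_lit 4), (nat_lit 17, m22_R3_s3, nat_lit 14)]
noncomputable def m22_R3_lev3 : Core.Lev := Core.mkLev m22_n m22_w m22_mask m22_L m22_maskL m22_idc (nat_lit 4) [m22_R3_s5, m22_R3_s3, m22_R3_s4] [(nat_lit 20, m22_R3_s3, nat_lit 4), (nat_lit 15, m22_R3_s4, nat_lit 4), (nat_lit 19, m22_R3_s5, nat_lit 20), (nat_lit 22, m22_R3_s4, nat_lit 20), (nat_lit 6, m22_R3_s5, nat_lit 15), (nat_lit 7, m22_R3_s3, nat_lit 15), (nat_lit 11, m22_R3_s5, nat_lit 19), (nat_lit 12, m22_R3_s4, nat_lit 19), (nat_lit 13, m22_R3_s5, nat_lit 22), (nat_lit 9, m22_R3_s3, nat_lit 22), (nat_lit 18, m22_R3_s5, nat_lit 6), (nat_lit 8, m22_R3_s4, nat_lit 7), (nat_lit 21, m22_R3_s4, nat_lit 11), (nat_lit 10, m22_R3_s5, nat_lit 12), (nat_lit 16, m22_R3_s5, nat_lit 13)]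
noncomputable def m22_R3_lev4 : Core.Lev := Core.mkLev m22_n m22_w m22_mask m22_L m22_maskL m22_idc (nat_lit 5) [m22_R3_s5] [(nat_lit 17, m22_R3_s5, nat_lit 5), (nat_lit 14, m22_R3_s5, nat_lit 17)]
noncomputable def m22_R3_levels : List Core.Lev := [m22_R3_lev0, m22_R3_lev1, m22_R3_lev2, m22_R3_lev3, m22_R3_lev4]

noncomputable def m22_R3_cert : Simple.RepCert := ⟨nat_lit 0xbaa83448813560e3a5eb68acc89660, [(nat_lit 0, nat_lit 1, nat_lit 0), (nat_lit 0, nat_lit 0, nat_lit 1), (nat_lit 0, nat_lit 0, nat_lit 3), (nat_lit 0, nat_lit 0, nat_lit 3), (nat_lit 0, nat_lit 0, nat_lit 5), (nat_lit 0, nat_lit 0, nat_lit 5), (nat_lit 0, nat_lit 0, nat_lit 7), (nat_lit 0, nat_lit 0, nat_lit 7), (nat_lit 0, nat_lit 0, nat_lit 8), (nat_lit 0, nat_lit 0, nat_lit 10), (nat_lit 0, nat_lit 0, nat_lit 11), (nat_lit 0, nat_lit 0, nat_lit 11), (nat_lit 0, nat_lit 12, nat_lit 12), (nat_lit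 0, nat_lit 0, nat_lit 14), (nat_lit 0, nat_lit 0, nat_lit 14), (nat_lit 0, nat_lit 0, nat_lit 16), (nat_lit 0, nat_lit 0, nat_lit 17), (nat_lit 0, nat_lit 0, nat_lit 18), (nat_lit 0, nat_lit 0, nat_lit 18), (nat_lit 0, nat_lit 0, nat_lit 19), (nat_lit 0, nat_lit 0, nat_lit 20), (nat_lit 0, nat_lit 0, nat_lit 21), (nat_lit 0, nat_lit 0, nat_lit 22), (nat_lit 0, nat_lit 0, nat_lit 24), (nat_lit 0, nat_lit 0, nat_lit 25), (nat_lit 0, nat_lit 0, nat_lit 26)], [(nat_lit 0xbda7070d316514d792a29150131d60, nat_lit 0xbd4662590da49875cdc17c1222c540), (nat_lit 0xb8dd2645446bc50a1ec1299699a2a0, nat_lit 0xbc936a9a68390507c54e6968c1ac20)], m22_R3_prog, m22_R3_levels⟩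

def m22_R4_T : List Nat := [nat_lit 0xbbe233b12d140a824a74586ae32ac0, nat_lit 0xb99f6539954a165151a1810f29c460]
def m22_R4_prog : List (Nat × Nat × Nat) := [(nat_lit 1, nat_lit 1, nat_lit 0), (nat_lit 1, nat_lit 1, nat_lit 0), (nat_lit 0, nat_lit 2, nat_lit 2), (nat_lit 0, nat_lit 0, nat_lit 4), (nat_lit 0, nat_lit 0, nat_lit 4), (nat_lit 0, nat_lit 0, nat_lit 5), (nat_lit 0, nat_lit 0, nat_lit 6), (nat_lit 0, nat_lit 0, nat_lit 7), (nat_lit 0, nat_lit 0, nat_lit 9), (nat_lit 0, nat_lit 0, nat_lit 9), (nat_lit 0, nat_lit 0, nat_lit 11), (nat_lit 0, nat_lit 9, nat_lit 9), (nat_lit 0, nat_lit 0, nat_lit 10), (nat_lit 0, nat_lit 0, nat_lit 2), (nat_lit 0, nat_lit 15, nat_lit 14), (nat_lit 0, nat_lit 0, nat_lit 16), (nat_lit 0, nat_lit 0, nat_lit 17), (nat_lit 0, nat_lit 0, nat_lit 18), (nat_lit 0, nat_lit 0, nat_lit 18), (nat_lit 0, nat_lit 0, nat_lit 19), (nat_lit 0,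 nat_lit 0, nat_lit 20), (nat_lit 0, nat_lit 0, nat_lit 21), (nat_lit 0, nat_lit 0, nat_lit 23), (nat_lit 0, nat_lit 0, nat_lit 24), (nat_lit 0, nat_lit 0, nat_lit 24), (nat_lit 0, nat_lit 24, nat_lit 23), (nat_lit 0, nat_lit 0, nat_lit 1), (nat_lit 1, nat_lit 13, nat_lit 0), (nat_lit 1, nat_lit 1, nat_lit 0), (nat_lit 0, nat_lit 2, nat_lit 15), (nat_lit 0, nat_lit 0, nat_lit 16), (nat_lit 0, nat_lit 0, nat_lit 17), (nat_lit 0, nat_lit 0, nat_lit 18), (nat_lit 0, nat_lit 0, nat_lit 6), (nat_lit 0, nat_lit 0, nat_lit 7), (nat_lit 0, nat_lit 0, nat_lit 21), (nat_lit 0, nat_lit 8, nat_lit 8), (nat_lit 0, nat_lit 0, nat_lit 8), (nat_lit 0, nat_lit 0, nat_lit 10), (nat_lit 0, nat_lit 0, nat_lit 3), (nat_lit 0, nat_lit 26, nat_lit 26), (nat_lit 0, nat_lit 0, nat_lit 14), (nat_lit 0, nat_lit 0, nat_lit 15), (nat_lit 0, nat_lit 0, nat_lit 16), (nat_lit 0, nat_lit 0, nat_lit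 17), (nat_lit 0, nat_lit 0, nat_lit 18), (nat_lit 0, nat_lit 0, nat_lit 32), (nat_lit 0, nat_lit 0, nat_lit 33), (nat_lit 0, nat_lit 0, nat_lit 34), (nat_lit 0, nat_lit 0, nat_lit 35), (nat_lit 0, nat_lit 22, nat_lit 21), (nat_lit 0, nat_lit 0, nat_lit 22), (nat_lit 0, nat_lit 0, nat_lit 2), (nat_lit 1, nat_lit 13, nat_lit 0), (nat_lit 1, nat_lit 1, nat_lit 0), (nat_lit 0, nat_lit 2, nat_lit 15), (nat_lit 0, nat_lit 0, nat_lit 16), (nat_lit 0, nat_lit 0, nat_lit 4), (nat_lit 0, nat_lit 3, nat_lit 3), (nat_lit 0, nat_lit 0, nat_lit 4), (nat_lit 0, nat_lit 0, nat_lit 2), (nat_lit 0, nat_lit 8, nat_lit 8), (nat_lit 0, nat_lit 0, nat_lit 9), (nat_lit 0, nat_lit 8, nat_lit 9), (nat_lit 0, nat_lit 0, nat_lit 9), (nat_lit 0, nat_lit 0, nat_lit 11), (nat_lit 0, nat_lit 26, nat_lit 26), (nat_lit 0, nat_lit 4, nat_lit 27), (nat_lit 0, nat_lit 0, nat_lit 15), (nat_lit 0, nat_lit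 0, nat_lit 16), (nat_lit 0, nat_lit 0, nat_lit 30), (nat_lit 0, nat_lit 12, nat_lit 0), (nat_lit 0, nat_lit 5, nat_lit 32), (nat_lit 0, nat_lit 17, nat_lit 20), (nat_lit 0, nat_lit 0, nat_lit 21), (nat_lit 0, nat_lit 0, nat_lit 22), (nat_lit 0, nat_lit 0, nat_lit 36), (nat_lit 0, nat_lit 0, nat_lit 37), (nat_lit 0, nat_lit 12, nat_lit 0), (nat_lit 0, nat_lit 6, nat_lit 26), (nat_lit 0, nat_lit 26, nat_lit 25), (nat_lit 0, nat_lit 0, nat_lit 26), (nat_lit 0, nat_lit 2, nat_lit 42), (nat_lit 0, nat_lit 0, nat_lit 30), (nat_lit 0, nat_lit 0, nat_lit 44), (nat_lit 0, nat_lit 3, nat_lit 0), (nat_lit 0, nat_lit 26, nat_lit 9), (nat_lit 1, nat_lit 15, nat_lit 0), (nat_lit 0, nat_lit 2, nat_lit 16), (nat_lit 0, nat_lit 0, nat_lit 3), (nat_lit 0, nat_lit 0, nat_lit 4), (nat_lit 0, nat_lit 0, nat_lit 12), (nat_lit 0, nat_lit 4, nat_lit 0)]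
def m22_R4_s0 : Nat := nat_lit 0xbbe233b12d140a824a74586ae32ac0
def m22_R4_s1 : Nat := nat_lit 0xba083719747a607132d3929b12d420
def m22_R4_s2 : Nat := nat_lit 0xbd4af8b0874c0cb92a8870ed368820
def m22_R4_s3 : Nat := nat_lit 0xbce8d549c7216ab45a0c4be2618820
def m22_R4_s4 : Nat := nat_lit 0xb926faa22da3a0b6255231cb618820
def m22_R4_s5 : Nat := nat_lit 0xbb5135bdd63160aa1ea964a2418820
noncomputable def m22_R4_lev0 : Core.Lev := Core.mkLev m22_n m22_w m22_mask m22_L m22_maskL m22_idc (nat_lit 1) [m22_R4_s5, m22_R4_s3, m22_R4_s4, m22_R4_s2, m22_R4_s1, m22_R4_s0] [(nat_lit 22, m22_R4_s0, nat_lit 1), (nat_lit 13, m22_R4_s5, nat_lit 22), (nat_lit 19, m22_R4_s3, nat_lit 22), (nat_lit 4, m22_R4_s4, nat_lit 22), (nat_lit 21, m22_R4_s2, nat_lit 22), (nat_lit 8, m22_R4_s1, nat_lit 22), (nat_lit 15, m22_R4_s0, nat_lit 22), (nat_lit 16, m22_R4_s5, nat_lit 13), (nat_lit 6, m22_R4_s2,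 nat_lit 13), (nat_lit 5, m22_R4_s0, nat_lit 13), (nat_lit 11, m22_R4_s5, nat_lit 19), (nat_lit 10, m22_R4_s3, nat_lit 19), (nat_lit 17, m22_R4_s2, nat_lit 19), (nat_lit 14, m22_R4_s1, nat_lit 19), (nat_lit 7, m22_R4_s0, nat_lit 19), (nat_lit 20, m22_R4_s3, nat_lit 21), (nat_lit 9, m22_R4_s5, nat_lit 8), (nat_lit 12, m22_R4_s3, nat_lit 8), (nat_lit 18, m22_R4_s4, nat_lit 8), (nat_lit 2, m22_R4_s0, nat_lit 15), (nat_lit 3, m22_R4_s2, nat_lit 6)]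
noncomputable def m22_R4_lev1 : Core.Lev := Core.mkLev m22_n m22_w m22_mask m22_L m22_maskL m22_idc (nat_lit 2) [m22_R4_s5, m22_R4_s3, m22_R4_s4, m22_R4_s2, m22_R4_s1] [(nat_lit 21, m22_R4_s1, nat_lit 2), (nat_lit 8, m22_R4_s5, nat_lit 21), (nat_lit 20, m22_R4_s3, nat_lit 21), (nat_lit 19, m22_R4_s4, nat_lit 21), (nat_lit 5, m22_R4_s2, nat_lit 21), (nat_lit 4, m22_R4_s1, nat_lit 21), (nat_lit 9, m22_R4_s5, nat_lit 8), (nat_lit 12, m22_R4_s3, nat_lit 8), (nat_lit 18, m22_R4_s4, nat_lit 8), (nat_lit 13, m22_R4_s3, nat_lit 20), (nat_lit 15, m22_R4_s4, nat_lit 20), (nat_lit 3, m22_R4_s1, nat_lit 20), (nat_lit 11, m22_R4_s5, nat_lit 19), (nat_lit 10, m22_R4_s3, nat_lit 19), (nat_lit 17, m22_R4_s2, nat_lit 19), (nat_lit 14, m22_R4_s1, nat_lit 19), (nat_lit 22, m22_R4_s2, nat_lit 5), (nat_lit 6, m22_R4_s3, nat_lit 4), (nat_lit 16, m22_R4_s3, nat_lit 9), (nat_lit 7, m22_R4_s1,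 nat_lit 12)]
noncomputable def m22_R4_lev2 : Core.Lev := Core.mkLev m22_n m22_w m22_mask m22_L m22_maskL m22_idc (nat_lit 3) [m22_R4_s5, m22_R4_s3, m22_R4_s4, m22_R4_s2] [(nat_lit 13, m22_R4_s2, nat_lit 3), (nat_lit 16, m22_R4_s5, nat_lit 13), (nat_lit 21, m22_R4_s3, nat_lit 13), (nat_lit 6, m22_R4_s2, nat_lit 13), (nat_lit 22, m22_R4_s5, nat_lit 16), (nat_lit 7, m22_R4_s3, nat_lit 16), (nat_lit 8, m22_R4_s5, nat_lit 21), (nat_lit 20, m22_R4_s3, nat_lit 21), (nat_lit 19, m22_R4_s4, nat_lit 21), (nat_lit 5, m22_R4_s2, nat_lit 21), (nat_lit 18, m22_R4_s5, nat_lit 6), (nat_lit 15, m22_R4_s3, nat_lit 6), (nat_lit 4, m22_R4_s4, nat_lit 22), (nat_lit 12, m22_R4_s5, nat_lit 7), (nat_lit 9, m22_R4_s3, nat_lit 7), (nat_lit 14, m22_R4_s2, nat_lit 7), (nat_lit 11, m22_R4_s5, nat_lit 19), (nat_lit 10, m22_R4_s3, nat_lit 19), (nat_lit 17, m22_R4_s2, nat_lit 19)]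
noncomputable def m22_R4_lev3 : Core.Lev := Core.mkLev m22_n m22_w m22_mask m22_L m22_maskL m22_idc (nat_lit 4) [m22_R4_s5, m22_R4_s3, m22_R4_s4] [(nat_lit 6, m22_R4_s3, nat_lit 4), (nat_lit 22, m22_R4_s4, nat_lit 4), (nat_lit 18, m22_R4_s5, nat_lit 6), (nat_lit 15, m22_R4_s3, nat_lit 6), (nat_lit 7, m22_R4_s4, nat_lit 6), (nat_lit 13, m22_R4_s5, nat_lit 22), (nat_lit 19, m22_R4_s3, nat_lit 22), (nat_lit 8, m22_R4_s4, nat_lit 18), (nat_lit 20, m22_R4_s4, nat_lit 15), (nat_lit 12, m22_R4_s5, nat_lit 7), (nat_lit 9, m22_R4_s3, nat_lit 7), (nat_lit 16, m22_R4_s5, nat_lit 13), (nat_lit 21, m22_R4_s3, nat_lit 13), (nat_lit 11, m22_R4_s5, nat_lit 19), (nat_lit 10, m22_R4_s3, nat_lit 19)]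
noncomputable def m22_R4_lev4 : Core.Lev := Core.mkLev m22_n m22_w m22_mask m22_L m22_maskL m22_idc (nat_lit 5) [m22_R4_s5] [(nat_lit 17, m22_R4_s5, nat_lit 5), (nat_lit 14, m22_R4_s5, nat_lit 17)]
noncomputable def m22_R4_levels : List Core.Lev := [m22_R4_lev0, m22_R4_lev1, m22_R4_lev2, m22_R4_lev3, m22_R4_lev4]

noncomputable def m22_R4_cert : Simple.RepCert := ⟨nat_lit 0xbaa0c391d2304752b5717d1024cec0, [(nat_lit 0, nat_lit 1, nat_lit 0), (nat_lit 0, nat_lit 0, nat_lit 1), (nat_lit 0, nat_lit 0, nat_lit 3), (nat_lit 0, nat_lit 0, nat_lit 3), (nat_lit 0, nat_lit 0, nat_lit 5), (nat_lit 0, nat_lit 0, nat_lit 6), (nat_lit 0, nat_lit 0, nat_lit 6), (nat_lit 0, nat_lit 0, nat_lit 8), (nat_lit 0, nat_lit 8, nat_lit 8), (nat_lit 0, nat_lit 0, nat_lit 9), (nat_lit 0, nat_lit 0, nat_lit 10), (nat_lit 0, nat_lit 0, nat_lit 11), (nat_lit 0, nat_lit 0, nat_lit 12), (nat_lit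 0, nat_lit 0, nat_lit 14), (nat_lit 0, nat_lit 0, nat_lit 14), (nat_lit 0, nat_lit 0, nat_lit 16), (nat_lit 0, nat_lit 0, nat_lit 16)], [(nat_lit 0xbbe233b12d140a824a74586ae32ac0, nat_lit 0xbc9ae9d5e5589103307639031a2540), (nat_lit 0xb99f6539954a165151a1810f29c460, nat_lit 0xbc6469a1aea2ca4ab209559e138c40)], m22_R4_prog, m22_R4_levels⟩

def m22_P0_T : List Nat := [nat_lit 0xb9669931c889a157b681508eb20ec0, nat_lit 0xbad89acce50b8d21be966c60442840, nat_lit 0xbd99494e25091b54092b31e0e1a9e0]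
def m22_P0_prog : List (Nat × Nat × Nat) := [(nat_lit 1, nat_lit 2, nat_lit 0), (nat_lit 1, nat_lit 2, nat_lit 0), (nat_lit 0, nat_lit 2, nat_lit 4), (nat_lit 0, nat_lit 0, nat_lit 5), (nat_lit 0, nat_lit 0, nat_lit 4), (nat_lit 0, nat_lit 0, nat_lit 6), (nat_lit 0, nat_lit 5, nat_lit 5), (nat_lit 0, nat_lit 0, nat_lit 1), (nat_lit 0, nat_lit 5, nat_lit 9), (nat_lit 0, nat_lit 0, nat_lit 9), (nat_lit 0, nat_lit 0, nat_lit 11), (nat_lit 0, nat_lit 0, nat_lit 12), (nat_lit 0, nat_lit 10, nat_lit 10), (nat_lit 0, nat_lit 0, nat_lit 12), (nat_lit 0, nat_lit 0, nat_lit 2), (nat_lit 0, nat_lit 16, nat_lit 15), (nat_lit 0, nat_lit 0, nat_lit 16), (nat_lit 0, nat_lit 0, nat_lit 18), (nat_lit 0, nat_lit 0, nat_lit 18), (nat_lit 0, nat_lit 0, nat_lit 21), (nat_lit 0, nat_lit 18, nat_lit 19), (nat_lit 0, nat_lit 0, nat_lit 1), (nat_lit 1, nat_lit 14, nat_lit 0), (nat_lit 0, nat_lit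 8, nat_lit 8), (nat_lit 0, nat_lit 0, nat_lit 9), (nat_lit 0, nat_lit 0, nat_lit 17), (nat_lit 0, nat_lit 0, nat_lit 4), (nat_lit 0, nat_lit 4, nat_lit 0), (nat_lit 0, nat_lit 20, nat_lit 20), (nat_lit 0, nat_lit 0, nat_lit 21), (nat_lit 0, nat_lit 0, nat_lit 8), (nat_lit 0, nat_lit 0, nat_lit 9), (nat_lit 0, nat_lit 9, nat_lit 0)]
def m22_P0_s0 : Nat := nat_lit 0xb9669931c889a157b681508eb20ec0
def m22_P0_s1 : Nat := nat_lit 0xba189accc4140f26aa911d9c55bc20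
def m22_P0_s2 : Nat := nat_lit 0xbb674ab064796d24292b31dd088820
def m22_P0_s3 : Nat := nat_lit 0xbc654656c5790733a9265a20e68820
noncomputable def m22_P0_lev0 : Core.Lev := Core.mkLev m22_n m22_w m22_mask m22_L m22_maskL m22_idc (nat_lit 1) [m22_P0_s2, m22_P0_s3, m22_P0_s1, m22_P0_s0] [(nat_lit 22, m22_P0_s0, nat_lit 1), (nat_lit 13, m22_P0_s2, nat_lit 22), (nat_lit 17, m22_P0_s3, nat_lit 22), (nat_lit 8, m22_P0_s1, nat_lit 22), (nat_lit 5, m22_P0_s0, nat_lit 22), (nat_lit 3, m22_P0_s3, nat_lit 13), (nat_lit 7, m22_P0_s1, nat_lit 13), (nat_lit 16, m22_P0_s0, nat_lit 13), (nat_lit 6, m22_P0_s1, nat_lit 17), (nat_lit 14, m22_P0_s0, nat_lit 17), (nat_lit 11, m22_P0_s2, nat_lit 8), (nat_lit 4, m22_P0_s0, nat_lit 3), (nat_lit 10, m22_P0_s0, nat_lit 7), (nat_lit 2, m22_P0_s0, nat_lit 6), (nat_lit 15, m22_P0_s0, nat_lit 11)]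
noncomputable def m22_P0_lev1 : Core.Lev := Core.mkLev m22_n m22_w m22_mask m22_L m22_maskL m22_idc (nat_lit 2) [m22_P0_s2, m22_P0_s3, m22_P0_s1] [(nat_lit 15, m22_P0_s1, nat_lit 2)]
noncomputable def m22_P0_lev2 : Core.Lev := Core.mkLev m22_n m22_w m22_mask m22_L m22_maskL m22_idc (nat_lit 3) [m22_P0_s2, m22_P0_s3] [(nat_lit 17, m22_P0_s2, nat_lit 3), (nat_lit 13, m22_P0_s3, nat_lit 3), (nat_lit 22, m22_P0_s3, nat_lit 17)]
noncomputable def m22_P0_levels : List Core.Lev := [m22_P0_lev0, m22_P0_lev1, m22_P0_lev2]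

noncomputable def m22_P0_cert : Simple.SylCert := ⟨nat_lit 2, nat_lit 128, m22_P0_T, m22_P0_prog, m22_P0_levels, [nat_lit 0xbdab49ca307b9ac5a928398a418820, nat_lit 0xb9669931c889a157b681508eb20ec0, nat_lit 0xbad89acce50b8d21be966c60442840, nat_lit 0xb9e54654c1709138c13668d4f590a0, nat_lit 0xbc2499d48b89cac0b68f128c870ec0, nat_lit 0xb96a9649c7b2e1308e8f1290623620, nat_lit 0xba989acc5630c3272285811b17ace0, nat_lit 0xbb6699322272ad53968b321e119200, nat_lit 0xb9a74ab0ef229728953668c4143a00, nat_lit 0xba269930c5538f5b0a838b604585e0, nat_lit 0xb9589acdcb69e121468a0bcc825860, nat_lit 0xb959494c963461579d2a089a372d00, nat_lit 0xba19494d6f728f5b41311b441310a0, nat_lit 0xb9674ab0833b6121192153e3672160, nat_lit 0xbc669931aa288755ba874182fb4080, nat_lit 0xb8589acded5c55221e902bac311900, nat_lit 0xb859494c46b1d5574530291687b460, nat_lit 0xb9189ace08199d20da8f128eb2c5a0, nat_lit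 0xb8674ab0488ad5225925838e678da0, nat_lit 0xb9e74ab0ca2bd12b11311b4225c1c0, nat_lit 0xbc19494dcd58cb51212153ed1218e0, nat_lit 0xbc189acc86b20b278e815096773620, nat_lit 0xbbd9494d481ac552b524740e60c6c0, nat_lit 0xbbe546554b8a05375930290c708da0, nat_lit 0xb8aa96495638df322e902b9b10a0c0, nat_lit 0xbc254655c3334b351d2f1063622d00, nat_lit 0xb8a499d5515b5ec71e858107609900, nat_lit 0xbc6a9649a123c733c28b32142b38a0, nat_lit 0xb8654654476995328d247410b7da20, nat_lit 0xbc2a964888698b354682784eb75860, nat_lit 0xb86a9649f1335532a28e2407612ce0, nat_lit 0xb9e499d5645410c18a966c5c5305e0, nat_lit 0xbba546560d38c937992a08ad12a160, nat_lit 0xbc6499d5a28286c4128659de1b15c0, nat_lit 0xb8a546542619df32352583968546c0, nat_lit 0xbbea96482d4445371a85812c351d60, nat_lit 0xb9254654b6445d312d2153da381cc0, nat_lit 0xbbaa9648ab19c937da81508c8845a0, nat_lit 0xb92499d6076adcc7c681509062d860, nat_lit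 0xbaa499d44d3c42c2ae8e242c37a0c0, nat_lit 0xb9a54654e280573b39311b5ea41480, nat_lit 0xb96499d5c61a20c55a8278567245a0, nat_lit 0xb9654654915da130a1227a86d718e0, nat_lit 0xb86499d5f640d4c81a84715b111d60, nat_lit 0xbc269930871acb515a8a0bd06745a0, nat_lit 0xb9989acd105117288a8db0cae385e0, nat_lit 0xbc589acdaf70472316883ac4ab1200, nat_lit 0xb8669931e33d95572e858122d120c0, nat_lit 0xba99494deb6a03520d25838c715a20, nat_lit 0xba189accc4140f26aa911d9c55bc20, nat_lit 0xb8a699314d345f582284716c30ace0, nat_lit 0xb9d9494cc220515695238d9ea5ba00, nat_lit 0xbaa74ab1e719832735302910b146c0, nat_lit 0xbaa69930514343521a902b87679d60, nat_lit 0xbba74ab2165c4925212f105a3298e0, nat_lit 0xbd989acc6a809b23928b3202f895c0, nat_lit 0xbbe74ab14669c5280d2e215680da20, nat_lit 0xbb589ace212bed243a8659d421c080, nat_lit 0xb999494ce1289751912db454f441c0, nat_lit 0xba274ab161808f26b9238d94f31480, nat_lit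 0xb899494c27899f58592e2150b50da0, nat_lit 0xbbd89acc313b45282e8471476520c0, nat_lit 0xbae74ab102704d21c12db45ea390a0, nat_lit 0xbda699306f205b54428659c4a8b8a0, nat_lit 0xbbe699303658c5529e8e241b151900, nat_lit 0xb8d89acec222a325c287419e16b8a0, nat_lit 0xb9a699310e115751aa966c4903bc20, nat_lit 0xbba69930a66a0950c68f1296785860, nat_lit 0xb9274ab0ad30dd209d227aad182d00, nat_lit 0xbb99494e03434950ad227aa3629cc0, nat_lit 0xbad9494d0a83cd58b93668c2239480, nat_lit 0xb92699320bb1dd550e82784c82b620, nat_lit 0xbc274ab1d1458b27ad2a0886d21cc0, nat_lit 0xb8989acd43459f229a8e2422d09d60, nat_lit 0xb9e6993170091156be911d8ae32840, nat_lit 0xb9d89acd6e79512b06838b49030940, nat_lit 0xb8a74ab02bb21f22c524740c753460, nat_lit 0xba2546556a23cf31952db442233a00, nat_lit 0xbbe499d4233584c222902ba2d52ce0, nat_lit 0xbaea9648ee514d368a911d890405e0, nat_lit 0xbaaa9648435d83381e847162d79900, nat_lit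 0xb92a964a068a1d31368a0bd6728ec0, nat_lit 0xba2499d4ce094ec8be8db0c905a840, nat_lit 0xbae546550f2a8d3691238d8413c1c0, nat_lit 0xb8ea964aca70a334168659c2f69200, nat_lit 0xb9aa9649040c173b3e838b5c53a840, nat_lit 0xbba499d4a8b188c10e8a0bceb83620, nat_lit 0xb8e499d6cf2862c3ba8b3204a6c080, nat_lit 0xbaa54655e8b2c338452e214e613460, nat_lit 0xb8e69932c183e35312883ad42695c0, nat_lit 0xbb989acca78ac92536827850680ec0, nat_lit 0xb919494cb13d9d55192f1046d82160, nat_lit 0xbae69930e47c0d58868db0dc540940], [(nat_lit 0xbd99494e25091b54092b31e0e1a9e0, nat_lit 0xbdab49ca307b9ac5a928398a418820, nat_lit 1, nat_lit 0xbd99494e25091b54092b31e0e1a9e0), (nat_lit 0xbc2b49c9d63c4ac099227a9a322160, nat_lit 0xbd623b266c0c9d45a9a77888581900, nat_lit 1, nat_lit 0xbd99494e25091b54092b31e0e1a9e0), (nat_lit 0xbbeb49c947b184c245258390b0b460, nat_lit 0xb95b44daa484d514306f7482b388c0, nat_lit 1, nat_lit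 0xbd99494e25091b54092b31e0e1a9e0), (nat_lit 0xb8e54655b013a334052b31ca4b3d40, nat_lit 0xb965654d0d7d1623306771229806a0, nat_lit 1, nat_lit 0xbd99494e25091b54092b31e0e1a9e0), (nat_lit 0xba2a9648d0790f3186966c4ae58940, nat_lit 0xb84655da696b98811e0faca84544c0, nat_lit 1, nat_lit 0xbd99494e25091b54092b31e0e1a9e0), (nat_lit 0xbae499d4f0110ccb2a838b4ae43c20, nat_lit 0xbbccba1eb12b9490d912609a49c060, nat_lit 1, nat_lit 0xbd99494e25091b54092b31e0e1a9e0), (nat_lit 0xb8e74ab1a5512325bd2839a0eb0440, nat_lit 0xbbcd43a1538544b69531b0e4c091c0, nat_lit 1, nat_lit 0xbd99494e25091b54092b31e0e1a9e0), (nat_lit 0xbb6b49c865112cc3052742e0e8bd40, nat_lit 0xb92968a4f3aa9cd404702ae42331e0, nat_lit 1, nat_lit 0xbd99494e25091b54092b31e0e1a9e0), (nat_lit 0xb9ab49c8ea73d6c6c1238d822410a0, nat_lit 0xbadb6a0d4eab0e93122f122120cca0, nat_lit 1, nat_lit 0xbd99494e25091b54092b31e0e1a9e0), (nat_lit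 0xbb6499d62a20acc342883ac2f1b8a0, nat_lit 0xb8a416cd3022d51615e3b54cea20e0, nat_lit 1, nat_lit 0xbd99494e25091b54092b31e0e1a9e0), (nat_lit 0xb9eb49c8cf8290c1b92db444159480, nat_lit 0xba0744daa734a0d7ce255b0820b940, nat_lit 1, nat_lit 0xbd99494e25091b54092b31e0e1a9e0), (nat_lit 0xb9ea964965139138aa8db0e0433c20, nat_lit 0xb9db5145619da0a45185339e324920, nat_lit 1, nat_lit 0xbd99494e25091b54092b31e0e1a9e0), (nat_lit 0xbda499d46173dac596874194289200, nat_lit 0xb8eaa8b244816cda20417a56699dc0, nat_lit 1, nat_lit 0xbd99494e25091b54092b31e0e1a9e0), (nat_lit 0xbaeb49c901208ccb15311b54f3ba00, nat_lit 0xbb9b148e4f3a21422ad3a944662c20, nat_lit 1, nat_lit 0xbd99494e25091b54092b31e0e1a9e0), (nat_lit 0xbdaa9648622a9b333a883ade18c080, nat_lit 0xb8d33ad05071acc79e516848851560, nat_lit 1, nat_lit 0xbd99494e25091b54092b31e0e1a9e0), (nat_lit 0xbb6a964a2f806d3592874184a195c0, nat_lit 0xb9d3075222548c41b0ab459f568660,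 nat_lit 1, nat_lit 0xbd99494e25091b54092b31e0e1a9e0), (nat_lit 0xb96b49c88d40e0c52d2f106d171cc0, nat_lit 0xbbe296d27041cb67106b6283235440, nat_lit 1, nat_lit 0xbd99494e25091b54092b31e0e1a9e0), (nat_lit 0xba2b49c962284ec8913668dea341c0, nat_lit 0xbc2341b5ec120e90bac5349449d560, nat_lit 1, nat_lit 0xbd99494e25091b54092b31e0e1a9e0), (nat_lit 0xb86b49c84b1a14c8352e214c77c6c0, nat_lit 0xbca836d96463cc971e2128950aa260, nat_lit 1, nat_lit 0xbd99494e25091b54092b31e0e1a9e0), (nat_lit 0xbb59494c7053ad53bd265a0a488440, nat_lit 0xb91ed94d632d1c1ac22262936418e0, nat_lit 1, nat_lit 0xbd99494e25091b54092b31e0e1a9e0), (nat_lit 0xb8d9494dae7c2353292742c85b0820, nat_lit 0xbcead509e44b82c85a263950b90e80, nat_lit 1, nat_lit 0xbd99494e25091b54092b31e0e1a9e0), (nat_lit 0xbda74ab22e141b2385265a0851bd40, nat_lit 0xbd0ad81d2b9206613e35531c4b4c20, nat_lit 1, nat_lit 0xbd99494e25091b54092b31e0e1a9e0),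 (nat_lit 0xbb674ab064796d24292b31dd088820, nat_lit 0xbc02d7ccc8490b21522a655cb3d860, nat_lit 1, nat_lit 0xbd99494e25091b54092b31e0e1a9e0), (nat_lit 0xbc674ab2d00b8723092742ca46a9e0, nat_lit 0xbacad81d14525c60b23393c7625440, nat_lit 1, nat_lit 0xbd99494e25091b54092b31e0e1a9e0), (nat_lit 0xb8ab49c8286adec70d30290e655a20, nat_lit 0xb92896c5ea9c2432a2c23b0d55b820, nat_lit 1, nat_lit 0xbd99494e25091b54092b31e0e1a9e0), (nat_lit 0xbc654656c5790733a9265a20e68820, nat_lit 0xbc9693a270191867b6820a8aeada20, nat_lit 1, nat_lit 0xbd99494e25091b54092b31e0e1a9e0), (nat_lit 0xb9a499d5057b96c686911da0438940, nat_lit 0xb9aafb32028d1c324c2541d495b640, nat_lit 1, nat_lit 0xbd99494e25091b54092b31e0e1a9e0), (nat_lit 0xbbab49ca113588c11d2153c6d2ad00, nat_lit 0xbba2d48ce69103642a8514eaf62e00, nat_lit 1, nat_lit 0xbd99494e25091b54092b31e0e1a9e0), (nat_lit 0xbda5465624515b333d2742dd018440,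 nat_lit 0xba663549ae59a827a2d5604e489600, nat_lit 1, nat_lit 0xbd99494e25091b54092b31e0e1a9e0), (nat_lit 0xbaab49c9e689c2c2d9247416810da0, nat_lit 0xb94698b44854d947c2c492c2e39aa0, nat_lit 1, nat_lit 0xbd99494e25091b54092b31e0e1a9e0), (nat_lit 0xb8eb49c9a40962c389265a1d0b29e0, nat_lit 0xb9da34d092809d17a2cc0d55332ca0, nat_lit 1, nat_lit 0xbd99494e25091b54092b31e0e1a9e0), (nat_lit 0xbb6546546e0c2d358928398858a9e0, nat_lit 0xbcaa30b14781a6f8a2d44b48e12ca0, nat_lit 1, nat_lit 0xbd99494e25091b54092b31e0e1a9e0), (nat_lit 0xbc6b49cace5406c43d2b31c8568440, nat_lit 0xbb9b68d090914e97cc616556832840, nat_lit 1, nat_lit 0xbd99494e25091b54092b31e0e1a9e0), (nat_lit 0xb92b49c8a35b5cc7a12a08a36818e0, nat_lit 0xb86d41c584998e9909aa5c2af71500, nat_lit 1, nat_lit 0xbd99494e25091b54092b31e0e1a9e0), (nat_lit 0xbc59494ec41147558528399d06bd40, nat_lit 0xb9036ab1d3288cf6ac698d1523c100, nat_lit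 1, nat_lit 0xbd99494e25091b54092b31e0e1a9e0)], [(nat_lit 1, nat_lit 1, nat_lit 0), (nat_lit 0, nat_lit 2, nat_lit 0), (nat_lit 1, nat_lit 2, nat_lit 0), (nat_lit 0, nat_lit 0, nat_lit 0), (nat_lit 0, nat_lit 1, nat_lit 0), (nat_lit 0, nat_lit 4, nat_lit 0), (nat_lit 0, nat_lit 5, nat_lit 0), (nat_lit 0, nat_lit 4, nat_lit 0), (nat_lit 0, nat_lit 5, nat_lit 0), (nat_lit 0, nat_lit 6, nat_lit 0), (nat_lit 0, nat_lit 9, nat_lit 0), (nat_lit 0, nat_lit 10, nat_lit 0), (nat_lit 0, nat_lit 11, nat_lit 0), (nat_lit 0, nat_lit 10, nat_lit 12), (nat_lit 0, nat_lit 13, nat_lit 0), (nat_lit 0, nat_lit 14, nat_lit 0), (nat_lit 0, nat_lit 13, nat_lit 0), (nat_lit 0, nat_lit 16, nat_lit 0), (nat_lit 0, nat_lit 15, nat_lit 0), (nat_lit 0, nat_lit 16, nat_lit 0), (nat_lit 0, nat_lit 19, nat_lit 0), (nat_lit 0, nat_lit 18, nat_lit 16), (nat_lit 0, nat_lit 21, nat_lit 0), (nat_lit 0,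 nat_lit 20, nat_lit 0), (nat_lit 0, nat_lit 23, nat_lit 0), (nat_lit 0, nat_lit 22, nat_lit 0), (nat_lit 0, nat_lit 23, nat_lit 12), (nat_lit 0, nat_lit 24, nat_lit 0), (nat_lit 0, nat_lit 25, nat_lit 0), (nat_lit 0, nat_lit 28, nat_lit 0), (nat_lit 0, nat_lit 27, nat_lit 0), (nat_lit 0, nat_lit 30, nat_lit 0), (nat_lit 0, nat_lit 29, nat_lit 0), (nat_lit 0, nat_lit 30, nat_lit 0), (nat_lit 0, nat_lit 33, nat_lit 7), (nat_lit 0, nat_lit 34, nat_lit 0), (nat_lit 0, nat_lit 33, nat_lit 0), (nat_lit 0, nat_lit 36, nat_lit 0), (nat_lit 0, nat_lit 37, nat_lit 0), (nat_lit 0, nat_lit 38, nat_lit 0), (nat_lit 0, nat_lit 39, nat_lit 0), (nat_lit 0, nat_lit 40, nat_lit 40), (nat_lit 0, nat_lit 39, nat_lit 0), (nat_lit 0, nat_lit 42, nat_lit 0), (nat_lit 0, nat_lit 41, nat_lit 0), (nat_lit 0, nat_lit 44, nat_lit 0), (nat_lit 0, nat_lit 43, nat_lit 0), (nat_lit 0, nat_lit 46,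 nat_lit 0), (nat_lit 0, nat_lit 47, nat_lit 0), (nat_lit 0, nat_lit 46, nat_lit 0), (nat_lit 0, nat_lit 49, nat_lit 47), (nat_lit 0, nat_lit 50, nat_lit 0), (nat_lit 0, nat_lit 51, nat_lit 0), (nat_lit 0, nat_lit 50, nat_lit 0), (nat_lit 0, nat_lit 51, nat_lit 0), (nat_lit 0, nat_lit 54, nat_lit 0), (nat_lit 0, nat_lit 53, nat_lit 0), (nat_lit 0, nat_lit 54, nat_lit 0), (nat_lit 0, nat_lit 55, nat_lit 0), (nat_lit 0, nat_lit 58, nat_lit 0), (nat_lit 0, nat_lit 59, nat_lit 0), (nat_lit 0, nat_lit 58, nat_lit 14), (nat_lit 0, nat_lit 59, nat_lit 0), (nat_lit 0, nat_lit 62, nat_lit 0), (nat_lit 0, nat_lit 63, nat_lit 0), (nat_lit 0, nat_lit 64, nat_lit 0), (nat_lit 0, nat_lit 65, nat_lit 24), (nat_lit 0, nat_lit 64, nat_lit 0), (nat_lit 0, nat_lit 67, nat_lit 0), (nat_lit 0, nat_lit 68, nat_lit 0), (nat_lit 0, nat_lit 69, nat_lit 0), (nat_lit 0, nat_lit 70, nat_lit 0),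 (nat_lit 0, nat_lit 69, nat_lit 20), (nat_lit 0, nat_lit 72, nat_lit 0), (nat_lit 0, nat_lit 73, nat_lit 66), (nat_lit 0, nat_lit 72, nat_lit 0), (nat_lit 0, nat_lit 75, nat_lit 0), (nat_lit 0, nat_lit 76, nat_lit 0), (nat_lit 0, nat_lit 77, nat_lit 0), (nat_lit 0, nat_lit 78, nat_lit 0), (nat_lit 0, nat_lit 79, nat_lit 64), (nat_lit 0, nat_lit 78, nat_lit 0), (nat_lit 0, nat_lit 81, nat_lit 0), (nat_lit 0, nat_lit 80, nat_lit 0), (nat_lit 0, nat_lit 81, nat_lit 33), (nat_lit 0, nat_lit 82, nat_lit 0), (nat_lit 0, nat_lit 83, nat_lit 0), (nat_lit 0, nat_lit 84, nat_lit 0), (nat_lit 0, nat_lit 87, nat_lit 0), (nat_lit 0, nat_lit 88, nat_lit 0), (nat_lit 0, nat_lit 89, nat_lit 0), (nat_lit 0, nat_lit 88, nat_lit 0), (nat_lit 0, nat_lit 91, nat_lit 0), (nat_lit 0, nat_lit 92, nat_lit 0), (nat_lit 0, nat_lit 93, nat_lit 27), (nat_lit 0, nat_lit 92, nat_lit 0), (nat_lit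 0, nat_lit 95, nat_lit 0), (nat_lit 0, nat_lit 94, nat_lit 0), (nat_lit 0, nat_lit 97, nat_lit 0), (nat_lit 0, nat_lit 98, nat_lit 0), (nat_lit 0, nat_lit 97, nat_lit 65), (nat_lit 0, nat_lit 100, nat_lit 0), (nat_lit 0, nat_lit 99, nat_lit 0), (nat_lit 0, nat_lit 100, nat_lit 0), (nat_lit 0, nat_lit 101, nat_lit 0), (nat_lit 0, nat_lit 104, nat_lit 0), (nat_lit 0, nat_lit 105, nat_lit 99), (nat_lit 0, nat_lit 104, nat_lit 0), (nat_lit 0, nat_lit 107, nat_lit 0), (nat_lit 0, nat_lit 108, nat_lit 0), (nat_lit 0, nat_lit 109, nat_lit 36), (nat_lit 0, nat_lit 110, nat_lit 0), (nat_lit 0, nat_lit 109, nat_lit 0), (nat_lit 0, nat_lit 110, nat_lit 0), (nat_lit 0, nat_lit 113, nat_lit 110), (nat_lit 0, nat_lit 114, nat_lit 0), (nat_lit 0, nat_lit 115, nat_lit 0), (nat_lit 0, nat_lit 116, nat_lit 0), (nat_lit 0, nat_lit 115, nat_lit 0), (nat_lit 0, nat_lit 118, nat_lit 0),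 (nat_lit 0, nat_lit 117, nat_lit 0), (nat_lit 0, nat_lit 118, nat_lit 0), (nat_lit 0, nat_lit 119, nat_lit 26), (nat_lit 0, nat_lit 122, nat_lit 0), (nat_lit 0, nat_lit 123, nat_lit 0), (nat_lit 0, nat_lit 124, nat_lit 0), (nat_lit 0, nat_lit 125, nat_lit 0), (nat_lit 0, nat_lit 124, nat_lit 54), (nat_lit 0, nat_lit 125, nat_lit 0), (nat_lit 0, nat_lit 126, nat_lit 0), (nat_lit 0, nat_lit 127, nat_lit 0), (nat_lit 0, nat_lit 130, nat_lit 0), (nat_lit 0, nat_lit 129, nat_lit 89), (nat_lit 0, nat_lit 132, nat_lit 0), (nat_lit 0, nat_lit 131, nat_lit 0), (nat_lit 0, nat_lit 132, nat_lit 0), (nat_lit 0, nat_lit 135, nat_lit 0), (nat_lit 0, nat_lit 136, nat_lit 51), (nat_lit 0, nat_lit 137, nat_lit 0), (nat_lit 0, nat_lit 136, nat_lit 0), (nat_lit 0, nat_lit 137, nat_lit 0), (nat_lit 0, nat_lit 140, nat_lit 0), (nat_lit 0, nat_lit 141, nat_lit 0), (nat_lit 0, nat_lit 142,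 nat_lit 0), (nat_lit 0, nat_lit 143, nat_lit 0), (nat_lit 0, nat_lit 142, nat_lit 29), (nat_lit 0, nat_lit 145, nat_lit 0), (nat_lit 0, nat_lit 146, nat_lit 0), (nat_lit 0, nat_lit 145, nat_lit 0), (nat_lit 0, nat_lit 148, nat_lit 103), (nat_lit 0, nat_lit 147, nat_lit 0), (nat_lit 0, nat_lit 150, nat_lit 0), (nat_lit 0, nat_lit 151, nat_lit 0), (nat_lit 0, nat_lit 150, nat_lit 138), (nat_lit 0, nat_lit 153, nat_lit 0), (nat_lit 0, nat_lit 152, nat_lit 0), (nat_lit 0, nat_lit 153, nat_lit 0), (nat_lit 0, nat_lit 156, nat_lit 0), (nat_lit 0, nat_lit 155, nat_lit 0), (nat_lit 0, nat_lit 158, nat_lit 0), (nat_lit 0, nat_lit 159, nat_lit 0), (nat_lit 0, nat_lit 160, nat_lit 74), (nat_lit 0, nat_lit 161, nat_lit 0), (nat_lit 0, nat_lit 160, nat_lit 139), (nat_lit 0, nat_lit 161, nat_lit 0), (nat_lit 0, nat_lit 162, nat_lit 0), (nat_lit 0, nat_lit 163, nat_lit 0), (nat_lit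 0, nat_lit 166, nat_lit 0), (nat_lit 0, nat_lit 165, nat_lit 51), (nat_lit 0, nat_lit 166, nat_lit 0), (nat_lit 0, nat_lit 167, nat_lit 0), (nat_lit 0, nat_lit 170, nat_lit 0), (nat_lit 0, nat_lit 169, nat_lit 0), (nat_lit 0, nat_lit 170, nat_lit 0), (nat_lit 0, nat_lit 171, nat_lit 0), (nat_lit 0, nat_lit 172, nat_lit 29), (nat_lit 0, nat_lit 173, nat_lit 0), (nat_lit 0, nat_lit 174, nat_lit 0), (nat_lit 0, nat_lit 177, nat_lit 0), (nat_lit 0, nat_lit 176, nat_lit 0), (nat_lit 0, nat_lit 177, nat_lit 174), (nat_lit 0, nat_lit 180, nat_lit 0), (nat_lit 0, nat_lit 181, nat_lit 0)]⟩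

def m22_P1_T : List Nat := [nat_lit 0xbce075d5322d1acb20837185153c20, nat_lit 0xbaaa7449701502d1a6c4719f389580]
def m22_P1_prog : List (Nat × Nat × Nat) := [(nat_lit 1, nat_lit 0, nat_lit 0), (nat_lit 0, nat_lit 1, nat_lit 1), (nat_lit 0, nat_lit 0, nat_lit 3), (nat_lit 0, nat_lit 0, nat_lit 4), (nat_lit 0, nat_lit 0, nat_lit 5), (nat_lit 0, nat_lit 0, nat_lit 6), (nat_lit 0, nat_lit 0, nat_lit 6), (nat_lit 0, nat_lit 0, nat_lit 7), (nat_lit 0, nat_lit 0, nat_lit 9), (nat_lit 0, nat_lit 0, nat_lit 9), (nat_lit 0, nat_lit 0, nat_lit 10), (nat_lit 0, nat_lit 10, nat_lit 0)]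
def m22_P1_s0 : Nat := nat_lit 0xbce075d5322d1acb20837185153c20
def m22_P1_s1 : Nat := nat_lit 0xbc6474c1157d18122c76718aa989a0
noncomputable def m22_P1_lev0 : Core.Lev := Core.mkLev m22_n m22_w m22_mask m22_L m22_maskL m22_idc (nat_lit 2) [m22_P1_s1, m22_P1_s0] [(nat_lit 15, m22_P1_s0, nat_lit 2), (nat_lit 5, m22_P1_s0, nat_lit 15)]
noncomputable def m22_P1_lev1 : Core.Lev := Core.mkLev m22_n m22_w m22_mask m22_L m22_maskL m22_idc (nat_lit 1) [m22_P1_s1] [(nat_lit 13, m22_P1_s1, nat_lit 1), (nat_lit 12, m22_P1_s1, nat_lit 13)]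
noncomputable def m22_P1_levels : List Core.Lev := [m22_P1_lev0, m22_P1_lev1]

noncomputable def m22_P1_cert : Simple.SylCert := ⟨nat_lit 3, nat_lit 9, m22_P1_T, m22_P1_prog, m22_P1_levels, [nat_lit 0xbdab49ca307b9ac5a928398a418820], [(nat_lit 0xbce075d5322d1acb20837185153c20, nat_lit 0xbdab49ca307b9ac5a928398a418820, nat_lit 1, nat_lit 0xbce075d5322d1acb20837185153c20), (nat_lit 0xbaaa7449701502d1a6c4719f389580, nat_lit 0xbc4cfa354c58a15424872866e1da40, nat_lit 1, nat_lit 0xbce075d5322d1acb20837185153c20), (nat_lit 0xbae4eb409511dac98e2aa19e941420, nat_lit 0xbd2167493514dac3a22a584a41bcc0, nat_lit 1, nat_lit 0xbce075d5322d1acb20837185153c20), (nat_lit 0xba20e1d6d279c2d51271a18ab48980, nat_lit 0xbb892b24f1654af52174834c398440, nat_lit 1, nat_lit 0xbce075d5322d1acb20837185153c20), (nat_lit 0xba6ae2487029d818d953a18485bda0, nat_lit 0xba8225b0e623e12a0d132b636726a0, nat_lit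 1, nat_lit 0xbce075d5322d1acb20837185153c20), (nat_lit 0xb8e54542752b82d445693985623d80, nat_lit 0xbc44d3be85832cb53868306444d660, nat_lit 1, nat_lit 0xbce075d5322d1acb20837185153c20), (nat_lit 0xb92148d552139814cd0b399e3b15a0, nat_lit 0xba84c395cf935768d124306081d660, nat_lit 1, nat_lit 0xbce075d5322d1acb20837185153c20), (nat_lit 0xbc6474c1157d18122c76718aa989a0, nat_lit 0xbaad0a4d0b6d44f4c4e390584718a0, nat_lit 1, nat_lit 0xbce075d5322d1acb20837185153c20)], [(nat_lit 1, nat_lit 1, nat_lit 0), (nat_lit 0, nat_lit 2, nat_lit 0), (nat_lit 1, nat_lit 2, nat_lit 0), (nat_lit 0, nat_lit 0, nat_lit 0), (nat_lit 0, nat_lit 3, nat_lit 0), (nat_lit 0, nat_lit 2, nat_lit 0), (nat_lit 0, nat_lit 5, nat_lit 0), (nat_lit 0, nat_lit 4, nat_lit 0), (nat_lit 0, nat_lit 5, nat_lit 0), (nat_lit 0, nat_lit 8, nat_lit 0), (nat_lit 0, nat_lit 9, nat_lit 9), (nat_lit 0, nat_lit 10, nat_lit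 0), (nat_lit 0, nat_lit 9, nat_lit 0), (nat_lit 0, nat_lit 12, nat_lit 0), (nat_lit 0, nat_lit 13, nat_lit 0), (nat_lit 0, nat_lit 14, nat_lit 0), (nat_lit 0, nat_lit 15, nat_lit 0), (nat_lit 0, nat_lit 14, nat_lit 0), (nat_lit 0, nat_lit 17, nat_lit 0), (nat_lit 0, nat_lit 16, nat_lit 6), (nat_lit 0, nat_lit 17, nat_lit 0), (nat_lit 0, nat_lit 20, nat_lit 0), (nat_lit 0, nat_lit 19, nat_lit 0), (nat_lit 0, nat_lit 20, nat_lit 0), (nat_lit 0, nat_lit 21, nat_lit 0), (nat_lit 0, nat_lit 24, nat_lit 0), (nat_lit 0, nat_lit 25, nat_lit 0), (nat_lit 0, nat_lit 26, nat_lit 0), (nat_lit 0, nat_lit 27, nat_lit 0), (nat_lit 0, nat_lit 26, nat_lit 18), (nat_lit 0, nat_lit 29, nat_lit 0), (nat_lit 0, nat_lit 28, nat_lit 0), (nat_lit 0, nat_lit 29, nat_lit 0), (nat_lit 0, nat_lit 30, nat_lit 0), (nat_lit 0, nat_lit 31, nat_lit 0), (nat_lit 0, nat_lit 34, nat_lit 0), (nat_lit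 0, nat_lit 33, nat_lit 0), (nat_lit 0, nat_lit 34, nat_lit 0), (nat_lit 0, nat_lit 37, nat_lit 33), (nat_lit 0, nat_lit 38, nat_lit 0), (nat_lit 0, nat_lit 39, nat_lit 0), (nat_lit 0, nat_lit 38, nat_lit 0), (nat_lit 0, nat_lit 39, nat_lit 0), (nat_lit 0, nat_lit 40, nat_lit 0), (nat_lit 0, nat_lit 41, nat_lit 0), (nat_lit 0, nat_lit 42, nat_lit 0), (nat_lit 0, nat_lit 45, nat_lit 0), (nat_lit 0, nat_lit 44, nat_lit 46), (nat_lit 0, nat_lit 47, nat_lit 0), (nat_lit 0, nat_lit 46, nat_lit 0), (nat_lit 0, nat_lit 49, nat_lit 0), (nat_lit 0, nat_lit 50, nat_lit 0), (nat_lit 0, nat_lit 49, nat_lit 0), (nat_lit 0, nat_lit 50, nat_lit 0), (nat_lit 0, nat_lit 53, nat_lit 0), (nat_lit 0, nat_lit 52, nat_lit 0), (nat_lit 0, nat_lit 55, nat_lit 0), (nat_lit 0, nat_lit 56, nat_lit 0), (nat_lit 0, nat_lit 57, nat_lit 0), (nat_lit 0, nat_lit 58, nat_lit 0), (nat_lit 0, nat_lit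 59, nat_lit 28), (nat_lit 0, nat_lit 60, nat_lit 0), (nat_lit 0, nat_lit 59, nat_lit 0), (nat_lit 0, nat_lit 62, nat_lit 0), (nat_lit 0, nat_lit 61, nat_lit 0), (nat_lit 0, nat_lit 64, nat_lit 0), (nat_lit 0, nat_lit 63, nat_lit 0)]⟩

def m22_P2_T : List Nat := [nat_lit 0xbb8730ae28b3544abe8c4c8a2340e0]
def m22_P2_prog : List (Nat × Nat × Nat) := []
def m22_P2_s0 : Nat := nat_lit 0xbb8730ae28b3544abe8c4c8a2340e0
noncomputable def m22_P2_lev0 : Core.Lev := Core.mkLev m22_n m22_w m22_mask m22_L m22_maskL m22_idc (nat_lit 1) [m22_P2_s0] [(nat_lit 7, m22_P2_s0, nat_lit 1), (nat_lit 9, m22_P2_s0, nat_lit 7), (nat_lit 20, m22_P2_s0, nat_lit 9), (nat_lit 19, m22_P2_s0, nat_lit 20)]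
noncomputable def m22_P2_levels : List Core.Lev := [m22_P2_lev0]

noncomputable def m22_P2_cert : Simple.SylCert := ⟨nat_lit 5, nat_lit 5, m22_P2_T, m22_P2_prog, m22_P2_levels, [nat_lit 0xbdab49ca307b9ac5a928398a418820], [(nat_lit 0xbb8730ae28b3544abe8c4c8a2340e0, nat_lit 0xbdab49ca307b9ac5a928398a418820, nat_lit 1, nat_lit 0xbb8730ae28b3544abe8c4c8a2340e0), (nat_lit 0xbb4c13d62c729e21da64a2cb092120, nat_lit 0xb8dc90d8b092cc8556643b6227b280, nat_lit 1, nat_lit 0xbb8730ae28b3544abe8c4c8a2340e0), (nat_lit 0xbaa4748e246bed0338229d4a85b280, nat_lit 0xbc9414bcb01d4c272e8c3b628b1260, nat_lit 1, nat_lit 0xbb8730ae28b3544abe8c4c8a2340e0), (nat_lit 0xbbd69a1a22559c8934f008caca9260, nat_lit 0xbb8670ca2c6d9f032928a2ca2a9260, nat_lit 1, nat_lit 0xbb8730ae28b3544abe8c4c8a2340e0)], [(nat_lit 1, nat_lit 1, nat_lit 0), (nat_lit 0, nat_lit 2, nat_lit 0), (nat_lit 1, nat_lit 2, nat_lit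 0), (nat_lit 0, nat_lit 0, nat_lit 2), (nat_lit 0, nat_lit 3, nat_lit 0), (nat_lit 0, nat_lit 2, nat_lit 0), (nat_lit 0, nat_lit 5, nat_lit 0), (nat_lit 0, nat_lit 4, nat_lit 0), (nat_lit 0, nat_lit 5, nat_lit 0), (nat_lit 0, nat_lit 8, nat_lit 0), (nat_lit 0, nat_lit 9, nat_lit 0), (nat_lit 0, nat_lit 8, nat_lit 0), (nat_lit 0, nat_lit 9, nat_lit 0), (nat_lit 0, nat_lit 10, nat_lit 0), (nat_lit 0, nat_lit 13, nat_lit 0), (nat_lit 0, nat_lit 12, nat_lit 0), (nat_lit 0, nat_lit 15, nat_lit 11), (nat_lit 0, nat_lit 14, nat_lit 0), (nat_lit 0, nat_lit 15, nat_lit 0), (nat_lit 0, nat_lit 18, nat_lit 0), (nat_lit 0, nat_lit 19, nat_lit 0), (nat_lit 0, nat_lit 18, nat_lit 0), (nat_lit 0, nat_lit 19, nat_lit 0), (nat_lit 0, nat_lit 22, nat_lit 0), (nat_lit 0, nat_lit 23, nat_lit 0), (nat_lit 0, nat_lit 22, nat_lit 0), (nat_lit 0, nat_lit 23, nat_lit 0), (nat_lit 0, nat_lit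 24, nat_lit 0), (nat_lit 0, nat_lit 27, nat_lit 25), (nat_lit 0, nat_lit 26, nat_lit 0), (nat_lit 0, nat_lit 29, nat_lit 0), (nat_lit 0, nat_lit 30, nat_lit 0), (nat_lit 0, nat_lit 29, nat_lit 0), (nat_lit 0, nat_lit 32, nat_lit 0), (nat_lit 0, nat_lit 33, nat_lit 0), (nat_lit 0, nat_lit 34, nat_lit 0), (nat_lit 0, nat_lit 33, nat_lit 0), (nat_lit 0, nat_lit 34, nat_lit 0), (nat_lit 0, nat_lit 35, nat_lit 0), (nat_lit 0, nat_lit 38, nat_lit 0), (nat_lit 0, nat_lit 39, nat_lit 0), (nat_lit 0, nat_lit 40, nat_lit 0)]⟩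

def m22_P3_T : List Nat := [nat_lit 0xbaa83448813560e3a5eb68acc89660]
def m22_P3_prog : List (Nat × Nat × Nat) := []
def m22_P3_s0 : Nat := nat_lit 0xbaa83448813560e3a5eb68acc89660
noncomputable def m22_P3_lev0 : Core.Lev := Core.mkLev m22_n m22_w m22_mask m22_L m22_maskL m22_idc (nat_lit 1) [m22_P3_s0] [(nat_lit 19, m22_P3_s0, nat_lit 1), (nat_lit 8, m22_P3_s0, nat_lit 19), (nat_lit 11, m22_P3_s0, nat_lit 8), (nat_lit 7, m22_P3_s0, nat_lit 11), (nat_lit 13, m22_P3_s0, nat_lit 7), (nat_lit 16, m22_P3_s0, nat_lit 13)]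
noncomputable def m22_P3_levels : List Core.Lev := [m22_P3_lev0]

noncomputable def m22_P3_cert : Simple.SylCert := ⟨nat_lit 7, nat_lit 7, m22_P3_T, m22_P3_prog, m22_P3_levels, [nat_lit 0xbdab49ca307b9ac5a928398a418820], [(nat_lit 0xbaa83448813560e3a5eb68acc89660, nat_lit 0xbdab49ca307b9ac5a928398a418820, nat_lit 1, nat_lit 0xbaa83448813560e3a5eb68acc89660), (nat_lit 0xba4715c993150356bcc78154e25900, nat_lit 0xbbe355ca88539a33d8c1988ac22600, nat_lit 1, nat_lit 0xbaa83448813560e3a5eb68acc89660), (nat_lit 0xbbe243c9c828e748184d0d93562960, nat_lit 0xbbe355ca88539a33d8c1988ac22600, nat_lit 3, nat_lit 0xbaa83448813560e3a5eb68acc89660), (nat_lit 0xb988c6caabb4503088b09a9f4724e0, nat_lit 0xb95d44498d11163829e79d8d58a420, nat_lit 1, nat_lit 0xbaa83448813560e3a5eb68acc89660), (nat_lit 0xb898e84a8751171996c1424c3abda0, nat_lit 0xbdab49ca307b9ac5a928398a418820, nat_lit 3, nat_lit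 0xbaa83448813560e3a5eb68acc89660), (nat_lit 0xb95d50c86d4b0e4459535bc51a1a00, nat_lit 0xb95d44498d11163829e79d8d58a420, nat_lit 3, nat_lit 0xbaa83448813560e3a5eb68acc89660)], [(nat_lit 1, nat_lit 1, nat_lit 0), (nat_lit 0, nat_lit 2, nat_lit 0), (nat_lit 1, nat_lit 2, nat_lit 0), (nat_lit 0, nat_lit 2, nat_lit 0), (nat_lit 0, nat_lit 1, nat_lit 0), (nat_lit 0, nat_lit 2, nat_lit 0), (nat_lit 0, nat_lit 3, nat_lit 0), (nat_lit 0, nat_lit 4, nat_lit 0), (nat_lit 0, nat_lit 7, nat_lit 0), (nat_lit 0, nat_lit 6, nat_lit 0), (nat_lit 0, nat_lit 7, nat_lit 0), (nat_lit 0, nat_lit 8, nat_lit 0), (nat_lit 0, nat_lit 11, nat_lit 0), (nat_lit 0, nat_lit 12, nat_lit 0), (nat_lit 0, nat_lit 13, nat_lit 0), (nat_lit 0, nat_lit 12, nat_lit 14), (nat_lit 0, nat_lit 15, nat_lit 0), (nat_lit 0, nat_lit 16, nat_lit 0), (nat_lit 0, nat_lit 17, nat_lit 0), (nat_lit 0, nat_lit 18, nat_lit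 0), (nat_lit 0, nat_lit 17, nat_lit 0), (nat_lit 0, nat_lit 18, nat_lit 0), (nat_lit 0, nat_lit 21, nat_lit 0), (nat_lit 0, nat_lit 20, nat_lit 0), (nat_lit 0, nat_lit 21, nat_lit 0), (nat_lit 0, nat_lit 22, nat_lit 0), (nat_lit 0, nat_lit 23, nat_lit 0), (nat_lit 0, nat_lit 26, nat_lit 0), (nat_lit 0, nat_lit 25, nat_lit 0), (nat_lit 0, nat_lit 26, nat_lit 0), (nat_lit 0, nat_lit 27, nat_lit 0), (nat_lit 0, nat_lit 30, nat_lit 0)]⟩

def m22_P4_T : List Nat := [nat_lit 0xbaa0c391d2304752b5717d1024cec0]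
def m22_P4_prog : List (Nat × Nat × Nat) := []
def m22_P4_s0 : Nat := nat_lit 0xbaa0c391d2304752b5717d1024cec0
noncomputable def m22_P4_lev0 : Core.Lev := Core.mkLev m22_n m22_w m22_mask m22_L m22_maskL m22_idc (nat_lit 1) [m22_P4_s0] [(nat_lit 22, m22_P4_s0, nat_lit 1), (nat_lit 10, m22_P4_s0, nat_lit 22), (nat_lit 13, m22_P4_s0, nat_lit 10), (nat_lit 3, m22_P4_s0, nat_lit 13), (nat_lit 9, m22_P4_s0, nat_lit 3), (nat_lit 11, m22_P4_s0, nat_lit 9), (nat_lit 5, m22_P4_s0, nat_lit 11), (nat_lit 8, m22_P4_s0, nat_lit 5), (nat_lit 17, m22_P4_s0, nat_lit 8), (nat_lit 14, m22_P4_s0, nat_lit 17)]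
noncomputable def m22_P4_levels : List Core.Lev := [m22_P4_lev0]

noncomputable def m22_P4_cert : Simple.SylCert := ⟨nat_lit 11, nat_lit 11, m22_P4_T, m22_P4_prog, m22_P4_levels, [nat_lit 0xbdab49ca307b9ac5a928398a418820], [(nat_lit 0xbaa0c391d2304752b5717d1024cec0, nat_lit 0xbdab49ca307b9ac5a928398a418820, nat_lit 1, nat_lit 0xbaa0c391d2304752b5717d1024cec0), (nat_lit 0xbb65578824a593040cae3323359d40, nat_lit 0xbadf0ac90c386c2744a925153199a0, nat_lit 2, nat_lit 0xbaa0c391d2304752b5717d1024cec0), (nat_lit 0xb8c9034ec2629728a501a55c72bda0, nat_lit 0xb8cf4111ac816d25222e34d6f4d420, nat_lit 1, nat_lit 0xbaa0c391d2304752b5717d1024cec0), (nat_lit 0xba452a1d53ab4a472e366402f41860, nat_lit 0xbadf0ac90c386c2744a925153199a0, nat_lit 1, nat_lit 0xbaa0c391d2304752b5717d1024cec0), (nat_lit 0xbae6463da780d02095caacac68d120, nat_lit 0xba6139182ca46c45b50aabc67708a0, nat_lit 1, nat_lit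 0xbaa0c391d2304752b5717d1024cec0), (nat_lit 0xb94e2a986f92633b202d8115473160, nat_lit 0xbdab49ca307b9ac5a928398a418820, nat_lit 2, nat_lit 0xbaa0c391d2304752b5717d1024cec0), (nat_lit 0xba1f38512622dc7546c3909ac0d4a0, nat_lit 0xb8cf4111ac816d25222e34d6f4d420, nat_lit 2, nat_lit 0xbaa0c391d2304752b5717d1024cec0), (nat_lit 0xbc4c7931741142f6b94924c75b4100, nat_lit 0xba6139182ca46c45b50aabc67708a0, nat_lit 2, nat_lit 0xbaa0c391d2304752b5717d1024cec0), (nat_lit 0xbba8f254ac9a2c6185ab11d3054a20, nat_lit 0xb84823c8a69d9d46a62aab10f1c160, nat_lit 1, nat_lit 0xbaa0c391d2304752b5717d1024cec0), (nat_lit 0xb8586141153c5544d8659bd72691c0, nat_lit 0xb84823c8a69d9d46a62aab10f1c160, nat_lit 2, nat_lit 0xbaa0c391d2304752b5717d1024cec0)], [(nat_lit 1, nat_lit 1, nat_lit 0), (nat_lit 0, nat_lit 2, nat_lit 0), (nat_lit 1, nat_lit 2, nat_lit 0), (nat_lit 0, nat_lit 2, nat_lit 0), (nat_lit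 0, nat_lit 1, nat_lit 0), (nat_lit 0, nat_lit 2, nat_lit 0), (nat_lit 0, nat_lit 3, nat_lit 0), (nat_lit 0, nat_lit 4, nat_lit 0), (nat_lit 0, nat_lit 7, nat_lit 0), (nat_lit 0, nat_lit 6, nat_lit 0), (nat_lit 0, nat_lit 9, nat_lit 0), (nat_lit 0, nat_lit 10, nat_lit 0), (nat_lit 0, nat_lit 11, nat_lit 0), (nat_lit 0, nat_lit 12, nat_lit 0), (nat_lit 0, nat_lit 11, nat_lit 0), (nat_lit 0, nat_lit 14, nat_lit 11), (nat_lit 0, nat_lit 15, nat_lit 0), (nat_lit 0, nat_lit 16, nat_lit 0), (nat_lit 0, nat_lit 15, nat_lit 0), (nat_lit 0, nat_lit 18, nat_lit 0), (nat_lit 0, nat_lit 17, nat_lit 0), (nat_lit 0, nat_lit 20, nat_lit 0), (nat_lit 0, nat_lit 19, nat_lit 0), (nat_lit 0, nat_lit 20, nat_lit 0), (nat_lit 0, nat_lit 21, nat_lit 0), (nat_lit 0, nat_lit 22, nat_lit 0), (nat_lit 0, nat_lit 23, nat_lit 0), (nat_lit 0, nat_lit 24, nat_lit 0), (nat_lit 0, nat_lit 27, nat_lit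 0), (nat_lit 0, nat_lit 28, nat_lit 0), (nat_lit 0, nat_lit 29, nat_lit 0), (nat_lit 0, nat_lit 28, nat_lit 15), (nat_lit 0, nat_lit 29, nat_lit 0), (nat_lit 0, nat_lit 30, nat_lit 0), (nat_lit 0, nat_lit 31, nat_lit 0), (nat_lit 0, nat_lit 34, nat_lit 0), (nat_lit 0, nat_lit 33, nat_lit 0), (nat_lit 0, nat_lit 36, nat_lit 0), (nat_lit 0, nat_lit 37, nat_lit 0), (nat_lit 0, nat_lit 36, nat_lit 0), (nat_lit 0, nat_lit 37, nat_lit 0), (nat_lit 0, nat_lit 38, nat_lit 0), (nat_lit 0, nat_lit 39, nat_lit 41), (nat_lit 0, nat_lit 42, nat_lit 0), (nat_lit 0, nat_lit 43, nat_lit 0), (nat_lit 0, nat_lit 42, nat_lit 0), (nat_lit 0, nat_lit 45, nat_lit 0), (nat_lit 0, nat_lit 44, nat_lit 0), (nat_lit 0, nat_lit 45, nat_lit 0), (nat_lit 0, nat_lit 46, nat_lit 0), (nat_lit 0, nat_lit 47, nat_lit 0), (nat_lit 0, nat_lit 48, nat_lit 0), (nat_lit 0, nat_lit 49, nat_lit 0)]⟩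

noncomputable def m22_reps : List Simple.RepCert := [m22_R0_cert, m22_R1_cert, m22_R2_cert, m22_R3_cert, m22_R4_cert]
noncomputable def m22_syls : List Simple.SylCert := [m22_P0_cert, m22_P1_cert, m22_P2_cert, m22_P3_cert, m22_P4_cert]

set_option maxRecDepth 1000000 in
theorem m22_G_ok : Core.checkAll m22_n m22_w m22_mask m22_L m22_maskL m22_idc m22_G_T m22_G_prog m22_G_levels = true := by decide +kernel

theorem m22_order : Core.orderC m22_G_levels = 443520 := by decide +kernel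

set_option maxRecDepth 1000000 in
theorem m22_reps_ok : Core.allL (Simple.repCheck m22_n m22_w m22_mask m22_L m22_maskL m22_idc m22_G_T m22_G_levels 443520) m22_reps = true := by decide +kernel

set_option maxRecDepth 1000000 in
theorem m22_syls_ok : Core.allL (Simple.sylCheck m22_n m22_w m22_mask m22_L m22_maskL m22_idc m22_G_T m22_G_levels 443520 (m22_reps.map (·.r))) m22_syls = true := by decide +kernel

theorem m22_prod : (m22_syls.map (·.pk)).prod = 443520 := by decide +kernel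

end Cfsg.Agent.Lib.PermComp.Mathieu.CertM22
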