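import Cfsg.Agent.Lib.PermComp.Simple

/-!
# Certificate of simplicity for the Mathieu group M23

Generated by `tools/gen_mathieu.py`: a stabilizer chain of the group generated by the codes
`m23_G_T`, and the Sylow and normal closure data.
-/

namespace Cfsg.Agent.Lib.PermComp.Mathieu.CertM23

open Cfsg.Agent.Lib.PermComp

def m23_n : Nat := nat_lit 24
def m23_w : Nat := nat_lit 5
def m23_mask : Nat := nat_lit 31
def m23_L : Nat := nat_lit 120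
def m23_maskL : Nat := nat_lit 0xffffffffffffffffffffffffffffff
def m23_idc : Nat := nat_lit 0xbdab49ca307b9ac5a928398a418820

def m23_G_T : List Nat := [nat_lit 0xb80a68491413dae99d44655760a623, nat_lit 0xbd085409ac83e36999c03ad21aa872]
def m23_G_prog : List (Nat × Nat × Nat) := [(nat_lit 1, nat_lit 1, nat_lit 0), (nat_lit 1, nat_lit 1, nat_lit 0), (nat_lit 0, nat_lit 3, nat_lit 2), (nat_lit 0, nat_lit 0, nat_lit 4), (nat_lit 0, nat_lit 4, nat_lit 5), (nat_lit 0, nat_lit 0, nat_lit 6), (nat_lit 0, nat_lit 0, nat_lit 6), (nat_lit 0, nat_lit 0, nat_lit 8), (nat_lit 0, nat_lit 0, nat_lit 8), (nat_lit 0, nat_lit 0, nat_lit 9), (nat_lit 0, nat_lit 0, nat_lit 11), (nat_lit 0, nat_lit 0, nat_lit 11), (nat_lit 0, nat_lit 0, nat_lit 12), (nat_lit 0, nat_lit 12, nat_lit 11), (nat_lit 0, nat_lit 0, nat_lit 12), (nat_lit 0, nat_lit 0, nat_lit 14), (nat_lit 0, nat_lit 0, nat_lit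 3), (nat_lit 0, nat_lit 13, nat_lit 18), (nat_lit 0, nat_lit 0, nat_lit 19), (nat_lit 0, nat_lit 18, nat_lit 18), (nat_lit 0, nat_lit 0, nat_lit 19), (nat_lit 0, nat_lit 0, nat_lit 19), (nat_lit 0, nat_lit 0, nat_lit 3), (nat_lit 1, nat_lit 6, nat_lit 0), (nat_lit 1, nat_lit 1, nat_lit 0), (nat_lit 0, nat_lit 8, nat_lit 8), (nat_lit 0, nat_lit 0, nat_lit 3), (nat_lit 0, nat_lit 0, nat_lit 10), (nat_lit 0, nat_lit 0, nat_lit 11), (nat_lit 0, nat_lit 0, nat_lit 6), (nat_lit 0, nat_lit 0, nat_lit 7), (nat_lit 0, nat_lit 0, nat_lit 14), (nat_lit 0, nat_lit 0, nat_lit 9), (nat_lit 0, nat_lit 0, nat_lit 16), (nat_lit 0, nat_lit 10, nat_lit 9), (nat_lit 0, nat_lit 0, nat_lit 10), (nat_lit 0, nat_lit 0, nat_lit 11), (nat_lit 0, nat_lit 0, nat_lit 12), (nat_lit 0, nat_lit 0, nat_lit 4), (nat_lit 0, nat_lit 22, nat_lit 16), (nat_lit 0, nat_lit 0, nat_lit 23), (nat_lit 0,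 nat_lit 0, nat_lit 18), (nat_lit 0, nat_lit 0, nat_lit 25), (nat_lit 0, nat_lit 0, nat_lit 26), (nat_lit 0, nat_lit 0, nat_lit 21), (nat_lit 0, nat_lit 0, nat_lit 28), (nat_lit 0, nat_lit 0, nat_lit 23), (nat_lit 0, nat_lit 0, nat_lit 24), (nat_lit 0, nat_lit 0, nat_lit 31), (nat_lit 0, nat_lit 13, nat_lit 25), (nat_lit 0, nat_lit 0, nat_lit 26), (nat_lit 0, nat_lit 0, nat_lit 2), (nat_lit 1, nat_lit 13, nat_lit 0), (nat_lit 1, nat_lit 1, nat_lit 0), (nat_lit 0, nat_lit 2, nat_lit 2), (nat_lit 0, nat_lit 0, nat_lit 3), (nat_lit 0, nat_lit 0, nat_lit 17), (nat_lit 0, nat_lit 0, nat_lit 5), (nat_lit 0, nat_lit 0, nat_lit 19), (nat_lit 0, nat_lit 0, nat_lit 7), (nat_lit 0, nat_lit 0, nat_lit 8), (nat_lit 0, nat_lit 8, nat_lit 8), (nat_lit 0, nat_lit 0, nat_lit 8), (nat_lit 0, nat_lit 0, nat_lit 9), (nat_lit 0, nat_lit 0, nat_lit 11), (nat_lit 0, nat_lit 0, nat_lit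 4), (nat_lit 0, nat_lit 27, nat_lit 14), (nat_lit 0, nat_lit 0, nat_lit 28), (nat_lit 0, nat_lit 0, nat_lit 16), (nat_lit 0, nat_lit 0, nat_lit 30), (nat_lit 0, nat_lit 0, nat_lit 31), (nat_lit 0, nat_lit 0, nat_lit 19), (nat_lit 0, nat_lit 0, nat_lit 20), (nat_lit 0, nat_lit 0, nat_lit 21), (nat_lit 0, nat_lit 20, nat_lit 21), (nat_lit 0, nat_lit 0, nat_lit 1), (nat_lit 1, nat_lit 10, nat_lit 0), (nat_lit 1, nat_lit 1, nat_lit 0), (nat_lit 0, nat_lit 12, nat_lit 12), (nat_lit 0, nat_lit 0, nat_lit 3), (nat_lit 0, nat_lit 0, nat_lit 4), (nat_lit 0, nat_lit 0, nat_lit 15), (nat_lit 0, nat_lit 0, nat_lit 16), (nat_lit 0, nat_lit 0, nat_lit 17), (nat_lit 0, nat_lit 0, nat_lit 18), (nat_lit 0, nat_lit 0, nat_lit 19), (nat_lit 0, nat_lit 0, nat_lit 20), (nat_lit 0, nat_lit 0, nat_lit 11), (nat_lit 0, nat_lit 12, nat_lit 12), (nat_lit 0, nat_lit 0, nat_lit 13), (nat_lit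 0, nat_lit 0, nat_lit 24), (nat_lit 0, nat_lit 0, nat_lit 15), (nat_lit 0, nat_lit 0, nat_lit 26), (nat_lit 0, nat_lit 0, nat_lit 27), (nat_lit 0, nat_lit 0, nat_lit 18), (nat_lit 0, nat_lit 0, nat_lit 29), (nat_lit 0, nat_lit 19, nat_lit 18), (nat_lit 0, nat_lit 0, nat_lit 19), (nat_lit 0, nat_lit 0, nat_lit 2), (nat_lit 0, nat_lit 23, nat_lit 33), (nat_lit 0, nat_lit 0, nat_lit 24), (nat_lit 0, nat_lit 0, nat_lit 25), (nat_lit 0, nat_lit 0, nat_lit 26), (nat_lit 0, nat_lit 0, nat_lit 27), (nat_lit 0, nat_lit 0, nat_lit 28), (nat_lit 0, nat_lit 0, nat_lit 39), (nat_lit 0, nat_lit 0, nat_lit 30), (nat_lit 0, nat_lit 30, nat_lit 30), (nat_lit 0, nat_lit 0, nat_lit 30), (nat_lit 0, nat_lit 0, nat_lit 2), (nat_lit 0, nat_lit 10, nat_lit 44), (nat_lit 0, nat_lit 0, nat_lit 45), (nat_lit 0, nat_lit 14, nat_lit 0), (nat_lit 0, nat_lit 47, nat_lit 37), (nat_lit 0, nat_lit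 0, nat_lit 48), (nat_lit 0, nat_lit 0, nat_lit 49), (nat_lit 0, nat_lit 0, nat_lit 50), (nat_lit 0, nat_lit 0, nat_lit 51), (nat_lit 0, nat_lit 0, nat_lit 42), (nat_lit 0, nat_lit 0, nat_lit 53), (nat_lit 0, nat_lit 0, nat_lit 44), (nat_lit 0, nat_lit 0, nat_lit 55), (nat_lit 0, nat_lit 0, nat_lit 46), (nat_lit 0, nat_lit 0, nat_lit 57), (nat_lit 0, nat_lit 15, nat_lit 46), (nat_lit 0, nat_lit 0, nat_lit 48), (nat_lit 0, nat_lit 0, nat_lit 49), (nat_lit 0, nat_lit 0, nat_lit 3), (nat_lit 1, nat_lit 15, nat_lit 0), (nat_lit 0, nat_lit 1, nat_lit 19), (nat_lit 0, nat_lit 0, nat_lit 20), (nat_lit 0, nat_lit 0, nat_lit 43), (nat_lit 0, nat_lit 0, nat_lit 33), (nat_lit 0, nat_lit 0, nat_lit 34), (nat_lit 0, nat_lit 5, nat_lit 0)]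
def m23_G_s0 : Nat := nat_lit 0xb80a68491413dae99d44655760a623
def m23_G_s1 : Nat := nat_lit 0xbcd6c2bcf00d9146a635509d219880
def m23_G_s2 : Nat := nat_lit 0xbc85071db6656887cd4488d2659420
def m23_G_s3 : Nat := nat_lit 0xbaca48cde86aa55342c770e8c48820
def m23_G_s4 : Nat := nat_lit 0xbac8a69dd2a159333d3585a2818820
def m23_G_s5 : Nat := nat_lit 0xbce8d549c7216ab45a0c4be2618820
def m23_G_s6 : Nat := nat_lit 0xbc12ba18ad946c79b11553dc418820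
noncomputable def m23_G_lev0 : Core.Lev := Core.mkLev m23_n m23_w m23_mask m23_L m23_maskL m23_idc (nat_lit 0) [m23_G_s6, m23_G_s4, m23_G_s5, m23_G_s3, m23_G_s2, m23_G_s1, m23_G_s0] [(nat_lit 3, m23_G_s0, nat_lit 0), (nat_lit 9, m23_G_s3, nat_lit 3), (nat_lit 11, m23_G_s2, nat_lit 3), (nat_lit 1, m23_G_s0, nat_lit 3), (nat_lit 8, m23_G_s6, nat_lit 9), (nat_lit 16, m23_G_s5, nat_lit 9), (nat_lit 22, m23_G_s3, nat_lit 9), (nat_lit 10, m23_G_s2, nat_lit 9), (nat_lit 17, m23_G_s1, nat_lit 9), (nat_lit 19, m23_G_s6, nat_lit 11), (nat_lit 6, m23_G_s4, nat_lit 11), (nat_lit 15, m23_G_s2, nat_lit 11), (nat_lit 13, m23_G_s1, nat_lit 11), (nat_lit 4, m23_G_s1, nat_lit 1), (nat_lit 21, m23_G_s6, nat_lit 8), (nat_lit 12, m23_G_s5, nat_lit 8), (nat_lit 7, m23_G_s3, nat_lit 8), (nat_lit 18, m23_G_s4, nat_lit 16), (nat_lit 20, m23_G_s0, nat_lit 16), (nat_lit 5, m23_G_s6, nat_lit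 17), (nat_lit 14, m23_G_s4, nat_lit 17), (nat_lit 2, m23_G_s1, nat_lit 6)]
noncomputable def m23_G_lev1 : Core.Lev := Core.mkLev m23_n m23_w m23_mask m23_L m23_maskL m23_idc (nat_lit 1) [m23_G_s6, m23_G_s4, m23_G_s5, m23_G_s3, m23_G_s2, m23_G_s1] [(nat_lit 4, m23_G_s1, nat_lit 1), (nat_lit 8, m23_G_s4, nat_lit 4), (nat_lit 6, m23_G_s5, nat_lit 4), (nat_lit 12, m23_G_s3, nat_lit 4), (nat_lit 18, m23_G_s1, nat_lit 4), (nat_lit 21, m23_G_s6, nat_lit 8), (nat_lit 7, m23_G_s3, nat_lit 8), (nat_lit 15, m23_G_s6, nat_lit 6), (nat_lit 22, m23_G_s4, nat_lit 6), (nat_lit 3, m23_G_s3, nat_lit 6), (nat_lit 2, m23_G_s1, nat_lit 6), (nat_lit 19, m23_G_s4, nat_lit 12), (nat_lit 11, m23_G_s5, nat_lit 12), (nat_lit 20, m23_G_s1, nat_lit 12), (nat_lit 9, m23_G_s6, nat_lit 21), (nat_lit 5, m23_G_s3, nat_lit 21), (nat_lit 10, m23_G_s6, nat_lit 7), (nat_lit 16, m23_G_s4, nat_lit 7),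 (nat_lit 14, m23_G_s3, nat_lit 7), (nat_lit 17, m23_G_s2, nat_lit 7), (nat_lit 13, m23_G_s3, nat_lit 15)]
noncomputable def m23_G_lev2 : Core.Lev := Core.mkLev m23_n m23_w m23_mask m23_L m23_maskL m23_idc (nat_lit 2) [m23_G_s6, m23_G_s4, m23_G_s5, m23_G_s3, m23_G_s2] [(nat_lit 5, m23_G_s2, nat_lit 2), (nat_lit 14, m23_G_s6, nat_lit 5), (nat_lit 17, m23_G_s4, nat_lit 5), (nat_lit 20, m23_G_s3, nat_lit 5), (nat_lit 9, m23_G_s2, nat_lit 5), (nat_lit 10, m23_G_s3, nat_lit 14), (nat_lit 21, m23_G_s2, nat_lit 14), (nat_lit 15, m23_G_s3, nat_lit 17), (nat_lit 13, m23_G_s2, nat_lit 17), (nat_lit 11, m23_G_s6, nat_lit 20), (nat_lit 4, m23_G_s3, nat_lit 20), (nat_lit 16, m23_G_s2, nat_lit 20), (nat_lit 8, m23_G_s6, nat_lit 9), (nat_lit 22, m23_G_s3, nat_lit 9), (nat_lit 12, m23_G_s6, nat_lit 10), (nat_lit 19, m23_G_s2, nat_lit 10), (nat_lit 18, m23_G_s6, nat_lit 15), (nat_lit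 6, m23_G_s4, nat_lit 11), (nat_lit 7, m23_G_s5, nat_lit 16), (nat_lit 3, m23_G_s3, nat_lit 6)]
noncomputable def m23_G_lev3 : Core.Lev := Core.mkLev m23_n m23_w m23_mask m23_L m23_maskL m23_idc (nat_lit 3) [m23_G_s6, m23_G_s4, m23_G_s5, m23_G_s3] [(nat_lit 9, m23_G_s3, nat_lit 3), (nat_lit 8, m23_G_s6, nat_lit 9), (nat_lit 16, m23_G_s5, nat_lit 9), (nat_lit 22, m23_G_s3, nat_lit 9), (nat_lit 21, m23_G_s6, nat_lit 8), (nat_lit 12, m23_G_s5, nat_lit 8), (nat_lit 7, m23_G_s3, nat_lit 8), (nat_lit 13, m23_G_s6, nat_lit 16), (nat_lit 18, m23_G_s4, nat_lit 16), (nat_lit 11, m23_G_s4, nat_lit 22), (nat_lit 19, m23_G_s5, nat_lit 22), (nat_lit 4, m23_G_s4, nat_lit 21), (nat_lit 20, m23_G_s5, nat_lit 21), (nat_lit 5, m23_G_s3, nat_lit 21), (nat_lit 10, m23_G_s6, nat_lit 7), (nat_lit 14, m23_G_s3, nat_lit 7), (nat_lit 6, m23_G_s6, nat_lit 18), (nat_lit 17, m23_G_s3, nat_lit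 19), (nat_lit 15, m23_G_s4, nat_lit 10)]
noncomputable def m23_G_lev4 : Core.Lev := Core.mkLev m23_n m23_w m23_mask m23_L m23_maskL m23_idc (nat_lit 4) [m23_G_s6, m23_G_s4, m23_G_s5] [(nat_lit 8, m23_G_s4, nat_lit 4), (nat_lit 6, m23_G_s5, nat_lit 4), (nat_lit 21, m23_G_s6, nat_lit 8), (nat_lit 12, m23_G_s5, nat_lit 8), (nat_lit 15, m23_G_s6, nat_lit 6), (nat_lit 22, m23_G_s4, nat_lit 6), (nat_lit 9, m23_G_s6, nat_lit 21), (nat_lit 20, m23_G_s5, nat_lit 21), (nat_lit 7, m23_G_s6, nat_lit 12), (nat_lit 19, m23_G_s4, nat_lit 12), (nat_lit 11, m23_G_s5, nat_lit 12), (nat_lit 18, m23_G_s6, nat_lit 15), (nat_lit 16, m23_G_s6, nat_lit 22), (nat_lit 10, m23_G_s4, nat_lit 20), (nat_lit 13, m23_G_s5, nat_lit 20)]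
noncomputable def m23_G_lev5 : Core.Lev := Core.mkLev m23_n m23_w m23_mask m23_L m23_maskL m23_idc (nat_lit 5) [m23_G_s6] [(nat_lit 14, m23_G_s6, nat_lit 5), (nat_lit 17, m23_G_s6, nat_lit 14)]
noncomputable def m23_G_levels : List Core.Lev := [m23_G_lev0, m23_G_lev1, m23_G_lev2, m23_G_lev3, m23_G_lev4, m23_G_lev5]

def m23_R0_T : List Nat := [nat_lit 0xbda03648d5039534b5680c4a4a08ef, nat_lit 0xbd1b69c90c19eb05a9317180279025, nat_lit 0xbbab4285463d9ac5c4887c26918242]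
def m23_R0_prog : List (Nat × Nat × Nat) := [(nat_lit 1, nat_lit 2, nat_lit 0), (nat_lit 1, nat_lit 2, nat_lit 0), (nat_lit 1, nat_lit 2, nat_lit 0), (nat_lit 0, nat_lit 5, nat_lit 5), (nat_lit 0, nat_lit 0, nat_lit 4), (nat_lit 0, nat_lit 0, nat_lit 6), (nat_lit 0, nat_lit 0, nat_lit 8), (nat_lit 0, nat_lit 0, nat_lit 8), (nat_lit 0, nat_lit 0, nat_lit 8), (nat_lit 0, nat_lit 0, nat_lit 9), (nat_lit 0, nat_lit 0, nat_lit 11), (nat_lit 0, nat_lit 0, nat_lit 12), (nat_lit 0, nat_lit 9, nat_lit 0), (nat_lit 0, nat_lit 13, nat_lit 14), (nat_lit 0, nat_lit 0, nat_lit 16), (nat_lit 0, nat_lit 0, nat_lit 17), (nat_lit 0, nat_lit 0, nat_lit 17), (nat_lit 0, nat_lit 0, nat_lit 18), (nat_lit 0, nat_lit 0, nat_lit 18), (nat_lit 0, nat_lit 0, nat_lit 20), (nat_lit 0, nat_lit 0, nat_lit 21), (nat_lit 0, nat_lit 0, nat_lit 21), (nat_lit 0, nat_lit 0, nat_lit 24), (nat_lit 0,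 nat_lit 0, nat_lit 23), (nat_lit 0, nat_lit 21, nat_lit 22), (nat_lit 0, nat_lit 0, nat_lit 22), (nat_lit 0, nat_lit 0, nat_lit 2), (nat_lit 0, nat_lit 28, nat_lit 27), (nat_lit 0, nat_lit 0, nat_lit 29), (nat_lit 0, nat_lit 0, nat_lit 29), (nat_lit 0, nat_lit 0, nat_lit 30), (nat_lit 0, nat_lit 0, nat_lit 33), (nat_lit 0, nat_lit 0, nat_lit 33), (nat_lit 0, nat_lit 0, nat_lit 34), (nat_lit 0, nat_lit 0, nat_lit 35), (nat_lit 0, nat_lit 0, nat_lit 36), (nat_lit 0, nat_lit 0, nat_lit 36), (nat_lit 0, nat_lit 11, nat_lit 0), (nat_lit 0, nat_lit 23, nat_lit 39), (nat_lit 0, nat_lit 0, nat_lit 41), (nat_lit 0, nat_lit 0, nat_lit 41), (nat_lit 0, nat_lit 0, nat_lit 42), (nat_lit 0, nat_lit 0, nat_lit 42), (nat_lit 0, nat_lit 0, nat_lit 44), (nat_lit 0, nat_lit 0, nat_lit 44), (nat_lit 0, nat_lit 0, nat_lit 45), (nat_lit 0, nat_lit 0, nat_lit 47), (nat_lit 0, nat_lit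 43, nat_lit 49), (nat_lit 0, nat_lit 0, nat_lit 49), (nat_lit 0, nat_lit 0, nat_lit 51), (nat_lit 0, nat_lit 0, nat_lit 51), (nat_lit 0, nat_lit 0, nat_lit 51), (nat_lit 0, nat_lit 0, nat_lit 53), (nat_lit 0, nat_lit 51, nat_lit 50), (nat_lit 0, nat_lit 0, nat_lit 53), (nat_lit 0, nat_lit 0, nat_lit 53), (nat_lit 0, nat_lit 0, nat_lit 55), (nat_lit 0, nat_lit 0, nat_lit 4), (nat_lit 0, nat_lit 60, nat_lit 59), (nat_lit 0, nat_lit 0, nat_lit 60), (nat_lit 0, nat_lit 0, nat_lit 61), (nat_lit 0, nat_lit 0, nat_lit 63), (nat_lit 0, nat_lit 0, nat_lit 64), (nat_lit 0, nat_lit 61, nat_lit 0), (nat_lit 0, nat_lit 65, nat_lit 66), (nat_lit 0, nat_lit 0, nat_lit 66), (nat_lit 0, nat_lit 0, nat_lit 66), (nat_lit 0, nat_lit 0, nat_lit 68), (nat_lit 0, nat_lit 0, nat_lit 70), (nat_lit 0, nat_lit 67, nat_lit 0), (nat_lit 1, nat_lit 57, nat_lit 0), (nat_lit 1, nat_lit 24, nat_lit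 0), (nat_lit 0, nat_lit 34, nat_lit 14), (nat_lit 0, nat_lit 0, nat_lit 35), (nat_lit 0, nat_lit 0, nat_lit 10), (nat_lit 0, nat_lit 0, nat_lit 17), (nat_lit 0, nat_lit 0, nat_lit 12), (nat_lit 0, nat_lit 6, nat_lit 5), (nat_lit 0, nat_lit 0, nat_lit 1), (nat_lit 0, nat_lit 41, nat_lit 32), (nat_lit 0, nat_lit 0, nat_lit 10), (nat_lit 0, nat_lit 0, nat_lit 17), (nat_lit 0, nat_lit 0, nat_lit 44), (nat_lit 0, nat_lit 0, nat_lit 56), (nat_lit 0, nat_lit 0, nat_lit 71), (nat_lit 0, nat_lit 14, nat_lit 0), (nat_lit 1, nat_lit 7, nat_lit 0), (nat_lit 1, nat_lit 1, nat_lit 0), (nat_lit 0, nat_lit 2, nat_lit 2), (nat_lit 0, nat_lit 0, nat_lit 10), (nat_lit 0, nat_lit 0, nat_lit 11), (nat_lit 0, nat_lit 0, nat_lit 5), (nat_lit 0, nat_lit 0, nat_lit 13), (nat_lit 0, nat_lit 5, nat_lit 6), (nat_lit 0, nat_lit 0, nat_lit 7), (nat_lit 0, nat_lit 0, nat_lit 2), (nat_lit 0, nat_lit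 6, nat_lit 10), (nat_lit 0, nat_lit 0, nat_lit 18), (nat_lit 0, nat_lit 0, nat_lit 19), (nat_lit 0, nat_lit 0, nat_lit 20), (nat_lit 0, nat_lit 0, nat_lit 14), (nat_lit 0, nat_lit 0, nat_lit 15), (nat_lit 0, nat_lit 0, nat_lit 23), (nat_lit 0, nat_lit 0, nat_lit 24), (nat_lit 0, nat_lit 0, nat_lit 18), (nat_lit 0, nat_lit 17, nat_lit 0), (nat_lit 0, nat_lit 20, nat_lit 27), (nat_lit 0, nat_lit 0, nat_lit 21), (nat_lit 0, nat_lit 0, nat_lit 29), (nat_lit 0, nat_lit 0, nat_lit 23), (nat_lit 0, nat_lit 0, nat_lit 24), (nat_lit 0, nat_lit 0, nat_lit 32), (nat_lit 0, nat_lit 0, nat_lit 33), (nat_lit 0, nat_lit 25, nat_lit 25), (nat_lit 0, nat_lit 0, nat_lit 26), (nat_lit 0, nat_lit 0, nat_lit 2), (nat_lit 1, nat_lit 20, nat_lit 0), (nat_lit 1, nat_lit 11, nat_lit 0), (nat_lit 1, nat_lit 2, nat_lit 0), (nat_lit 0, nat_lit 23, nat_lit 3), (nat_lit 0, nat_lit 2, nat_lit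 1), (nat_lit 0, nat_lit 15, nat_lit 15), (nat_lit 0, nat_lit 0, nat_lit 6), (nat_lit 0, nat_lit 0, nat_lit 27), (nat_lit 0, nat_lit 0, nat_lit 8), (nat_lit 0, nat_lit 0, nat_lit 29), (nat_lit 0, nat_lit 0, nat_lit 20), (nat_lit 0, nat_lit 0, nat_lit 11), (nat_lit 0, nat_lit 0, nat_lit 32), (nat_lit 0, nat_lit 0, nat_lit 23), (nat_lit 0, nat_lit 0, nat_lit 24), (nat_lit 0, nat_lit 0, nat_lit 35), (nat_lit 0, nat_lit 13, nat_lit 15), (nat_lit 0, nat_lit 0, nat_lit 14), (nat_lit 0, nat_lit 0, nat_lit 15), (nat_lit 0, nat_lit 0, nat_lit 3), (nat_lit 0, nat_lit 20, nat_lit 40), (nat_lit 0, nat_lit 0, nat_lit 31), (nat_lit 0, nat_lit 0, nat_lit 32), (nat_lit 0, nat_lit 0, nat_lit 23), (nat_lit 0, nat_lit 0, nat_lit 34), (nat_lit 0, nat_lit 0, nat_lit 45), (nat_lit 0, nat_lit 0, nat_lit 26), (nat_lit 0, nat_lit 0, nat_lit 47), (nat_lit 0, nat_lit 0, nat_lit 38), (nat_lit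 0, nat_lit 0, nat_lit 39), (nat_lit 0, nat_lit 29, nat_lit 27), (nat_lit 0, nat_lit 0, nat_lit 30), (nat_lit 0, nat_lit 0, nat_lit 2), (nat_lit 0, nat_lit 29, nat_lit 53), (nat_lit 0, nat_lit 0, nat_lit 54), (nat_lit 0, nat_lit 0, nat_lit 35), (nat_lit 0, nat_lit 0, nat_lit 56), (nat_lit 0, nat_lit 0, nat_lit 37), (nat_lit 0, nat_lit 0, nat_lit 48), (nat_lit 0, nat_lit 34, nat_lit 0), (nat_lit 1, nat_lit 20, nat_lit 0), (nat_lit 1, nat_lit 1, nat_lit 0), (nat_lit 0, nat_lit 9, nat_lit 2), (nat_lit 0, nat_lit 0, nat_lit 23), (nat_lit 0, nat_lit 0, nat_lit 24), (nat_lit 0, nat_lit 0, nat_lit 25), (nat_lit 0, nat_lit 0, nat_lit 6), (nat_lit 0, nat_lit 5, nat_lit 5), (nat_lit 0, nat_lit 0, nat_lit 7), (nat_lit 0, nat_lit 0, nat_lit 2)]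
def m23_R0_s0 : Nat := nat_lit 0xbda03648d5039534b5680c4a4a08ef
def m23_R0_s1 : Nat := nat_lit 0xbbd5484a33b058d4d5663a064289c0
def m23_R0_s2 : Nat := nat_lit 0xbba6babc74b49882c54411a0d49c20
def m23_R0_s3 : Nat := nat_lit 0xbbdcc2d5b4591269c90788eca80820
def m23_R0_s4 : Nat := nat_lit 0xbd17661a2a23933ac1a7448af18820
def m23_R0_s5 : Nat := nat_lit 0xbb54c79cb044486aae534d1d618820
def m23_R0_s6 : Nat := nat_lit 0xbc12ba18ad946c79b11553dc418820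
noncomputable def m23_R0_lev0 : Core.Lev := Core.mkLev m23_n m23_w m23_mask m23_L m23_maskL m23_idc (nat_lit 0) [m23_R0_s6, m23_R0_s4, m23_R0_s5, m23_R0_s3, m23_R0_s2, m23_R0_s1, m23_R0_s0] [(nat_lit 15, m23_R0_s0, nat_lit 0), (nat_lit 18, m23_R0_s6, nat_lit 15), (nat_lit 4, m23_R0_s4, nat_lit 15), (nat_lit 8, m23_R0_s5, nat_lit 15), (nat_lit 11, m23_R0_s3, nat_lit 15), (nat_lit 22, m23_R0_s2, nat_lit 15), (nat_lit 6, m23_R0_s6, nat_lit 18), (nat_lit 7, m23_R0_s5, nat_lit 18), (nat_lit 21, m23_R0_s3, nat_lit 18), (nat_lit 10, m23_R0_s3, nat_lit 4), (nat_lit 13, m23_R0_s2, nat_lit 4), (nat_lit 19, m23_R0_s5, nat_lit 8), (nat_lit 5, m23_R0_s2, nat_lit 11), (nat_lit 9, m23_R0_s1, nat_lit 11), (nat_lit 16, m23_R0_s6, nat_lit 22), (nat_lit 20, m23_R0_s4, nat_lit 22), (nat_lit 14, m23_R0_s2, nat_lit 22), (nat_lit 3, m23_R0_s3, nat_lit 6), (nat_lit 17, m23_R0_s0, nat_lit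 6), (nat_lit 2, m23_R0_s2, nat_lit 7), (nat_lit 1, m23_R0_s0, nat_lit 7), (nat_lit 12, m23_R0_s6, nat_lit 10)]
noncomputable def m23_R0_lev1 : Core.Lev := Core.mkLev m23_n m23_w m23_mask m23_L m23_maskL m23_idc (nat_lit 1) [m23_R0_s6, m23_R0_s4, m23_R0_s5, m23_R0_s3, m23_R0_s2, m23_R0_s1] [(nat_lit 14, m23_R0_s1, nat_lit 1), (nat_lit 17, m23_R0_s6, nat_lit 14), (nat_lit 4, m23_R0_s3, nat_lit 14), (nat_lit 18, m23_R0_s2, nat_lit 14), (nat_lit 5, m23_R0_s6, nat_lit 17), (nat_lit 13, m23_R0_s3, nat_lit 17), (nat_lit 3, m23_R0_s2, nat_lit 17), (nat_lit 15, m23_R0_s4, nat_lit 4), (nat_lit 22, m23_R0_s5, nat_lit 4), (nat_lit 10, m23_R0_s3, nat_lit 4), (nat_lit 6, m23_R0_s6, nat_lit 18), (nat_lit 7, m23_R0_s5, nat_lit 18), (nat_lit 21, m23_R0_s3, nat_lit 18), (nat_lit 16, m23_R0_s2, nat_lit 5), (nat_lit 9, m23_R0_s4, nat_lit 13), (nat_lit 12, m23_R0_s2, nat_lit 13), (nat_lit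 8, m23_R0_s5, nat_lit 15), (nat_lit 11, m23_R0_s3, nat_lit 15), (nat_lit 20, m23_R0_s4, nat_lit 22), (nat_lit 2, m23_R0_s2, nat_lit 7), (nat_lit 19, m23_R0_s2, nat_lit 21)]
noncomputable def m23_R0_lev2 : Core.Lev := Core.mkLev m23_n m23_w m23_mask m23_L m23_maskL m23_idc (nat_lit 2) [m23_R0_s6, m23_R0_s4, m23_R0_s5, m23_R0_s3, m23_R0_s2] [(nat_lit 7, m23_R0_s2, nat_lit 2), (nat_lit 10, m23_R0_s6, nat_lit 7), (nat_lit 8, m23_R0_s4, nat_lit 7), (nat_lit 9, m23_R0_s5, nat_lit 7), (nat_lit 17, m23_R0_s3, nat_lit 7), (nat_lit 12, m23_R0_s6, nat_lit 10), (nat_lit 16, m23_R0_s4, nat_lit 10), (nat_lit 11, m23_R0_s5, nat_lit 10), (nat_lit 18, m23_R0_s3, nat_lit 10), (nat_lit 21, m23_R0_s6, nat_lit 8), (nat_lit 19, m23_R0_s5, nat_lit 8), (nat_lit 4, m23_R0_s2, nat_lit 8), (nat_lit 13, m23_R0_s4, nat_lit 9), (nat_lit 5, m23_R0_s6, nat_lit 17), (nat_lit 3, m23_R0_s2, nat_lit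 17), (nat_lit 6, m23_R0_s5, nat_lit 12), (nat_lit 20, m23_R0_s3, nat_lit 16), (nat_lit 15, m23_R0_s2, nat_lit 18), (nat_lit 14, m23_R0_s3, nat_lit 21), (nat_lit 22, m23_R0_s5, nat_lit 4)]
noncomputable def m23_R0_lev3 : Core.Lev := Core.mkLev m23_n m23_w m23_mask m23_L m23_maskL m23_idc (nat_lit 3) [m23_R0_s6, m23_R0_s4, m23_R0_s5, m23_R0_s3] [(nat_lit 16, m23_R0_s3, nat_lit 3), (nat_lit 13, m23_R0_s6, nat_lit 16), (nat_lit 10, m23_R0_s4, nat_lit 16), (nat_lit 20, m23_R0_s3, nat_lit 16), (nat_lit 22, m23_R0_s6, nat_lit 13), (nat_lit 9, m23_R0_s4, nat_lit 13), (nat_lit 4, m23_R0_s5, nat_lit 13), (nat_lit 12, m23_R0_s6, nat_lit 10), (nat_lit 11, m23_R0_s5, nat_lit 10), (nat_lit 18, m23_R0_s3, nat_lit 10), (nat_lit 15, m23_R0_s3, nat_lit 22), (nat_lit 8, m23_R0_s6, nat_lit 9), (nat_lit 7, m23_R0_s6, nat_lit 12), (nat_lit 19, m23_R0_s4, nat_lit 12), (nat_lit 6, m23_R0_s5,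 nat_lit 12), (nat_lit 21, m23_R0_s4, nat_lit 11), (nat_lit 17, m23_R0_s3, nat_lit 7), (nat_lit 5, m23_R0_s3, nat_lit 19), (nat_lit 14, m23_R0_s3, nat_lit 21)]
noncomputable def m23_R0_lev4 : Core.Lev := Core.mkLev m23_n m23_w m23_mask m23_L m23_maskL m23_idc (nat_lit 4) [m23_R0_s6, m23_R0_s4, m23_R0_s5] [(nat_lit 15, m23_R0_s4, nat_lit 4), (nat_lit 22, m23_R0_s5, nat_lit 4), (nat_lit 18, m23_R0_s6, nat_lit 15), (nat_lit 8, m23_R0_s5, nat_lit 15), (nat_lit 16, m23_R0_s6, nat_lit 22), (nat_lit 20, m23_R0_s4, nat_lit 22), (nat_lit 13, m23_R0_s5, nat_lit 22), (nat_lit 6, m23_R0_s6, nat_lit 18), (nat_lit 7, m23_R0_s5, nat_lit 18), (nat_lit 21, m23_R0_s6, nat_lit 8), (nat_lit 19, m23_R0_s5, nat_lit 8), (nat_lit 10, m23_R0_s4, nat_lit 16), (nat_lit 11, m23_R0_s6, nat_lit 20), (nat_lit 12, m23_R0_s5, nat_lit 20), (nat_lit 9, m23_R0_s4, nat_lit 13)]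
noncomputable def m23_R0_lev5 : Core.Lev := Core.mkLev m23_n m23_w m23_mask m23_L m23_maskL m23_idc (nat_lit 5) [m23_R0_s6] [(nat_lit 14, m23_R0_s6, nat_lit 5), (nat_lit 17, m23_R0_s6, nat_lit 14)]
noncomputable def m23_R0_levels : List Core.Lev := [m23_R0_lev0, m23_R0_lev1, m23_R0_lev2, m23_R0_lev3, m23_R0_lev4, m23_R0_lev5]

noncomputable def m23_R0_cert : Simple.RepCert := ⟨nat_lit 0xbda06981b579e2858c8c750a950832, [(nat_lit 0, nat_lit 0, nat_lit 1), (nat_lit 0, nat_lit 0, nat_lit 2), (nat_lit 0, nat_lit 0, nat_lit 2), (nat_lit 0, nat_lit 0, nat_lit 4), (nat_lit 0, nat_lit 0, nat_lit 5), (nat_lit 0, nat_lit 0, nat_lit 5), (nat_lit 0, nat_lit 0, nat_lit 6), (nat_lit 0, nat_lit 0, nat_lit 7), (nat_lit 0, nat_lit 0, nat_lit 9), (nat_lit 0, nat_lit 0, nat_lit 10), (nat_lit 0, nat_lit 0, nat_lit 11), (nat_lit 0, nat_lit 11, nat_lit 11), (nat_lit 0, nat_lit 0, nat_lit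 12), (nat_lit 0, nat_lit 0, nat_lit 13), (nat_lit 0, nat_lit 0, nat_lit 15), (nat_lit 0, nat_lit 0, nat_lit 16), (nat_lit 0, nat_lit 0, nat_lit 17), (nat_lit 0, nat_lit 0, nat_lit 17), (nat_lit 0, nat_lit 0, nat_lit 19), (nat_lit 0, nat_lit 0, nat_lit 19), (nat_lit 0, nat_lit 0, nat_lit 20), (nat_lit 0, nat_lit 0, nat_lit 22), (nat_lit 0, nat_lit 0, nat_lit 22), (nat_lit 0, nat_lit 22, nat_lit 23), (nat_lit 0, nat_lit 0, nat_lit 25), (nat_lit 0, nat_lit 0, nat_lit 26), (nat_lit 0, nat_lit 0, nat_lit 26), (nat_lit 0, nat_lit 0, nat_lit 27), (nat_lit 0, nat_lit 0, nat_lit 29), (nat_lit 0, nat_lit 0, nat_lit 29), (nat_lit 0, nat_lit 0, nat_lit 31), (nat_lit 0, nat_lit 0, nat_lit 31), (nat_lit 0, nat_lit 0, nat_lit 33), (nat_lit 0, nat_lit 0, nat_lit 34), (nat_lit 0, nat_lit 0, nat_lit 34), (nat_lit 0, nat_lit 0, nat_lit 35)], [(nat_lit 0xbda03648d5039534b5680c4a4a08ef,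 nat_lit 0xb88ca21df143010b2e959b6434b8a1), (nat_lit 0xbd1b69c90c19eb05a9317180279025, nat_lit 0xbcc04559c590cec5b510788d1a8534), (nat_lit 0xbbab4285463d9ac5c4887c26918242, nat_lit 0xbb4e46480f5c45319ac55268e85501)], m23_R0_prog, m23_R0_levels⟩

def m23_R1_T : List Nat := [nat_lit 0xbdab27913051cd104d8b088b41b5c8, nat_lit 0xba8d44a2027b9a799563092d594580]
def m23_R1_prog : List (Nat × Nat × Nat) := [(nat_lit 1, nat_lit 1, nat_lit 0), (nat_lit 1, nat_lit 1, nat_lit 0), (nat_lit 0, nat_lit 1, nat_lit 0), (nat_lit 0, nat_lit 0, nat_lit 1), (nat_lit 0, nat_lit 0, nat_lit 3), (nat_lit 0, nat_lit 5, nat_lit 6), (nat_lit 0, nat_lit 0, nat_lit 7), (nat_lit 0, nat_lit 0, nat_lit 8), (nat_lit 0, nat_lit 0, nat_lit 9), (nat_lit 0, nat_lit 0, nat_lit 9), (nat_lit 0, nat_lit 0, nat_lit 10), (nat_lit 0, nat_lit 0, nat_lit 12), (nat_lit 0, nat_lit 0, nat_lit 12), (nat_lit 0, nat_lit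 0, nat_lit 14), (nat_lit 0, nat_lit 0, nat_lit 14), (nat_lit 0, nat_lit 0, nat_lit 15), (nat_lit 0, nat_lit 15, nat_lit 15), (nat_lit 0, nat_lit 0, nat_lit 15), (nat_lit 0, nat_lit 0, nat_lit 2), (nat_lit 0, nat_lit 12, nat_lit 19), (nat_lit 0, nat_lit 0, nat_lit 20), (nat_lit 0, nat_lit 0, nat_lit 22), (nat_lit 0, nat_lit 17, nat_lit 21), (nat_lit 0, nat_lit 0, nat_lit 1), (nat_lit 1, nat_lit 5, nat_lit 0), (nat_lit 1, nat_lit 1, nat_lit 0), (nat_lit 0, nat_lit 2, nat_lit 7), (nat_lit 0, nat_lit 0, nat_lit 8), (nat_lit 0, nat_lit 0, nat_lit 9), (nat_lit 0, nat_lit 3, nat_lit 4), (nat_lit 0, nat_lit 0, nat_lit 4), (nat_lit 0, nat_lit 0, nat_lit 2), (nat_lit 0, nat_lit 4, nat_lit 8), (nat_lit 0, nat_lit 0, nat_lit 9), (nat_lit 0, nat_lit 0, nat_lit 15), (nat_lit 0, nat_lit 0, nat_lit 11), (nat_lit 0, nat_lit 0, nat_lit 17), (nat_lit 0, nat_lit 0, nat_lit 13), (nat_lit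 0, nat_lit 0, nat_lit 14), (nat_lit 0, nat_lit 13, nat_lit 13), (nat_lit 0, nat_lit 0, nat_lit 15), (nat_lit 0, nat_lit 0, nat_lit 16), (nat_lit 0, nat_lit 0, nat_lit 17), (nat_lit 0, nat_lit 0, nat_lit 4), (nat_lit 1, nat_lit 12, nat_lit 0), (nat_lit 1, nat_lit 1, nat_lit 0), (nat_lit 0, nat_lit 14, nat_lit 14), (nat_lit 0, nat_lit 0, nat_lit 15), (nat_lit 0, nat_lit 0, nat_lit 4), (nat_lit 0, nat_lit 0, nat_lit 5), (nat_lit 0, nat_lit 0, nat_lit 6), (nat_lit 0, nat_lit 0, nat_lit 7), (nat_lit 0, nat_lit 7, nat_lit 6), (nat_lit 0, nat_lit 0, nat_lit 8), (nat_lit 0, nat_lit 0, nat_lit 2), (nat_lit 0, nat_lit 11, nat_lit 11), (nat_lit 0, nat_lit 0, nat_lit 24), (nat_lit 0, nat_lit 0, nat_lit 13), (nat_lit 0, nat_lit 0, nat_lit 14), (nat_lit 0, nat_lit 0, nat_lit 15), (nat_lit 0, nat_lit 0, nat_lit 28), (nat_lit 0, nat_lit 0, nat_lit 17), (nat_lit 0, nat_lit 0, nat_lit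 30), (nat_lit 0, nat_lit 0, nat_lit 31), (nat_lit 0, nat_lit 0, nat_lit 32), (nat_lit 0, nat_lit 0, nat_lit 21), (nat_lit 0, nat_lit 13, nat_lit 20), (nat_lit 0, nat_lit 0, nat_lit 22), (nat_lit 0, nat_lit 0, nat_lit 2), (nat_lit 0, nat_lit 21, nat_lit 37), (nat_lit 0, nat_lit 0, nat_lit 26), (nat_lit 0, nat_lit 0, nat_lit 27), (nat_lit 0, nat_lit 0, nat_lit 40), (nat_lit 0, nat_lit 0, nat_lit 29), (nat_lit 0, nat_lit 0, nat_lit 42), (nat_lit 0, nat_lit 29, nat_lit 30), (nat_lit 0, nat_lit 0, nat_lit 31), (nat_lit 0, nat_lit 0, nat_lit 32), (nat_lit 0, nat_lit 0, nat_lit 3), (nat_lit 0, nat_lit 32, nat_lit 35), (nat_lit 0, nat_lit 0, nat_lit 36), (nat_lit 0, nat_lit 0, nat_lit 37), (nat_lit 0, nat_lit 0, nat_lit 38), (nat_lit 0, nat_lit 0, nat_lit 51), (nat_lit 0, nat_lit 0, nat_lit 40), (nat_lit 0, nat_lit 0, nat_lit 41), (nat_lit 0, nat_lit 0, nat_lit 54), (nat_lit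 0, nat_lit 0, nat_lit 43), (nat_lit 1, nat_lit 33, nat_lit 0), (nat_lit 1, nat_lit 10, nat_lit 0), (nat_lit 1, nat_lit 2, nat_lit 0), (nat_lit 1, nat_lit 22, nat_lit 0), (nat_lit 0, nat_lit 4, nat_lit 13), (nat_lit 0, nat_lit 0, nat_lit 5), (nat_lit 0, nat_lit 0, nat_lit 15), (nat_lit 0, nat_lit 6, nat_lit 3), (nat_lit 0, nat_lit 0, nat_lit 5), (nat_lit 0, nat_lit 0, nat_lit 2), (nat_lit 0, nat_lit 29, nat_lit 43), (nat_lit 0, nat_lit 0, nat_lit 44), (nat_lit 0, nat_lit 0, nat_lit 31), (nat_lit 0, nat_lit 0, nat_lit 46), (nat_lit 0, nat_lit 0, nat_lit 33), (nat_lit 0, nat_lit 0, nat_lit 15), (nat_lit 0, nat_lit 0, nat_lit 25), (nat_lit 0, nat_lit 16, nat_lit 15), (nat_lit 0, nat_lit 0, nat_lit 14), (nat_lit 0, nat_lit 0, nat_lit 2), (nat_lit 0, nat_lit 29, nat_lit 20), (nat_lit 0, nat_lit 0, nat_lit 30), (nat_lit 0, nat_lit 0, nat_lit 31), (nat_lit 0, nat_lit 0,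 nat_lit 23), (nat_lit 0, nat_lit 0, nat_lit 43), (nat_lit 0, nat_lit 17, nat_lit 0), (nat_lit 0, nat_lit 0, nat_lit 6), (nat_lit 0, nat_lit 0, nat_lit 17), (nat_lit 0, nat_lit 0, nat_lit 2), (nat_lit 0, nat_lit 0, nat_lit 3)]
def m23_R1_s0 : Nat := nat_lit 0xbdab27913051cd104d8b088b41b5c8
def m23_R1_s1 : Nat := nat_lit 0xb9471a36ab78489722d2640ea988c0
def m23_R1_s2 : Nat := nat_lit 0xb9d747b073b22b14c8a4839a251820
def m23_R1_s3 : Nat := nat_lit 0xba0d6aa4b26c56a792143cdcc18820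
def m23_R1_s4 : Nat := nat_lit 0xbc0eeabd8d1a2c9516349996490820
def m23_R1_s5 : Nat := nat_lit 0xbc0c39a50d732cfa44aaa9e4458820
def m23_R1_s6 : Nat := nat_lit 0xbb5135bdd63160aa1ea964a2418820
noncomputable def m23_R1_lev0 : Core.Lev := Core.mkLev m23_n m23_w m23_mask m23_L m23_maskL m23_idc (nat_lit 0) [m23_R1_s6, m23_R1_s4, m23_R1_s5, m23_R1_s3, m23_R1_s2, m23_R1_s1, m23_R1_s0] [(nat_lit 8, m23_R1_s0, nat_lit 0), (nat_lit 9, m23_R1_s6, nat_lit 8), (nat_lit 20, m23_R1_s4, nat_lit 8), (nat_lit 10, m23_R1_s5, nat_lit 8), (nat_lit 4, m23_R1_s2, nat_lit 8), (nat_lit 18, m23_R1_s1, nat_lit 8), (nat_lit 11, m23_R1_s0, nat_lit 8), (nat_lit 21, m23_R1_s6, nat_lit 9), (nat_lit 17, m23_R1_s4, nat_lit 9), (nat_lit 5, m23_R1_s5, nat_lit 9), (nat_lit 16, m23_R1_s3, nat_lit 9), (nat_lit 22, m23_R1_s1, nat_lit 9), (nat_lit 12, m23_R1_s0, nat_lit 9), (nat_lit 19, m23_R1_s6, nat_lit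 20), (nat_lit 14, m23_R1_s4, nat_lit 20), (nat_lit 3, m23_R1_s5, nat_lit 20), (nat_lit 7, m23_R1_s6, nat_lit 10), (nat_lit 2, m23_R1_s2, nat_lit 4), (nat_lit 15, m23_R1_s6, nat_lit 18), (nat_lit 13, m23_R1_s1, nat_lit 18), (nat_lit 6, m23_R1_s5, nat_lit 21), (nat_lit 1, m23_R1_s1, nat_lit 14)]
noncomputable def m23_R1_lev1 : Core.Lev := Core.mkLev m23_n m23_w m23_mask m23_L m23_maskL m23_idc (nat_lit 1) [m23_R1_s6, m23_R1_s4, m23_R1_s5, m23_R1_s3, m23_R1_s2, m23_R1_s1] [(nat_lit 6, m23_R1_s1, nat_lit 1), (nat_lit 18, m23_R1_s6, nat_lit 6), (nat_lit 7, m23_R1_s5, nat_lit 6), (nat_lit 19, m23_R1_s3, nat_lit 6), (nat_lit 14, m23_R1_s2, nat_lit 6), (nat_lit 16, m23_R1_s1, nat_lit 6), (nat_lit 15, m23_R1_s6, nat_lit 18), (nat_lit 9, m23_R1_s5, nat_lit 18), (nat_lit 12, m23_R1_s2, nat_lit 18), (nat_lit 13, m23_R1_s1, nat_lit 18), (nat_lit 21, m23_R1_s5, nat_lit 7), (nat_lit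 11, m23_R1_s6, nat_lit 19), (nat_lit 20, m23_R1_s1, nat_lit 19), (nat_lit 5, m23_R1_s6, nat_lit 14), (nat_lit 8, m23_R1_s4, nat_lit 14), (nat_lit 17, m23_R1_s3, nat_lit 14), (nat_lit 22, m23_R1_s6, nat_lit 16), (nat_lit 3, m23_R1_s4, nat_lit 15), (nat_lit 10, m23_R1_s6, nat_lit 12), (nat_lit 4, m23_R1_s1, nat_lit 13), (nat_lit 2, m23_R1_s2, nat_lit 4)]
noncomputable def m23_R1_lev2 : Core.Lev := Core.mkLev m23_n m23_w m23_mask m23_L m23_maskL m23_idc (nat_lit 2) [m23_R1_s6, m23_R1_s4, m23_R1_s5, m23_R1_s3, m23_R1_s2] [(nat_lit 6, m23_R1_s2, nat_lit 2), (nat_lit 18, m23_R1_s6, nat_lit 6), (nat_lit 7, m23_R1_s5, nat_lit 6), (nat_lit 19, m23_R1_s3, nat_lit 6), (nat_lit 14, m23_R1_s2, nat_lit 6), (nat_lit 15, m23_R1_s6, nat_lit 18), (nat_lit 9, m23_R1_s5, nat_lit 18), (nat_lit 12, m23_R1_s2, nat_lit 18), (nat_lit 21, m23_R1_s5, nat_lit 7), (nat_lit 16, m23_R1_s2, nat_lit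 7), (nat_lit 11, m23_R1_s6, nat_lit 19), (nat_lit 5, m23_R1_s6, nat_lit 14), (nat_lit 8, m23_R1_s4, nat_lit 14), (nat_lit 17, m23_R1_s3, nat_lit 14), (nat_lit 3, m23_R1_s4, nat_lit 15), (nat_lit 13, m23_R1_s3, nat_lit 15), (nat_lit 22, m23_R1_s2, nat_lit 15), (nat_lit 10, m23_R1_s6, nat_lit 12), (nat_lit 20, m23_R1_s6, nat_lit 11), (nat_lit 4, m23_R1_s2, nat_lit 8)]
noncomputable def m23_R1_lev3 : Core.Lev := Core.mkLev m23_n m23_w m23_mask m23_L m23_maskL m23_idc (nat_lit 4) [m23_R1_s6, m23_R1_s4, m23_R1_s5, m23_R1_s3] [(nat_lit 12, m23_R1_s3, nat_lit 4), (nat_lit 10, m23_R1_s6, nat_lit 12), (nat_lit 9, m23_R1_s4, nat_lit 12), (nat_lit 15, m23_R1_s5, nat_lit 12), (nat_lit 7, m23_R1_s6, nat_lit 10), (nat_lit 5, m23_R1_s4, nat_lit 10), (nat_lit 17, m23_R1_s5, nat_lit 10), (nat_lit 21, m23_R1_s6, nat_lit 9), (nat_lit 16, m23_R1_s3, nat_lit 9), (nat_lit 6, m23_R1_s6,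 nat_lit 15), (nat_lit 3, m23_R1_s4, nat_lit 15), (nat_lit 14, m23_R1_s5, nat_lit 15), (nat_lit 13, m23_R1_s3, nat_lit 15), (nat_lit 19, m23_R1_s4, nat_lit 7), (nat_lit 11, m23_R1_s4, nat_lit 5), (nat_lit 18, m23_R1_s5, nat_lit 5), (nat_lit 8, m23_R1_s5, nat_lit 17), (nat_lit 22, m23_R1_s6, nat_lit 16), (nat_lit 20, m23_R1_s6, nat_lit 11)]
noncomputable def m23_R1_lev4 : Core.Lev := Core.mkLev m23_n m23_w m23_mask m23_L m23_maskL m23_idc (nat_lit 3) [m23_R1_s6, m23_R1_s4, m23_R1_s5] [(nat_lit 18, m23_R1_s4, nat_lit 3), (nat_lit 11, m23_R1_s5, nat_lit 3), (nat_lit 15, m23_R1_s6, nat_lit 18), (nat_lit 9, m23_R1_s5, nat_lit 18), (nat_lit 20, m23_R1_s6, nat_lit 11), (nat_lit 10, m23_R1_s4, nat_lit 11), (nat_lit 6, m23_R1_s6, nat_lit 15), (nat_lit 14, m23_R1_s5, nat_lit 15), (nat_lit 21, m23_R1_s6, nat_lit 9), (nat_lit 17, m23_R1_s4, nat_lit 9), (nat_lit 5, m23_R1_s5,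 nat_lit 9), (nat_lit 19, m23_R1_s6, nat_lit 20), (nat_lit 7, m23_R1_s6, nat_lit 10), (nat_lit 8, m23_R1_s4, nat_lit 14), (nat_lit 12, m23_R1_s5, nat_lit 14)]
noncomputable def m23_R1_lev5 : Core.Lev := Core.mkLev m23_n m23_w m23_mask m23_L m23_maskL m23_idc (nat_lit 5) [m23_R1_s6] [(nat_lit 17, m23_R1_s6, nat_lit 5), (nat_lit 14, m23_R1_s6, nat_lit 17)]
noncomputable def m23_R1_levels : List Core.Lev := [m23_R1_lev0, m23_R1_lev1, m23_R1_lev2, m23_R1_lev3, m23_R1_lev4, m23_R1_lev5]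

noncomputable def m23_R1_cert : Simple.RepCert := ⟨nat_lit 0xbc2b470a69245eb0aad22986d3a180, [(nat_lit 0, nat_lit 1, nat_lit 0), (nat_lit 0, nat_lit 0, nat_lit 2), (nat_lit 0, nat_lit 0, nat_lit 2), (nat_lit 0, nat_lit 0, nat_lit 4), (nat_lit 0, nat_lit 0, nat_lit 4), (nat_lit 0, nat_lit 0, nat_lit 5), (nat_lit 0, nat_lit 0, nat_lit 7), (nat_lit 0, nat_lit 0, nat_lit 7), (nat_lit 0, nat_lit 0, nat_lit 8), (nat_lit 0, nat_lit 0, nat_lit 10), (nat_lit 0, nat_lit 0, nat_lit 10), (nat_lit 0, nat_lit 0, nat_lit 12), (nat_lit 0, nat_lit 0, nat_lit 12), (nat_lit 0, nat_lit 0, nat_lit 13), (nat_lit 0, nat_lit 14, nat_lit 15), (nat_lit 0, nat_lit 0, nat_lit 16), (nat_lit 0, nat_lit 0, nat_lit 16), (nat_lit 0, nat_lit 0, nat_lit 17), (nat_lit 0, nat_lit 0, nat_lit 18), (nat_lit 0, nat_lit 0, nat_lit 20)], [(nat_lit 0xbdab27913051cd104d8b088b41b5c8, nat_lit 0xbd065389d2404137d48665a2b4b550),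 (nat_lit 0xba8d44a2027b9a799563092d594580, nat_lit 0xbd9d4224ca6543013cb34346792e20)], m23_R1_prog, m23_R1_levels⟩

def m23_R2_T : List Nat := [nat_lit 0xb869033c0d64cf17112baa2c518952, nat_lit 0xbb85458ced9a2c58825079824532a9]
def m23_R2_prog : List (Nat × Nat × Nat) := [(nat_lit 1, nat_lit 1, nat_lit 0), (nat_lit 1, nat_lit 1, nat_lit 0), (nat_lit 0, nat_lit 2, nat_lit 2), (nat_lit 0, nat_lit 0, nat_lit 3), (nat_lit 0, nat_lit 0, nat_lit 5), (nat_lit 0, nat_lit 0, nat_lit 5), (nat_lit 0, nat_lit 0, nat_lit 7), (nat_lit 0, nat_lit 0, nat_lit 7), (nat_lit 0, nat_lit 0, nat_lit 9), (nat_lit 0, nat_lit 0, nat_lit 9), (nat_lit 0, nat_lit 9, nat_lit 9), (nat_lit 0, nat_lit 0, nat_lit 9), (nat_lit 0, nat_lit 0, nat_lit 11), (nat_lit 0, nat_lit 0, nat_lit 3), (nat_lit 0, nat_lit 15, nat_lit 14), (nat_lit 0, nat_lit 0, nat_lit 16), (nat_lit 0, nat_lit 0, nat_lit 16), (nat_lit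 0, nat_lit 0, nat_lit 18), (nat_lit 0, nat_lit 0, nat_lit 19), (nat_lit 0, nat_lit 0, nat_lit 20), (nat_lit 0, nat_lit 0, nat_lit 21), (nat_lit 0, nat_lit 0, nat_lit 22), (nat_lit 0, nat_lit 0, nat_lit 22), (nat_lit 0, nat_lit 0, nat_lit 24), (nat_lit 0, nat_lit 0, nat_lit 24), (nat_lit 0, nat_lit 24, nat_lit 23), (nat_lit 0, nat_lit 0, nat_lit 24), (nat_lit 0, nat_lit 0, nat_lit 26), (nat_lit 0, nat_lit 0, nat_lit 3), (nat_lit 1, nat_lit 15, nat_lit 0), (nat_lit 1, nat_lit 1, nat_lit 0), (nat_lit 0, nat_lit 2, nat_lit 2), (nat_lit 0, nat_lit 0, nat_lit 18), (nat_lit 0, nat_lit 0, nat_lit 4), (nat_lit 0, nat_lit 0, nat_lit 5), (nat_lit 0, nat_lit 0, nat_lit 6), (nat_lit 0, nat_lit 0, nat_lit 22), (nat_lit 0, nat_lit 0, nat_lit 8), (nat_lit 0, nat_lit 7, nat_lit 7), (nat_lit 0, nat_lit 0, nat_lit 8), (nat_lit 0, nat_lit 0, nat_lit 2), (nat_lit 0, nat_lit 27, nat_lit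 27), (nat_lit 0, nat_lit 0, nat_lit 13), (nat_lit 0, nat_lit 0, nat_lit 29), (nat_lit 0, nat_lit 0, nat_lit 15), (nat_lit 0, nat_lit 0, nat_lit 31), (nat_lit 0, nat_lit 0, nat_lit 17), (nat_lit 0, nat_lit 0, nat_lit 33), (nat_lit 0, nat_lit 17, nat_lit 18), (nat_lit 0, nat_lit 0, nat_lit 19), (nat_lit 0, nat_lit 0, nat_lit 20), (nat_lit 0, nat_lit 0, nat_lit 3), (nat_lit 1, nat_lit 11, nat_lit 0), (nat_lit 1, nat_lit 1, nat_lit 0), (nat_lit 0, nat_lit 2, nat_lit 13), (nat_lit 0, nat_lit 0, nat_lit 3), (nat_lit 0, nat_lit 0, nat_lit 15), (nat_lit 0, nat_lit 0, nat_lit 5), (nat_lit 0, nat_lit 0, nat_lit 17), (nat_lit 0, nat_lit 0, nat_lit 7), (nat_lit 0, nat_lit 0, nat_lit 8), (nat_lit 0, nat_lit 0, nat_lit 9), (nat_lit 0, nat_lit 9, nat_lit 0), (nat_lit 0, nat_lit 7, nat_lit 11), (nat_lit 0, nat_lit 0, nat_lit 12), (nat_lit 0, nat_lit 0, nat_lit 24), (nat_lit 0,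 nat_lit 0, nat_lit 25), (nat_lit 0, nat_lit 0, nat_lit 15), (nat_lit 0, nat_lit 0, nat_lit 27), (nat_lit 0, nat_lit 0, nat_lit 28), (nat_lit 0, nat_lit 0, nat_lit 29), (nat_lit 0, nat_lit 18, nat_lit 18), (nat_lit 0, nat_lit 0, nat_lit 19), (nat_lit 0, nat_lit 0, nat_lit 19), (nat_lit 0, nat_lit 0, nat_lit 3), (nat_lit 1, nat_lit 12, nat_lit 0), (nat_lit 1, nat_lit 1, nat_lit 0), (nat_lit 0, nat_lit 2, nat_lit 2), (nat_lit 0, nat_lit 0, nat_lit 3), (nat_lit 0, nat_lit 0, nat_lit 16), (nat_lit 0, nat_lit 0, nat_lit 17), (nat_lit 0, nat_lit 0, nat_lit 18), (nat_lit 0, nat_lit 0, nat_lit 19), (nat_lit 0, nat_lit 0, nat_lit 20), (nat_lit 0, nat_lit 0, nat_lit 9), (nat_lit 0, nat_lit 0, nat_lit 22), (nat_lit 0, nat_lit 0, nat_lit 23), (nat_lit 0, nat_lit 0, nat_lit 12), (nat_lit 0, nat_lit 11, nat_lit 12), (nat_lit 0, nat_lit 0, nat_lit 1), (nat_lit 0, nat_lit 27, nat_lit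 27), (nat_lit 0, nat_lit 0, nat_lit 16), (nat_lit 0, nat_lit 0, nat_lit 17), (nat_lit 0, nat_lit 0, nat_lit 30), (nat_lit 0, nat_lit 0, nat_lit 19), (nat_lit 0, nat_lit 0, nat_lit 20), (nat_lit 0, nat_lit 0, nat_lit 33), (nat_lit 0, nat_lit 8, nat_lit 20), (nat_lit 0, nat_lit 0, nat_lit 22), (nat_lit 0, nat_lit 0, nat_lit 2), (nat_lit 0, nat_lit 24, nat_lit 24), (nat_lit 0, nat_lit 0, nat_lit 24), (nat_lit 0, nat_lit 0, nat_lit 26), (nat_lit 0, nat_lit 24, nat_lit 28), (nat_lit 0, nat_lit 0, nat_lit 29), (nat_lit 0, nat_lit 0, nat_lit 42), (nat_lit 0, nat_lit 0, nat_lit 31), (nat_lit 0, nat_lit 4, nat_lit 0), (nat_lit 0, nat_lit 33, nat_lit 45), (nat_lit 0, nat_lit 0, nat_lit 46), (nat_lit 0, nat_lit 0, nat_lit 35), (nat_lit 0, nat_lit 0, nat_lit 48), (nat_lit 0, nat_lit 0, nat_lit 49), (nat_lit 0, nat_lit 0, nat_lit 50), (nat_lit 0, nat_lit 25, nat_lit 38), (nat_lit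 0, nat_lit 0, nat_lit 1), (nat_lit 0, nat_lit 53, nat_lit 41), (nat_lit 0, nat_lit 0, nat_lit 54), (nat_lit 0, nat_lit 0, nat_lit 43), (nat_lit 0, nat_lit 0, nat_lit 56), (nat_lit 0, nat_lit 0, nat_lit 57), (nat_lit 0, nat_lit 0, nat_lit 58), (nat_lit 0, nat_lit 0, nat_lit 47), (nat_lit 0, nat_lit 0, nat_lit 60), (nat_lit 0, nat_lit 0, nat_lit 49), (nat_lit 0, nat_lit 0, nat_lit 50), (nat_lit 0, nat_lit 0, nat_lit 51), (nat_lit 0, nat_lit 51, nat_lit 50), (nat_lit 0, nat_lit 0, nat_lit 51), (nat_lit 0, nat_lit 0, nat_lit 53), (nat_lit 0, nat_lit 0, nat_lit 53), (nat_lit 0, nat_lit 0, nat_lit 4), (nat_lit 1, nat_lit 42, nat_lit 0), (nat_lit 1, nat_lit 25, nat_lit 0), (nat_lit 0, nat_lit 34, nat_lit 34), (nat_lit 0, nat_lit 0, nat_lit 3), (nat_lit 0, nat_lit 0, nat_lit 28), (nat_lit 0, nat_lit 0, nat_lit 47), (nat_lit 0, nat_lit 0, nat_lit 38), (nat_lit 0, nat_lit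 0, nat_lit 23), (nat_lit 0, nat_lit 6, nat_lit 7), (nat_lit 0, nat_lit 0, nat_lit 1)]
def m23_R2_s0 : Nat := nat_lit 0xb869033c0d64cf17112baa2c518952
def m23_R2_s1 : Nat := nat_lit 0xba42f8b4877297310e45ac186b5100
def m23_R2_s2 : Nat := nat_lit 0xb9852251689a46773e2c858aaab420
def m23_R2_s3 : Nat := nat_lit 0xbb4b419e564a2159bd468b98458820
def m23_R2_s4 : Nat := nat_lit 0xb92924d4b65c5b33a1867a9d018820
def m23_R2_s5 : Nat := nat_lit 0xb9d367add3814d263488a2a3518820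
def m23_R2_s6 : Nat := nat_lit 0xbb5135bdd63160aa1ea964a2418820
noncomputable def m23_R2_lev0 : Core.Lev := Core.mkLev m23_n m23_w m23_mask m23_L m23_maskL m23_idc (nat_lit 0) [m23_R2_s6, m23_R2_s4, m23_R2_s5, m23_R2_s3, m23_R2_s2, m23_R2_s1, m23_R2_s0] [(nat_lit 18, m23_R2_s0, nat_lit 0), (nat_lit 15, m23_R2_s6, nat_lit 18), (nat_lit 21, m23_R2_s4, nat_lit 18), (nat_lit 11, m23_R2_s5, nat_lit 18), (nat_lit 7, m23_R2_s3, nat_lit 18), (nat_lit 20, m23_R2_s2, nat_lit 18), (nat_lit 13, m23_R2_s1, nat_lit 18), (nat_lit 6, m23_R2_s6, nat_lit 15), (nat_lit 16, m23_R2_s5, nat_lit 15), (nat_lit 9, m23_R2_s3, nat_lit 15), (nat_lit 19, m23_R2_s2, nat_lit 15), (nat_lit 14, m23_R2_s1, nat_lit 15), (nat_lit 12, m23_R2_s0, nat_lit 15), (nat_lit 8, m23_R2_s6, nat_lit 21), (nat_lit 5, m23_R2_s3, nat_lit 21), (nat_lit 2, m23_R2_s2, nat_lit 21), (nat_lit 1, m23_R2_s1, nat_lit 21),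 (nat_lit 17, m23_R2_s3, nat_lit 7), (nat_lit 22, m23_R2_s5, nat_lit 20), (nat_lit 3, m23_R2_s2, nat_lit 13), (nat_lit 10, m23_R2_s4, nat_lit 6), (nat_lit 4, m23_R2_s5, nat_lit 9)]
noncomputable def m23_R2_lev1 : Core.Lev := Core.mkLev m23_n m23_w m23_mask m23_L m23_maskL m23_idc (nat_lit 1) [m23_R2_s6, m23_R2_s4, m23_R2_s5, m23_R2_s3, m23_R2_s2, m23_R2_s1] [(nat_lit 8, m23_R2_s1, nat_lit 1), (nat_lit 9, m23_R2_s6, nat_lit 8), (nat_lit 6, m23_R2_s4, nat_lit 8), (nat_lit 12, m23_R2_s2, nat_lit 8), (nat_lit 5, m23_R2_s1, nat_lit 8), (nat_lit 21, m23_R2_s6, nat_lit 9), (nat_lit 4, m23_R2_s5, nat_lit 9), (nat_lit 10, m23_R2_s3, nat_lit 9), (nat_lit 17, m23_R2_s2, nat_lit 9), (nat_lit 18, m23_R2_s1, nat_lit 9), (nat_lit 14, m23_R2_s3, nat_lit 6), (nat_lit 22, m23_R2_s2, nat_lit 6), (nat_lit 16, m23_R2_s1, nat_lit 6), (nat_lit 19, m23_R2_s4, nat_lit 12), (nat_lit 7, m23_R2_s2,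 nat_lit 12), (nat_lit 20, m23_R2_s4, nat_lit 21), (nat_lit 2, m23_R2_s2, nat_lit 21), (nat_lit 13, m23_R2_s5, nat_lit 10), (nat_lit 15, m23_R2_s3, nat_lit 10), (nat_lit 3, m23_R2_s1, nat_lit 10), (nat_lit 11, m23_R2_s2, nat_lit 17)]
noncomputable def m23_R2_lev2 : Core.Lev := Core.mkLev m23_n m23_w m23_mask m23_L m23_maskL m23_idc (nat_lit 2) [m23_R2_s6, m23_R2_s4, m23_R2_s5, m23_R2_s3, m23_R2_s2] [(nat_lit 13, m23_R2_s2, nat_lit 2), (nat_lit 16, m23_R2_s6, nat_lit 13), (nat_lit 6, m23_R2_s5, nat_lit 13), (nat_lit 3, m23_R2_s2, nat_lit 13), (nat_lit 22, m23_R2_s6, nat_lit 16), (nat_lit 19, m23_R2_s5, nat_lit 16), (nat_lit 8, m23_R2_s2, nat_lit 16), (nat_lit 18, m23_R2_s6, nat_lit 6), (nat_lit 10, m23_R2_s4, nat_lit 6), (nat_lit 14, m23_R2_s3, nat_lit 6), (nat_lit 11, m23_R2_s3, nat_lit 3), (nat_lit 21, m23_R2_s2, nat_lit 3), (nat_lit 4, m23_R2_s4, nat_lit 22), (nat_lit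 7, m23_R2_s5, nat_lit 22), (nat_lit 9, m23_R2_s4, nat_lit 19), (nat_lit 15, m23_R2_s5, nat_lit 19), (nat_lit 12, m23_R2_s2, nat_lit 8), (nat_lit 20, m23_R2_s2, nat_lit 18), (nat_lit 5, m23_R2_s6, nat_lit 14), (nat_lit 17, m23_R2_s4, nat_lit 14)]
noncomputable def m23_R2_lev3 : Core.Lev := Core.mkLev m23_n m23_w m23_mask m23_L m23_maskL m23_idc (nat_lit 3) [m23_R2_s6, m23_R2_s4, m23_R2_s5, m23_R2_s3] [(nat_lit 11, m23_R2_s3, nat_lit 3), (nat_lit 20, m23_R2_s6, nat_lit 11), (nat_lit 7, m23_R2_s4, nat_lit 11), (nat_lit 12, m23_R2_s5, nat_lit 11), (nat_lit 19, m23_R2_s3, nat_lit 11), (nat_lit 18, m23_R2_s4, nat_lit 20), (nat_lit 22, m23_R2_s5, nat_lit 20), (nat_lit 15, m23_R2_s4, nat_lit 7), (nat_lit 17, m23_R2_s3, nat_lit 7), (nat_lit 10, m23_R2_s6, nat_lit 12), (nat_lit 21, m23_R2_s3, nat_lit 12), (nat_lit 9, m23_R2_s4, nat_lit 19), (nat_lit 13, m23_R2_s6, nat_lit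 22), (nat_lit 4, m23_R2_s4, nat_lit 22), (nat_lit 6, m23_R2_s6, nat_lit 15), (nat_lit 16, m23_R2_s5, nat_lit 15), (nat_lit 14, m23_R2_s6, nat_lit 17), (nat_lit 5, m23_R2_s4, nat_lit 17), (nat_lit 8, m23_R2_s4, nat_lit 10)]
noncomputable def m23_R2_lev4 : Core.Lev := Core.mkLev m23_n m23_w m23_mask m23_L m23_maskL m23_idc (nat_lit 4) [m23_R2_s6, m23_R2_s4, m23_R2_s5] [(nat_lit 16, m23_R2_s4, nat_lit 4), (nat_lit 21, m23_R2_s5, nat_lit 4), (nat_lit 22, m23_R2_s6, nat_lit 16), (nat_lit 19, m23_R2_s5, nat_lit 16), (nat_lit 8, m23_R2_s6, nat_lit 21), (nat_lit 20, m23_R2_s4, nat_lit 21), (nat_lit 9, m23_R2_s5, nat_lit 21), (nat_lit 13, m23_R2_s6, nat_lit 22), (nat_lit 7, m23_R2_s5, nat_lit 22), (nat_lit 11, m23_R2_s6, nat_lit 19), (nat_lit 15, m23_R2_s5, nat_lit 19), (nat_lit 6, m23_R2_s4, nat_lit 8), (nat_lit 18, m23_R2_s4, nat_lit 20), (nat_lit 12, m23_R2_s4, nat_lit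 9), (nat_lit 10, m23_R2_s4, nat_lit 6)]
noncomputable def m23_R2_lev5 : Core.Lev := Core.mkLev m23_n m23_w m23_mask m23_L m23_maskL m23_idc (nat_lit 5) [m23_R2_s6] [(nat_lit 17, m23_R2_s6, nat_lit 5), (nat_lit 14, m23_R2_s6, nat_lit 17)]
noncomputable def m23_R2_levels : List Core.Lev := [m23_R2_lev0, m23_R2_lev1, m23_R2_lev2, m23_R2_lev3, m23_R2_lev4, m23_R2_lev5]

noncomputable def m23_R2_cert : Simple.RepCert := ⟨nat_lit 0xbbe55981656c4d44392a38470112cc, [(nat_lit 0, nat_lit 0, nat_lit 1), (nat_lit 0, nat_lit 0, nat_lit 2), (nat_lit 0, nat_lit 0, nat_lit 2), (nat_lit 0, nat_lit 0, nat_lit 3), (nat_lit 0, nat_lit 0, nat_lit 4), (nat_lit 0, nat_lit 0, nat_lit 5), (nat_lit 0, nat_lit 0, nat_lit 6), (nat_lit 0, nat_lit 0, nat_lit 8), (nat_lit 0, nat_lit 0, nat_lit 9), (nat_lit 0, nat_lit 0, nat_lit 9), (nat_lit 0, nat_lit 0, nat_lit 10), (nat_lit 0, nat_lit 0, nat_lit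 12), (nat_lit 0, nat_lit 0, nat_lit 12), (nat_lit 0, nat_lit 0, nat_lit 14), (nat_lit 0, nat_lit 14, nat_lit 14), (nat_lit 0, nat_lit 0, nat_lit 16), (nat_lit 0, nat_lit 0, nat_lit 16), (nat_lit 0, nat_lit 0, nat_lit 17)], [(nat_lit 0xb869033c0d64cf17112baa2c518952, nat_lit 0xba8ed1558e23cb08c9201da6b32034), (nat_lit 0xbb85458ced9a2c58825079824532a9, nat_lit 0xba22b21e42825b3180caa5995285cf)], m23_R2_prog, m23_R2_levels⟩

def m23_R3_T : List Nat := [nat_lit 0xbd2a30bda23c92c8380542d53890d6, nat_lit 0xb89471966d7a0d4846a45b2d20b920]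
def m23_R3_prog : List (Nat × Nat × Nat) := [(nat_lit 1, nat_lit 1, nat_lit 0), (nat_lit 1, nat_lit 1, nat_lit 0), (nat_lit 0, nat_lit 3, nat_lit 2), (nat_lit 0, nat_lit 0, nat_lit 3), (nat_lit 0, nat_lit 0, nat_lit 5), (nat_lit 0, nat_lit 0, nat_lit 5), (nat_lit 0, nat_lit 0, nat_lit 7), (nat_lit 0, nat_lit 0, nat_lit 8), (nat_lit 0, nat_lit 7, nat_lit 6), (nat_lit 0, nat_lit 0, nat_lit 8), (nat_lit 0, nat_lit 0, nat_lit 8), (nat_lit 0, nat_lit 0, nat_lit 10), (nat_lit 0, nat_lit 0, nat_lit 4), (nat_lit 0, nat_lit 13, nat_lit 13), (nat_lit 0, nat_lit 0, nat_lit 14), (nat_lit 0, nat_lit 0, nat_lit 16), (nat_lit 0, nat_lit 0, nat_lit 16), (nat_lit 0, nat_lit 0, nat_lit 18), (nat_lit 0, nat_lit 0, nat_lit 18), (nat_lit 0, nat_lit 0, nat_lit 19), (nat_lit 0, nat_lit 19, nat_lit 0), (nat_lit 1, nat_lit 8, nat_lit 0), (nat_lit 1, nat_lit 1, nat_lit 0), (nat_lit 0, nat_lit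 2, nat_lit 10), (nat_lit 0, nat_lit 0, nat_lit 3), (nat_lit 0, nat_lit 0, nat_lit 4), (nat_lit 0, nat_lit 0, nat_lit 5), (nat_lit 0, nat_lit 0, nat_lit 14), (nat_lit 0, nat_lit 0, nat_lit 7), (nat_lit 0, nat_lit 0, nat_lit 16), (nat_lit 0, nat_lit 0, nat_lit 9), (nat_lit 0, nat_lit 0, nat_lit 10), (nat_lit 0, nat_lit 0, nat_lit 19), (nat_lit 0, nat_lit 0, nat_lit 20), (nat_lit 0, nat_lit 11, nat_lit 12), (nat_lit 0, nat_lit 0, nat_lit 12), (nat_lit 0, nat_lit 0, nat_lit 14), (nat_lit 0, nat_lit 0, nat_lit 15), (nat_lit 0, nat_lit 0, nat_lit 4), (nat_lit 0, nat_lit 26, nat_lit 18), (nat_lit 0, nat_lit 0, nat_lit 27), (nat_lit 0, nat_lit 0, nat_lit 28), (nat_lit 0, nat_lit 0, nat_lit 29), (nat_lit 0, nat_lit 0, nat_lit 22), (nat_lit 0, nat_lit 0, nat_lit 31), (nat_lit 0, nat_lit 0, nat_lit 24), (nat_lit 0, nat_lit 0, nat_lit 33), (nat_lit 0, nat_lit 12, nat_lit 0),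 (nat_lit 1, nat_lit 9, nat_lit 0), (nat_lit 1, nat_lit 1, nat_lit 0), (nat_lit 0, nat_lit 11, nat_lit 2), (nat_lit 0, nat_lit 0, nat_lit 12), (nat_lit 0, nat_lit 0, nat_lit 4), (nat_lit 0, nat_lit 0, nat_lit 14), (nat_lit 0, nat_lit 0, nat_lit 6), (nat_lit 0, nat_lit 0, nat_lit 7), (nat_lit 0, nat_lit 0, nat_lit 17), (nat_lit 0, nat_lit 0, nat_lit 9), (nat_lit 0, nat_lit 0, nat_lit 10), (nat_lit 0, nat_lit 0, nat_lit 11), (nat_lit 0, nat_lit 10, nat_lit 10), (nat_lit 0, nat_lit 0, nat_lit 11), (nat_lit 0, nat_lit 0, nat_lit 2), (nat_lit 0, nat_lit 11, nat_lit 24), (nat_lit 0, nat_lit 0, nat_lit 25), (nat_lit 0, nat_lit 0, nat_lit 17), (nat_lit 0, nat_lit 0, nat_lit 27), (nat_lit 0, nat_lit 0, nat_lit 19), (nat_lit 0, nat_lit 0, nat_lit 20), (nat_lit 0, nat_lit 0, nat_lit 30), (nat_lit 0, nat_lit 0, nat_lit 31), (nat_lit 0, nat_lit 22, nat_lit 0), (nat_lit 1, nat_lit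 9, nat_lit 0), (nat_lit 1, nat_lit 1, nat_lit 0), (nat_lit 0, nat_lit 11, nat_lit 11), (nat_lit 0, nat_lit 0, nat_lit 12), (nat_lit 0, nat_lit 0, nat_lit 4), (nat_lit 0, nat_lit 0, nat_lit 14), (nat_lit 0, nat_lit 0, nat_lit 15), (nat_lit 0, nat_lit 5, nat_lit 5), (nat_lit 0, nat_lit 0, nat_lit 1), (nat_lit 0, nat_lit 9, nat_lit 9), (nat_lit 0, nat_lit 0, nat_lit 19), (nat_lit 0, nat_lit 0, nat_lit 11), (nat_lit 0, nat_lit 0, nat_lit 21), (nat_lit 0, nat_lit 0, nat_lit 22), (nat_lit 0, nat_lit 0, nat_lit 14), (nat_lit 0, nat_lit 0, nat_lit 24), (nat_lit 0, nat_lit 0, nat_lit 25), (nat_lit 0, nat_lit 16, nat_lit 15), (nat_lit 0, nat_lit 0, nat_lit 17), (nat_lit 0, nat_lit 0, nat_lit 17), (nat_lit 0, nat_lit 0, nat_lit 3), (nat_lit 0, nat_lit 30, nat_lit 21), (nat_lit 0, nat_lit 0, nat_lit 22), (nat_lit 0, nat_lit 0, nat_lit 32), (nat_lit 0, nat_lit 0, nat_lit 33),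 (nat_lit 0, nat_lit 0, nat_lit 34), (nat_lit 0, nat_lit 0, nat_lit 35), (nat_lit 0, nat_lit 0, nat_lit 27), (nat_lit 0, nat_lit 20, nat_lit 27), (nat_lit 0, nat_lit 0, nat_lit 1), (nat_lit 0, nat_lit 20, nat_lit 30), (nat_lit 0, nat_lit 0, nat_lit 40), (nat_lit 0, nat_lit 0, nat_lit 41), (nat_lit 0, nat_lit 0, nat_lit 33), (nat_lit 0, nat_lit 16, nat_lit 32), (nat_lit 0, nat_lit 0, nat_lit 33), (nat_lit 0, nat_lit 0, nat_lit 2), (nat_lit 0, nat_lit 34, nat_lit 37), (nat_lit 0, nat_lit 0, nat_lit 47), (nat_lit 0, nat_lit 0, nat_lit 39), (nat_lit 0, nat_lit 0, nat_lit 40), (nat_lit 0, nat_lit 0, nat_lit 50), (nat_lit 0, nat_lit 13, nat_lit 40), (nat_lit 0, nat_lit 0, nat_lit 41), (nat_lit 0, nat_lit 0, nat_lit 2), (nat_lit 1, nat_lit 36, nat_lit 0), (nat_lit 1, nat_lit 16, nat_lit 0), (nat_lit 0, nat_lit 26, nat_lit 26), (nat_lit 0, nat_lit 0, nat_lit 3), (nat_lit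 0, nat_lit 0, nat_lit 40), (nat_lit 0, nat_lit 0, nat_lit 13), (nat_lit 0, nat_lit 0, nat_lit 42), (nat_lit 0, nat_lit 0, nat_lit 15), (nat_lit 0, nat_lit 0, nat_lit 16), (nat_lit 0, nat_lit 7, nat_lit 0), (nat_lit 0, nat_lit 34, nat_lit 18), (nat_lit 0, nat_lit 0, nat_lit 26), (nat_lit 0, nat_lit 0, nat_lit 48), (nat_lit 0, nat_lit 0, nat_lit 21), (nat_lit 0, nat_lit 0, nat_lit 29), (nat_lit 0, nat_lit 14, nat_lit 0), (nat_lit 0, nat_lit 40, nat_lit 31), (nat_lit 0, nat_lit 0, nat_lit 32), (nat_lit 0, nat_lit 0, nat_lit 33), (nat_lit 0, nat_lit 0, nat_lit 27), (nat_lit 0, nat_lit 0, nat_lit 56), (nat_lit 0, nat_lit 0, nat_lit 29), (nat_lit 0, nat_lit 0, nat_lit 22), (nat_lit 0, nat_lit 0, nat_lit 47), (nat_lit 0, nat_lit 0, nat_lit 24), (nat_lit 0, nat_lit 33, nat_lit 25), (nat_lit 0, nat_lit 0, nat_lit 50), (nat_lit 0, nat_lit 0, nat_lit 35), (nat_lit 0, nat_lit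 0, nat_lit 28), (nat_lit 0, nat_lit 0, nat_lit 37)]
def m23_R3_s0 : Nat := nat_lit 0xbd2a30bda23c92c8380542d53890d6
def m23_R3_s1 : Nat := nat_lit 0xb86cb415c2644c3512149353379ea0
def m23_R3_s2 : Nat := nat_lit 0xbd4c919624159d3851ec435723a820
def m23_R3_s3 : Nat := nat_lit 0xba6a334acf2928b43a2c99e0a68820
def m23_R3_s4 : Nat := nat_lit 0xbb5135bdd63160aa1ea964a2418820
def m23_R3_s5 : Nat := nat_lit 0xbb4c93ae2453ac893e8c9d4b018820
def m23_R3_s6 : Nat := nat_lit 0xbb1f3a4232ab916218ed4a8ab18820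
def m23_R3_s7 : Nat := nat_lit 0xbd17661a2a23933ac1a7448af18820
def m23_R3_s8 : Nat := nat_lit 0xbae957b6289ba44b1cd0524ac18820
noncomputable def m23_R3_lev0 : Core.Lev := Core.mkLev m23_n m23_w m23_mask m23_L m23_maskL m23_idc (nat_lit 0) [m23_R3_s5, m23_R3_s6, m23_R3_s7, m23_R3_s8, m23_R3_s4, m23_R3_s3, m23_R3_s2, m23_R3_s1, m23_R3_s0] [(nat_lit 22, m23_R3_s0, nat_lit 0), (nat_lit 13, m23_R3_s5, nat_lit 22), (nat_lit 12, m23_R3_s6, nat_lit 22), (nat_lit 20, m23_R3_s7, nat_lit 22), (nat_lit 11, m23_R3_s8, nat_lit 22), (nat_lit 9, m23_R3_s3, nat_lit 22), (nat_lit 21, m23_R3_s2, nat_lit 22), (nat_lit 1, m23_R3_s1, nat_lit 22), (nat_lit 8, m23_R3_s6, nat_lit 13), (nat_lit 18, m23_R3_s8, nat_lit 13), (nat_lit 16, m23_R3_s4, nat_lit 13), (nat_lit 14, m23_R3_s2, nat_lit 13), (nat_lit 6, m23_R3_s1, nat_lit 13), (nat_lit 19, m23_R3_s7, nat_lit 12), (nat_lit 4, m23_R3_s8,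 nat_lit 12), (nat_lit 10, m23_R3_s4, nat_lit 12), (nat_lit 3, m23_R3_s1, nat_lit 12), (nat_lit 7, m23_R3_s6, nat_lit 9), (nat_lit 17, m23_R3_s3, nat_lit 9), (nat_lit 15, m23_R3_s2, nat_lit 9), (nat_lit 5, m23_R3_s0, nat_lit 8), (nat_lit 2, m23_R3_s1, nat_lit 16)]
noncomputable def m23_R3_lev1 : Core.Lev := Core.mkLev m23_n m23_w m23_mask m23_L m23_maskL m23_idc (nat_lit 1) [m23_R3_s5, m23_R3_s6, m23_R3_s7, m23_R3_s8, m23_R3_s4, m23_R3_s3, m23_R3_s2, m23_R3_s1] [(nat_lit 21, m23_R3_s1, nat_lit 1), (nat_lit 6, m23_R3_s5, nat_lit 21), (nat_lit 15, m23_R3_s6, nat_lit 21), (nat_lit 11, m23_R3_s7, nat_lit 21), (nat_lit 20, m23_R3_s8, nat_lit 21), (nat_lit 8, m23_R3_s4, nat_lit 21), (nat_lit 22, m23_R3_s1, nat_lit 21), (nat_lit 10, m23_R3_s6, nat_lit 6), (nat_lit 18, m23_R3_s7, nat_lit 6), (nat_lit 9, m23_R3_s8, nat_lit 6), (nat_lit 7, m23_R3_s3, nat_lit 6), (nat_lit 13,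 m23_R3_s2, nat_lit 6), (nat_lit 4, m23_R3_s7, nat_lit 15), (nat_lit 19, m23_R3_s8, nat_lit 15), (nat_lit 5, m23_R3_s3, nat_lit 15), (nat_lit 2, m23_R3_s2, nat_lit 15), (nat_lit 12, m23_R3_s1, nat_lit 15), (nat_lit 16, m23_R3_s2, nat_lit 11), (nat_lit 3, m23_R3_s3, nat_lit 20), (nat_lit 14, m23_R3_s3, nat_lit 10), (nat_lit 17, m23_R3_s3, nat_lit 9)]
noncomputable def m23_R3_lev2 : Core.Lev := Core.mkLev m23_n m23_w m23_mask m23_L m23_maskL m23_idc (nat_lit 2) [m23_R3_s5, m23_R3_s6, m23_R3_s7, m23_R3_s8, m23_R3_s4, m23_R3_s3, m23_R3_s2] [(nat_lit 10, m23_R3_s2, nat_lit 2), (nat_lit 15, m23_R3_s5, nat_lit 10), (nat_lit 6, m23_R3_s6, nat_lit 10), (nat_lit 16, m23_R3_s7, nat_lit 10), (nat_lit 7, m23_R3_s8, nat_lit 10), (nat_lit 14, m23_R3_s3, nat_lit 10), (nat_lit 20, m23_R3_s2, nat_lit 10), (nat_lit 21, m23_R3_s6, nat_lit 15), (nat_lit 4, m23_R3_s7, nat_lit 15), (nat_lit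 19, m23_R3_s8, nat_lit 15), (nat_lit 5, m23_R3_s3, nat_lit 15), (nat_lit 18, m23_R3_s7, nat_lit 6), (nat_lit 9, m23_R3_s8, nat_lit 6), (nat_lit 13, m23_R3_s2, nat_lit 6), (nat_lit 8, m23_R3_s8, nat_lit 16), (nat_lit 22, m23_R3_s4, nat_lit 16), (nat_lit 12, m23_R3_s4, nat_lit 7), (nat_lit 3, m23_R3_s3, nat_lit 20), (nat_lit 11, m23_R3_s7, nat_lit 21), (nat_lit 17, m23_R3_s4, nat_lit 5)]
noncomputable def m23_R3_lev3 : Core.Lev := Core.mkLev m23_n m23_w m23_mask m23_L m23_maskL m23_idc (nat_lit 3) [m23_R3_s5, m23_R3_s6, m23_R3_s7, m23_R3_s8, m23_R3_s4, m23_R3_s3] [(nat_lit 13, m23_R3_s3, nat_lit 3), (nat_lit 22, m23_R3_s5, nat_lit 13), (nat_lit 8, m23_R3_s6, nat_lit 13), (nat_lit 9, m23_R3_s7, nat_lit 13), (nat_lit 18, m23_R3_s8, nat_lit 13), (nat_lit 16, m23_R3_s4, nat_lit 13), (nat_lit 20, m23_R3_s3, nat_lit 13), (nat_lit 12, m23_R3_s6, nat_lit 22), (nat_lit 11,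 m23_R3_s8, nat_lit 22), (nat_lit 7, m23_R3_s7, nat_lit 8), (nat_lit 6, m23_R3_s8, nat_lit 9), (nat_lit 21, m23_R3_s4, nat_lit 9), (nat_lit 17, m23_R3_s3, nat_lit 9), (nat_lit 15, m23_R3_s4, nat_lit 18), (nat_lit 4, m23_R3_s5, nat_lit 16), (nat_lit 10, m23_R3_s7, nat_lit 16), (nat_lit 19, m23_R3_s6, nat_lit 20), (nat_lit 14, m23_R3_s4, nat_lit 17), (nat_lit 5, m23_R3_s3, nat_lit 15)]
noncomputable def m23_R3_lev4 : Core.Lev := Core.mkLev m23_n m23_w m23_mask m23_L m23_maskL m23_idc (nat_lit 5) [m23_R3_s5, m23_R3_s6, m23_R3_s7, m23_R3_s8, m23_R3_s4] [(nat_lit 17, m23_R3_s4, nat_lit 5), (nat_lit 14, m23_R3_s4, nat_lit 17)]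
noncomputable def m23_R3_lev5 : Core.Lev := Core.mkLev m23_n m23_w m23_mask m23_L m23_maskL m23_idc (nat_lit 4) [m23_R3_s5, m23_R3_s6, m23_R3_s7, m23_R3_s8] [(nat_lit 16, m23_R3_s5, nat_lit 4), (nat_lit 11, m23_R3_s6, nat_lit 4), (nat_lit 15, m23_R3_s7, nat_lit 4), (nat_lit 12, m23_R3_s8, nat_lit 4), (nat_lit 18, m23_R3_s6, nat_lit 16), (nat_lit 10, m23_R3_s7, nat_lit 16), (nat_lit 8, m23_R3_s8, nat_lit 16), (nat_lit 21, m23_R3_s7, nat_lit 11), (nat_lit 22, m23_R3_s8, nat_lit 11), (nat_lit 19, m23_R3_s8, nat_lit 15), (nat_lit 6, m23_R3_s7, nat_lit 18), (nat_lit 13, m23_R3_s8, nat_lit 18), (nat_lit 7, m23_R3_s8, nat_lit 10), (nat_lit 20, m23_R3_s8, nat_lit 21), (nat_lit 9, m23_R3_s8, nat_lit 6)]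
noncomputable def m23_R3_levels : List Core.Lev := [m23_R3_lev0, m23_R3_lev1, m23_R3_lev2, m23_R3_lev3, m23_R3_lev4, m23_R3_lev5]

noncomputable def m23_R3_cert : Simple.RepCert := ⟨nat_lit 0xbda13044839328babd25539a1320e2, [(nat_lit 0, nat_lit 0, nat_lit 1), (nat_lit 0, nat_lit 0, nat_lit 1), (nat_lit 0, nat_lit 0, nat_lit 2), (nat_lit 0, nat_lit 0, nat_lit 4), (nat_lit 0, nat_lit 0, nat_lit 4), (nat_lit 0, nat_lit 0, nat_lit 6), (nat_lit 0, nat_lit 0, nat_lit 7), (nat_lit 0, nat_lit 0, nat_lit 7), (nat_lit 0, nat_lit 0, nat_lit 8), (nat_lit 0, nat_lit 0, nat_lit 10), (nat_lit 0, nat_lit 0, nat_lit 11), (nat_lit 0, nat_lit 0, nat_lit 11), (nat_lit 0, nat_lit 0, nat_lit 13), (nat_lit 0, nat_lit 0, nat_lit 14), (nat_lit 0, nat_lit 14, nat_lit 14), (nat_lit 0, nat_lit 0, nat_lit 16), (nat_lit 0, nat_lit 0, nat_lit 16), (nat_lit 0, nat_lit 0, nat_lit 17), (nat_lit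 0, nat_lit 0, nat_lit 19), (nat_lit 0, nat_lit 0, nat_lit 19), (nat_lit 0, nat_lit 0, nat_lit 21), (nat_lit 0, nat_lit 0, nat_lit 21), (nat_lit 0, nat_lit 0, nat_lit 23), (nat_lit 0, nat_lit 0, nat_lit 24)], [(nat_lit 0xbd2a30bda23c92c8380542d53890d6, nat_lit 0xbb16d4955044e2131eb47906e15a40), (nat_lit 0xb89471966d7a0d4846a45b2d20b920, nat_lit 0xb8136141b55cca309de4a46465218e)], m23_R3_prog, m23_R3_levels⟩

def m23_R4_T : List Nat := [nat_lit 0xbc9f1234c03b989554b6a40619ad02, nat_lit 0xbc8531bd67306d58022c690a943954]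
def m23_R4_prog : List (Nat × Nat × Nat) := [(nat_lit 1, nat_lit 1, nat_lit 0), (nat_lit 1, nat_lit 1, nat_lit 0), (nat_lit 0, nat_lit 3, nat_lit 2), (nat_lit 0, nat_lit 0, nat_lit 3), (nat_lit 0, nat_lit 0, nat_lit 4), (nat_lit 0, nat_lit 0, nat_lit 5), (nat_lit 0, nat_lit 0, nat_lit 7), (nat_lit 0, nat_lit 0, nat_lit 8), (nat_lit 0, nat_lit 7, nat_lit 6), (nat_lit 0, nat_lit 0, nat_lit 7), (nat_lit 0, nat_lit 0, nat_lit 9), (nat_lit 0, nat_lit 0, nat_lit 10), (nat_lit 0, nat_lit 0, nat_lit 11), (nat_lit 0, nat_lit 0, nat_lit 5), (nat_lit 0, nat_lit 15, nat_lit 15), (nat_lit 0, nat_lit 0, nat_lit 15), (nat_lit 0, nat_lit 0, nat_lit 16), (nat_lit 0, nat_lit 0, nat_lit 18), (nat_lit 0, nat_lit 0, nat_lit 19), (nat_lit 0, nat_lit 0, nat_lit 20), (nat_lit 0, nat_lit 18, nat_lit 19), (nat_lit 0, nat_lit 0, nat_lit 20), (nat_lit 0, nat_lit 0, nat_lit 2), (nat_lit 1,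 nat_lit 9, nat_lit 0), (nat_lit 1, nat_lit 1, nat_lit 0), (nat_lit 0, nat_lit 2, nat_lit 11), (nat_lit 0, nat_lit 0, nat_lit 3), (nat_lit 0, nat_lit 0, nat_lit 13), (nat_lit 0, nat_lit 0, nat_lit 5), (nat_lit 0, nat_lit 0, nat_lit 15), (nat_lit 0, nat_lit 0, nat_lit 7), (nat_lit 0, nat_lit 0, nat_lit 17), (nat_lit 0, nat_lit 0, nat_lit 9), (nat_lit 0, nat_lit 0, nat_lit 19), (nat_lit 0, nat_lit 0, nat_lit 20), (nat_lit 0, nat_lit 10, nat_lit 11), (nat_lit 0, nat_lit 0, nat_lit 12), (nat_lit 0, nat_lit 0, nat_lit 13), (nat_lit 0, nat_lit 0, nat_lit 3), (nat_lit 0, nat_lit 25, nat_lit 25), (nat_lit 0, nat_lit 0, nat_lit 26), (nat_lit 0, nat_lit 0, nat_lit 18), (nat_lit 0, nat_lit 0, nat_lit 19), (nat_lit 0, nat_lit 0, nat_lit 20), (nat_lit 0, nat_lit 0, nat_lit 21), (nat_lit 0, nat_lit 0, nat_lit 22), (nat_lit 0, nat_lit 0, nat_lit 32), (nat_lit 0, nat_lit 10, nat_lit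 0), (nat_lit 0, nat_lit 22, nat_lit 34), (nat_lit 0, nat_lit 0, nat_lit 26), (nat_lit 0, nat_lit 0, nat_lit 27), (nat_lit 0, nat_lit 0, nat_lit 37), (nat_lit 0, nat_lit 0, nat_lit 38), (nat_lit 0, nat_lit 0, nat_lit 39), (nat_lit 0, nat_lit 0, nat_lit 40), (nat_lit 0, nat_lit 0, nat_lit 32), (nat_lit 0, nat_lit 0, nat_lit 42), (nat_lit 0, nat_lit 0, nat_lit 34), (nat_lit 0, nat_lit 34, nat_lit 33), (nat_lit 0, nat_lit 0, nat_lit 35), (nat_lit 0, nat_lit 0, nat_lit 36), (nat_lit 0, nat_lit 0, nat_lit 3), (nat_lit 0, nat_lit 38, nat_lit 19), (nat_lit 1, nat_lit 24, nat_lit 0), (nat_lit 1, nat_lit 16, nat_lit 0), (nat_lit 1, nat_lit 3, nat_lit 0), (nat_lit 1, nat_lit 3, nat_lit 0), (nat_lit 0, nat_lit 4, nat_lit 28), (nat_lit 0, nat_lit 0, nat_lit 6), (nat_lit 0, nat_lit 0, nat_lit 30), (nat_lit 0, nat_lit 0, nat_lit 22), (nat_lit 0, nat_lit 0, nat_lit 9), (nat_lit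 0, nat_lit 0, nat_lit 9), (nat_lit 0, nat_lit 9, nat_lit 7), (nat_lit 0, nat_lit 0, nat_lit 1), (nat_lit 0, nat_lit 27, nat_lit 13), (nat_lit 0, nat_lit 0, nat_lit 28), (nat_lit 0, nat_lit 0, nat_lit 15), (nat_lit 0, nat_lit 0, nat_lit 30), (nat_lit 0, nat_lit 0, nat_lit 40), (nat_lit 0, nat_lit 0, nat_lit 32), (nat_lit 0, nat_lit 0, nat_lit 18), (nat_lit 0, nat_lit 0, nat_lit 43), (nat_lit 0, nat_lit 0, nat_lit 44), (nat_lit 0, nat_lit 18, nat_lit 17), (nat_lit 0, nat_lit 0, nat_lit 1), (nat_lit 0, nat_lit 24, nat_lit 24), (nat_lit 0, nat_lit 0, nat_lit 48), (nat_lit 0, nat_lit 0, nat_lit 49), (nat_lit 0, nat_lit 0, nat_lit 50), (nat_lit 0, nat_lit 0, nat_lit 42), (nat_lit 0, nat_lit 0, nat_lit 29), (nat_lit 0, nat_lit 0, nat_lit 29), (nat_lit 0, nat_lit 26, nat_lit 28), (nat_lit 0, nat_lit 0, nat_lit 1), (nat_lit 1, nat_lit 20, nat_lit 0), (nat_lit 1, nat_lit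 10, nat_lit 0), (nat_lit 1, nat_lit 2, nat_lit 0), (nat_lit 0, nat_lit 12, nat_lit 23), (nat_lit 0, nat_lit 0, nat_lit 13), (nat_lit 0, nat_lit 0, nat_lit 5), (nat_lit 0, nat_lit 0, nat_lit 26), (nat_lit 0, nat_lit 0, nat_lit 7), (nat_lit 0, nat_lit 0, nat_lit 17), (nat_lit 0, nat_lit 7, nat_lit 8), (nat_lit 0, nat_lit 0, nat_lit 1), (nat_lit 0, nat_lit 11, nat_lit 31), (nat_lit 0, nat_lit 0, nat_lit 21), (nat_lit 0, nat_lit 0, nat_lit 22), (nat_lit 0, nat_lit 0, nat_lit 34), (nat_lit 0, nat_lit 0, nat_lit 15), (nat_lit 0, nat_lit 14, nat_lit 14), (nat_lit 0, nat_lit 0, nat_lit 16), (nat_lit 0, nat_lit 0, nat_lit 2), (nat_lit 0, nat_lit 39, nat_lit 39), (nat_lit 0, nat_lit 0, nat_lit 20), (nat_lit 0, nat_lit 0, nat_lit 41), (nat_lit 0, nat_lit 0, nat_lit 31), (nat_lit 0, nat_lit 0, nat_lit 32), (nat_lit 0, nat_lit 0, nat_lit 24), (nat_lit 0, nat_lit 22, nat_lit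 24), (nat_lit 0, nat_lit 0, nat_lit 1), (nat_lit 0, nat_lit 8, nat_lit 0), (nat_lit 0, nat_lit 0, nat_lit 17), (nat_lit 0, nat_lit 0, nat_lit 18), (nat_lit 0, nat_lit 0, nat_lit 11)]
def m23_R4_s0 : Nat := nat_lit 0xbc9f1234c03b989554b6a40619ad02
def m23_R4_s1 : Nat := nat_lit 0xbadc44c0769202568a867d58a9c4e0
def m23_R4_s2 : Nat := nat_lit 0xbd9b162a7280ca24a2af71d6625020
def m23_R4_s3 : Nat := nat_lit 0xbb8ea99171a206d83d363564560820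
def m23_R4_s4 : Nat := nat_lit 0xbb1f3a4232ab916218ed4a8ab18820
def m23_R4_s5 : Nat := nat_lit 0xba4eca91d491550b216d99a2f18820
def m23_R4_s6 : Nat := nat_lit 0xbc12ba18ad946c79b11553dc418820
noncomputable def m23_R4_lev0 : Core.Lev := Core.mkLev m23_n m23_w m23_mask m23_L m23_maskL m23_idc (nat_lit 0) [m23_R4_s6, m23_R4_s4, m23_R4_s5, m23_R4_s3, m23_R4_s2, m23_R4_s1, m23_R4_s0] [(nat_lit 2, m23_R4_s0, nat_lit 0), (nat_lit 20, m23_R4_s2, nat_lit 2), (nat_lit 17, m23_R4_s1, nat_lit 2), (nat_lit 11, m23_R4_s0, nat_lit 2), (nat_lit 19, m23_R4_s4, nat_lit 20), (nat_lit 12, m23_R4_s5, nat_lit 20), (nat_lit 10, m23_R4_s3, nat_lit 20), (nat_lit 4, m23_R4_s1, nat_lit 20), (nat_lit 5, m23_R4_s6, nat_lit 17), (nat_lit 14, m23_R4_s5, nat_lit 17), (nat_lit 3, m23_R4_s1, nat_lit 17), (nat_lit 6, m23_R4_s0, nat_lit 17), (nat_lit 22, m23_R4_s5, nat_lit 11), (nat_lit 16, m23_R4_s3,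 nat_lit 11), (nat_lit 9, m23_R4_s2, nat_lit 11), (nat_lit 13, m23_R4_s1, nat_lit 11), (nat_lit 21, m23_R4_s5, nat_lit 19), (nat_lit 7, m23_R4_s6, nat_lit 12), (nat_lit 8, m23_R4_s5, nat_lit 10), (nat_lit 15, m23_R4_s3, nat_lit 10), (nat_lit 1, m23_R4_s0, nat_lit 4), (nat_lit 18, m23_R4_s3, nat_lit 5)]
noncomputable def m23_R4_lev1 : Core.Lev := Core.mkLev m23_n m23_w m23_mask m23_L m23_maskL m23_idc (nat_lit 1) [m23_R4_s6, m23_R4_s4, m23_R4_s5, m23_R4_s3, m23_R4_s2, m23_R4_s1] [(nat_lit 7, m23_R4_s1, nat_lit 1), (nat_lit 10, m23_R4_s6, nat_lit 7), (nat_lit 9, m23_R4_s4, nat_lit 7), (nat_lit 19, m23_R4_s5, nat_lit 7), (nat_lit 6, m23_R4_s3, nat_lit 7), (nat_lit 14, m23_R4_s2, nat_lit 7), (nat_lit 15, m23_R4_s1, nat_lit 7), (nat_lit 12, m23_R4_s6, nat_lit 10), (nat_lit 8, m23_R4_s5, nat_lit 10), (nat_lit 2, m23_R4_s1, nat_lit 10), (nat_lit 11, m23_R4_s5, nat_lit 9),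 (nat_lit 21, m23_R4_s2, nat_lit 9), (nat_lit 20, m23_R4_s1, nat_lit 9), (nat_lit 17, m23_R4_s6, nat_lit 14), (nat_lit 5, m23_R4_s5, nat_lit 14), (nat_lit 3, m23_R4_s2, nat_lit 14), (nat_lit 18, m23_R4_s6, nat_lit 15), (nat_lit 16, m23_R4_s2, nat_lit 15), (nat_lit 22, m23_R4_s4, nat_lit 12), (nat_lit 13, m23_R4_s3, nat_lit 12), (nat_lit 4, m23_R4_s4, nat_lit 11)]
noncomputable def m23_R4_lev2 : Core.Lev := Core.mkLev m23_n m23_w m23_mask m23_L m23_maskL m23_idc (nat_lit 2) [m23_R4_s6, m23_R4_s4, m23_R4_s5, m23_R4_s3, m23_R4_s2] [(nat_lit 20, m23_R4_s2, nat_lit 2), (nat_lit 11, m23_R4_s6, nat_lit 20), (nat_lit 19, m23_R4_s4, nat_lit 20), (nat_lit 12, m23_R4_s5, nat_lit 20), (nat_lit 10, m23_R4_s3, nat_lit 20), (nat_lit 17, m23_R4_s2, nat_lit 20), (nat_lit 4, m23_R4_s4, nat_lit 11), (nat_lit 22, m23_R4_s5, nat_lit 11), (nat_lit 16, m23_R4_s3, nat_lit 11), (nat_lit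 9, m23_R4_s2, nat_lit 11), (nat_lit 21, m23_R4_s5, nat_lit 19), (nat_lit 7, m23_R4_s6, nat_lit 12), (nat_lit 13, m23_R4_s3, nat_lit 12), (nat_lit 6, m23_R4_s4, nat_lit 10), (nat_lit 8, m23_R4_s5, nat_lit 10), (nat_lit 15, m23_R4_s3, nat_lit 10), (nat_lit 5, m23_R4_s6, nat_lit 17), (nat_lit 14, m23_R4_s5, nat_lit 17), (nat_lit 18, m23_R4_s4, nat_lit 16), (nat_lit 3, m23_R4_s3, nat_lit 13)]
noncomputable def m23_R4_lev3 : Core.Lev := Core.mkLev m23_n m23_w m23_mask m23_L m23_maskL m23_idc (nat_lit 3) [m23_R4_s6, m23_R4_s4, m23_R4_s5, m23_R4_s3] [(nat_lit 12, m23_R4_s3, nat_lit 3), (nat_lit 7, m23_R4_s6, nat_lit 12), (nat_lit 22, m23_R4_s4, nat_lit 12), (nat_lit 16, m23_R4_s5, nat_lit 12), (nat_lit 13, m23_R4_s3, nat_lit 12), (nat_lit 10, m23_R4_s6, nat_lit 7), (nat_lit 9, m23_R4_s4, nat_lit 7), (nat_lit 19, m23_R4_s5, nat_lit 7), (nat_lit 6, m23_R4_s3, nat_lit 7),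 (nat_lit 14, m23_R4_s3, nat_lit 22), (nat_lit 18, m23_R4_s4, nat_lit 16), (nat_lit 20, m23_R4_s5, nat_lit 16), (nat_lit 17, m23_R4_s3, nat_lit 16), (nat_lit 8, m23_R4_s4, nat_lit 13), (nat_lit 15, m23_R4_s3, nat_lit 10), (nat_lit 11, m23_R4_s5, nat_lit 9), (nat_lit 21, m23_R4_s5, nat_lit 19), (nat_lit 5, m23_R4_s5, nat_lit 14), (nat_lit 4, m23_R4_s5, nat_lit 18)]
noncomputable def m23_R4_lev4 : Core.Lev := Core.mkLev m23_n m23_w m23_mask m23_L m23_maskL m23_idc (nat_lit 4) [m23_R4_s6, m23_R4_s4, m23_R4_s5] [(nat_lit 11, m23_R4_s4, nat_lit 4), (nat_lit 15, m23_R4_s5, nat_lit 4), (nat_lit 19, m23_R4_s6, nat_lit 11), (nat_lit 22, m23_R4_s5, nat_lit 11), (nat_lit 18, m23_R4_s6, nat_lit 15), (nat_lit 21, m23_R4_s4, nat_lit 15), (nat_lit 20, m23_R4_s6, nat_lit 19), (nat_lit 16, m23_R4_s6, nat_lit 22), (nat_lit 12, m23_R4_s4, nat_lit 22), (nat_lit 9, m23_R4_s5, nat_lit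 22), (nat_lit 6, m23_R4_s6, nat_lit 18), (nat_lit 7, m23_R4_s5, nat_lit 21), (nat_lit 13, m23_R4_s6, nat_lit 16), (nat_lit 8, m23_R4_s6, nat_lit 9), (nat_lit 10, m23_R4_s4, nat_lit 6)]
noncomputable def m23_R4_lev5 : Core.Lev := Core.mkLev m23_n m23_w m23_mask m23_L m23_maskL m23_idc (nat_lit 5) [m23_R4_s6] [(nat_lit 14, m23_R4_s6, nat_lit 5), (nat_lit 17, m23_R4_s6, nat_lit 14)]
noncomputable def m23_R4_levels : List Core.Lev := [m23_R4_lev0, m23_R4_lev1, m23_R4_lev2, m23_R4_lev3, m23_R4_lev4, m23_R4_lev5]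

noncomputable def m23_R4_cert : Simple.RepCert := ⟨nat_lit 0xb98112c983a5a0913553205d55bce8, [(nat_lit 0, nat_lit 0, nat_lit 1), (nat_lit 0, nat_lit 0, nat_lit 2), (nat_lit 0, nat_lit 0, nat_lit 2), (nat_lit 0, nat_lit 0, nat_lit 3), (nat_lit 0, nat_lit 0, nat_lit 5), (nat_lit 0, nat_lit 0, nat_lit 5), (nat_lit 0, nat_lit 7, nat_lit 7), (nat_lit 0, nat_lit 0, nat_lit 8), (nat_lit 0, nat_lit 0, nat_lit 9), (nat_lit 0, nat_lit 0, nat_lit 10), (nat_lit 0, nat_lit 0, nat_lit 10), (nat_lit 0, nat_lit 0, nat_lit 11), (nat_lit 0, nat_lit 0, nat_lit 12), (nat_lit 0, nat_lit 0, nat_lit 14), (nat_lit 0, nat_lit 0, nat_lit 15), (nat_lit 0, nat_lit 0, nat_lit 15), (nat_lit 0, nat_lit 0, nat_lit 17), (nat_lit 0, nat_lit 0, nat_lit 18)], [(nat_lit 0xbc9f1234c03b989554b6a40619ad02, nat_lit 0xb95146ba2b3a446a821220d8153e76), (nat_lit 0xbc8531bd67306d58022c690a943954, nat_lit 0xb90e2915d3a9a81401565a5f01b22d)],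 m23_R4_prog, m23_R4_levels⟩

def m23_R5_T : List Nat := [nat_lit 0xb804c0c4cd716504ade4a0e7555907, nat_lit 0xbb42a33e0b3d911980a27264c25075]
def m23_R5_prog : List (Nat × Nat × Nat) := [(nat_lit 1, nat_lit 1, nat_lit 0), (nat_lit 1, nat_lit 1, nat_lit 0), (nat_lit 0, nat_lit 3, nat_lit 2), (nat_lit 0, nat_lit 0, nat_lit 4), (nat_lit 0, nat_lit 0, nat_lit 4), (nat_lit 0, nat_lit 0, nat_lit 6), (nat_lit 0, nat_lit 0, nat_lit 7), (nat_lit 0, nat_lit 0, nat_lit 7), (nat_lit 0, nat_lit 7, nat_lit 6), (nat_lit 0, nat_lit 0, nat_lit 1), (nat_lit 0, nat_lit 10, nat_lit 11), (nat_lit 0, nat_lit 0, nat_lit 12), (nat_lit 0, nat_lit 0, nat_lit 12), (nat_lit 0, nat_lit 0, nat_lit 13), (nat_lit 0, nat_lit 0, nat_lit 14), (nat_lit 0, nat_lit 0, nat_lit 16), (nat_lit 0, nat_lit 0, nat_lit 17), (nat_lit 0, nat_lit 0, nat_lit 18), (nat_lit 0, nat_lit 0, nat_lit 19), (nat_lit 0, nat_lit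 0, nat_lit 20), (nat_lit 0, nat_lit 0, nat_lit 21), (nat_lit 0, nat_lit 20, nat_lit 20), (nat_lit 0, nat_lit 0, nat_lit 21), (nat_lit 0, nat_lit 0, nat_lit 21), (nat_lit 0, nat_lit 0, nat_lit 23), (nat_lit 0, nat_lit 0, nat_lit 4), (nat_lit 1, nat_lit 16, nat_lit 0), (nat_lit 1, nat_lit 1, nat_lit 0), (nat_lit 0, nat_lit 18, nat_lit 2), (nat_lit 0, nat_lit 0, nat_lit 19), (nat_lit 0, nat_lit 0, nat_lit 4), (nat_lit 0, nat_lit 0, nat_lit 5), (nat_lit 0, nat_lit 0, nat_lit 6), (nat_lit 0, nat_lit 0, nat_lit 23), (nat_lit 0, nat_lit 0, nat_lit 24), (nat_lit 0, nat_lit 9, nat_lit 9), (nat_lit 0, nat_lit 0, nat_lit 26), (nat_lit 0, nat_lit 0, nat_lit 27), (nat_lit 0, nat_lit 0, nat_lit 12), (nat_lit 0, nat_lit 0, nat_lit 13), (nat_lit 0, nat_lit 0, nat_lit 30), (nat_lit 0, nat_lit 0, nat_lit 15), (nat_lit 0, nat_lit 15, nat_lit 14), (nat_lit 0, nat_lit 0, nat_lit 16),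 (nat_lit 0, nat_lit 0, nat_lit 16), (nat_lit 0, nat_lit 0, nat_lit 18), (nat_lit 0, nat_lit 0, nat_lit 4), (nat_lit 1, nat_lit 12, nat_lit 0), (nat_lit 1, nat_lit 1, nat_lit 0), (nat_lit 0, nat_lit 2, nat_lit 14), (nat_lit 0, nat_lit 0, nat_lit 15), (nat_lit 0, nat_lit 0, nat_lit 4), (nat_lit 0, nat_lit 4, nat_lit 0), (nat_lit 0, nat_lit 18, nat_lit 18), (nat_lit 0, nat_lit 0, nat_lit 19), (nat_lit 0, nat_lit 0, nat_lit 8), (nat_lit 0, nat_lit 0, nat_lit 9), (nat_lit 0, nat_lit 0, nat_lit 22), (nat_lit 0, nat_lit 0, nat_lit 23), (nat_lit 0, nat_lit 11, nat_lit 11), (nat_lit 0, nat_lit 0, nat_lit 11), (nat_lit 0, nat_lit 0, nat_lit 13), (nat_lit 0, nat_lit 0, nat_lit 13), (nat_lit 0, nat_lit 0, nat_lit 4), (nat_lit 0, nat_lit 17, nat_lit 17), (nat_lit 0, nat_lit 0, nat_lit 18), (nat_lit 0, nat_lit 0, nat_lit 31), (nat_lit 0, nat_lit 0, nat_lit 20), (nat_lit 0, nat_lit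 0, nat_lit 33), (nat_lit 1, nat_lit 16, nat_lit 0), (nat_lit 1, nat_lit 6, nat_lit 0), (nat_lit 1, nat_lit 2, nat_lit 0), (nat_lit 0, nat_lit 8, nat_lit 3), (nat_lit 0, nat_lit 0, nat_lit 4), (nat_lit 0, nat_lit 0, nat_lit 21), (nat_lit 0, nat_lit 0, nat_lit 11), (nat_lit 0, nat_lit 0, nat_lit 12), (nat_lit 0, nat_lit 0, nat_lit 24), (nat_lit 0, nat_lit 0, nat_lit 14), (nat_lit 0, nat_lit 0, nat_lit 26), (nat_lit 0, nat_lit 10, nat_lit 10), (nat_lit 0, nat_lit 0, nat_lit 1), (nat_lit 0, nat_lit 18, nat_lit 18), (nat_lit 0, nat_lit 0, nat_lit 14), (nat_lit 0, nat_lit 0, nat_lit 15), (nat_lit 0, nat_lit 14, nat_lit 0), (nat_lit 0, nat_lit 22, nat_lit 33), (nat_lit 0, nat_lit 0, nat_lit 18), (nat_lit 0, nat_lit 0, nat_lit 24), (nat_lit 0, nat_lit 0, nat_lit 20), (nat_lit 0, nat_lit 0, nat_lit 21), (nat_lit 0, nat_lit 0, nat_lit 22), (nat_lit 0, nat_lit 0, nat_lit 39),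 (nat_lit 0, nat_lit 0, nat_lit 29), (nat_lit 0, nat_lit 24, nat_lit 23), (nat_lit 0, nat_lit 0, nat_lit 23), (nat_lit 0, nat_lit 0, nat_lit 2), (nat_lit 0, nat_lit 28, nat_lit 44), (nat_lit 0, nat_lit 0, nat_lit 45), (nat_lit 0, nat_lit 0, nat_lit 46), (nat_lit 0, nat_lit 0, nat_lit 36), (nat_lit 0, nat_lit 30, nat_lit 30), (nat_lit 0, nat_lit 0, nat_lit 1), (nat_lit 1, nat_lit 17, nat_lit 0), (nat_lit 0, nat_lit 1, nat_lit 18), (nat_lit 0, nat_lit 0, nat_lit 23), (nat_lit 0, nat_lit 0, nat_lit 20), (nat_lit 0, nat_lit 0, nat_lit 21), (nat_lit 0, nat_lit 0, nat_lit 26), (nat_lit 0, nat_lit 0, nat_lit 12), (nat_lit 0, nat_lit 0, nat_lit 28), (nat_lit 0, nat_lit 0, nat_lit 29), (nat_lit 0, nat_lit 8, nat_lit 0)]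
def m23_R5_s0 : Nat := nat_lit 0xb804c0c4cd716504ade4a0e7555907
def m23_R5_s1 : Nat := nat_lit 0xb9a335886c6d1f071128b06b22a8e0
def m23_R5_s2 : Nat := nat_lit 0xbb48a78eaeb4d904ae322a0d411c20
def m23_R5_s3 : Nat := nat_lit 0xbb8ea99171a206d83d363564560820
def m23_R5_s4 : Nat := nat_lit 0xba613220aa3c5f25d4cc6d9d418820
def m23_R5_s5 : Nat := nat_lit 0xba1474922b3398d85676a3cb218820
def m23_R5_s6 : Nat := nat_lit 0xbb5135bdd63160aa1ea964a2418820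
noncomputable def m23_R5_lev0 : Core.Lev := Core.mkLev m23_n m23_w m23_mask m23_L m23_maskL m23_idc (nat_lit 0) [m23_R5_s6, m23_R5_s4, m23_R5_s5, m23_R5_s3, m23_R5_s2, m23_R5_s1, m23_R5_s0] [(nat_lit 7, m23_R5_s0, nat_lit 0), (nat_lit 12, m23_R5_s6, nat_lit 7), (nat_lit 13, m23_R5_s4, nat_lit 7), (nat_lit 20, m23_R5_s5, nat_lit 7), (nat_lit 6, m23_R5_s3, nat_lit 7), (nat_lit 5, m23_R5_s2, nat_lit 7), (nat_lit 22, m23_R5_s1, nat_lit 7), (nat_lit 10, m23_R5_s6, nat_lit 12), (nat_lit 18, m23_R5_s4, nat_lit 12), (nat_lit 16, m23_R5_s2, nat_lit 12), (nat_lit 15, m23_R5_s4, nat_lit 13), (nat_lit 3, m23_R5_s3, nat_lit 13), (nat_lit 19, m23_R5_s6, nat_lit 20), (nat_lit 21, m23_R5_s3, nat_lit 6), (nat_lit 8, m23_R5_s2, nat_lit 6), (nat_lit 1, m23_R5_s1, nat_lit 6), (nat_lit 17, m23_R5_s6, nat_lit 5), (nat_lit 14, m23_R5_s4, nat_lit 5), (nat_lit 9, m23_R5_s4, nat_lit 22),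 (nat_lit 11, m23_R5_s2, nat_lit 10), (nat_lit 4, m23_R5_s1, nat_lit 10), (nat_lit 2, m23_R5_s1, nat_lit 18)]
noncomputable def m23_R5_lev1 : Core.Lev := Core.mkLev m23_n m23_w m23_mask m23_L m23_maskL m23_idc (nat_lit 1) [m23_R5_s6, m23_R5_s4, m23_R5_s5, m23_R5_s3, m23_R5_s2, m23_R5_s1] [(nat_lit 7, m23_R5_s1, nat_lit 1), (nat_lit 12, m23_R5_s6, nat_lit 7), (nat_lit 13, m23_R5_s4, nat_lit 7), (nat_lit 20, m23_R5_s5, nat_lit 7), (nat_lit 6, m23_R5_s3, nat_lit 7), (nat_lit 5, m23_R5_s2, nat_lit 7), (nat_lit 22, m23_R5_s1, nat_lit 7), (nat_lit 10, m23_R5_s6, nat_lit 12), (nat_lit 18, m23_R5_s4, nat_lit 12), (nat_lit 16, m23_R5_s2, nat_lit 12), (nat_lit 15, m23_R5_s4, nat_lit 13), (nat_lit 3, m23_R5_s3, nat_lit 13), (nat_lit 19, m23_R5_s6, nat_lit 20), (nat_lit 21, m23_R5_s3, nat_lit 6), (nat_lit 8, m23_R5_s2, nat_lit 6), (nat_lit 17, m23_R5_s6, nat_lit 5), (nat_lit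 14, m23_R5_s4, nat_lit 5), (nat_lit 9, m23_R5_s4, nat_lit 22), (nat_lit 11, m23_R5_s2, nat_lit 10), (nat_lit 4, m23_R5_s1, nat_lit 10), (nat_lit 2, m23_R5_s1, nat_lit 18)]
noncomputable def m23_R5_lev2 : Core.Lev := Core.mkLev m23_n m23_w m23_mask m23_L m23_maskL m23_idc (nat_lit 2) [m23_R5_s6, m23_R5_s4, m23_R5_s5, m23_R5_s3, m23_R5_s2] [(nat_lit 7, m23_R5_s2, nat_lit 2), (nat_lit 12, m23_R5_s6, nat_lit 7), (nat_lit 13, m23_R5_s4, nat_lit 7), (nat_lit 20, m23_R5_s5, nat_lit 7), (nat_lit 6, m23_R5_s3, nat_lit 7), (nat_lit 5, m23_R5_s2, nat_lit 7), (nat_lit 10, m23_R5_s6, nat_lit 12), (nat_lit 18, m23_R5_s4, nat_lit 12), (nat_lit 16, m23_R5_s2, nat_lit 12), (nat_lit 15, m23_R5_s4, nat_lit 13), (nat_lit 3, m23_R5_s3, nat_lit 13), (nat_lit 19, m23_R5_s6, nat_lit 20), (nat_lit 22, m23_R5_s4, nat_lit 6), (nat_lit 21, m23_R5_s3, nat_lit 6), (nat_lit 8, m23_R5_s2, nat_lit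 6), (nat_lit 17, m23_R5_s6, nat_lit 5), (nat_lit 14, m23_R5_s4, nat_lit 5), (nat_lit 11, m23_R5_s2, nat_lit 10), (nat_lit 4, m23_R5_s5, nat_lit 18), (nat_lit 9, m23_R5_s5, nat_lit 19)]
noncomputable def m23_R5_lev3 : Core.Lev := Core.mkLev m23_n m23_w m23_mask m23_L m23_maskL m23_idc (nat_lit 3) [m23_R5_s6, m23_R5_s4, m23_R5_s5, m23_R5_s3] [(nat_lit 12, m23_R5_s3, nat_lit 3), (nat_lit 10, m23_R5_s6, nat_lit 12), (nat_lit 18, m23_R5_s4, nat_lit 12), (nat_lit 13, m23_R5_s5, nat_lit 12), (nat_lit 7, m23_R5_s6, nat_lit 10), (nat_lit 21, m23_R5_s4, nat_lit 10), (nat_lit 15, m23_R5_s3, nat_lit 10), (nat_lit 8, m23_R5_s4, nat_lit 18), (nat_lit 4, m23_R5_s5, nat_lit 18), (nat_lit 16, m23_R5_s6, nat_lit 13), (nat_lit 20, m23_R5_s5, nat_lit 7), (nat_lit 6, m23_R5_s3, nat_lit 7), (nat_lit 9, m23_R5_s6, nat_lit 8), (nat_lit 22, m23_R5_s5, nat_lit 8), (nat_lit 5, m23_R5_s3,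 nat_lit 4), (nat_lit 11, m23_R5_s5, nat_lit 16), (nat_lit 17, m23_R5_s3, nat_lit 16), (nat_lit 19, m23_R5_s6, nat_lit 20), (nat_lit 14, m23_R5_s3, nat_lit 22)]
noncomputable def m23_R5_lev4 : Core.Lev := Core.mkLev m23_n m23_w m23_mask m23_L m23_maskL m23_idc (nat_lit 4) [m23_R5_s6, m23_R5_s4, m23_R5_s5] [(nat_lit 20, m23_R5_s4, nat_lit 4), (nat_lit 18, m23_R5_s5, nat_lit 4), (nat_lit 19, m23_R5_s6, nat_lit 20), (nat_lit 7, m23_R5_s5, nat_lit 20), (nat_lit 15, m23_R5_s6, nat_lit 18), (nat_lit 8, m23_R5_s4, nat_lit 18), (nat_lit 11, m23_R5_s6, nat_lit 19), (nat_lit 9, m23_R5_s5, nat_lit 19), (nat_lit 12, m23_R5_s6, nat_lit 7), (nat_lit 13, m23_R5_s4, nat_lit 7), (nat_lit 6, m23_R5_s6, nat_lit 15), (nat_lit 22, m23_R5_s5, nat_lit 8), (nat_lit 16, m23_R5_s5, nat_lit 11), (nat_lit 21, m23_R5_s6, nat_lit 9), (nat_lit 10, m23_R5_s6, nat_lit 12)]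
noncomputable def m23_R5_lev5 : Core.Lev := Core.mkLev m23_n m23_w m23_mask m23_L m23_maskL m23_idc (nat_lit 5) [m23_R5_s6] [(nat_lit 17, m23_R5_s6, nat_lit 5), (nat_lit 14, m23_R5_s6, nat_lit 17)]
noncomputable def m23_R5_levels : List Core.Lev := [m23_R5_lev0, m23_R5_lev1, m23_R5_lev2, m23_R5_lev3, m23_R5_lev4, m23_R5_lev5]

noncomputable def m23_R5_cert : Simple.RepCert := ⟨nat_lit 0xbd60f6582b121441d0a04ce4d89dc6, [(nat_lit 0, nat_lit 1, nat_lit 0), (nat_lit 0, nat_lit 0, nat_lit 2), (nat_lit 0, nat_lit 0, nat_lit 2), (nat_lit 0, nat_lit 0, nat_lit 3), (nat_lit 0, nat_lit 4, nat_lit 5), (nat_lit 0, nat_lit 0, nat_lit 6), (nat_lit 0, nat_lit 0, nat_lit 7), (nat_lit 0, nat_lit 0, nat_lit 7), (nat_lit 0, nat_lit 0, nat_lit 8), (nat_lit 0, nat_lit 0, nat_lit 10)], [(nat_lit 0xb804c0c4cd716504ade4a0e7555907, nat_lit 0xbc1b52b07212d13890e903a813594f), (nat_lit 0xbb42a33e0b3d911980a27264c25075,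 nat_lit 0xb9dcb1bc569aa246c0a04864c41a95)], m23_R5_prog, m23_R5_levels⟩

def m23_P0_T : List Nat := [nat_lit 0xbda06981b579e2858c8c750a950832, nat_lit 0xb92146c8357ba6a4b16831c5619620, nat_lit 0xbb2ad449d07c69652cf3490a608860, nat_lit 0xbac548ca657b827b188862a091d5a0]
def m23_P0_prog : List (Nat × Nat × Nat) := [(nat_lit 1, nat_lit 3, nat_lit 0), (nat_lit 0, nat_lit 2, nat_lit 2), (nat_lit 0, nat_lit 0, nat_lit 5), (nat_lit 0, nat_lit 0, nat_lit 6), (nat_lit 0, nat_lit 0, nat_lit 5), (nat_lit 0, nat_lit 0, nat_lit 6), (nat_lit 0, nat_lit 0, nat_lit 8), (nat_lit 0, nat_lit 0, nat_lit 10), (nat_lit 0, nat_lit 0, nat_lit 11), (nat_lit 0, nat_lit 0, nat_lit 12), (nat_lit 0, nat_lit 0, nat_lit 11), (nat_lit 0, nat_lit 10, nat_lit 0), (nat_lit 0, nat_lit 15, nat_lit 14), (nat_lit 0, nat_lit 0, nat_lit 16), (nat_lit 0, nat_lit 0, nat_lit 17), (nat_lit 0, nat_lit 0, nat_lit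 18), (nat_lit 0, nat_lit 0, nat_lit 16), (nat_lit 0, nat_lit 0, nat_lit 19), (nat_lit 0, nat_lit 0, nat_lit 20), (nat_lit 0, nat_lit 0, nat_lit 21), (nat_lit 0, nat_lit 0, nat_lit 21), (nat_lit 0, nat_lit 0, nat_lit 23), (nat_lit 0, nat_lit 22, nat_lit 24), (nat_lit 0, nat_lit 0, nat_lit 24), (nat_lit 0, nat_lit 0, nat_lit 25), (nat_lit 0, nat_lit 0, nat_lit 26), (nat_lit 0, nat_lit 0, nat_lit 29), (nat_lit 0, nat_lit 0, nat_lit 30), (nat_lit 0, nat_lit 0, nat_lit 31), (nat_lit 0, nat_lit 0, nat_lit 30), (nat_lit 0, nat_lit 0, nat_lit 30), (nat_lit 0, nat_lit 30, nat_lit 0), (nat_lit 0, nat_lit 35, nat_lit 33), (nat_lit 0, nat_lit 0, nat_lit 36), (nat_lit 0, nat_lit 0, nat_lit 37), (nat_lit 0, nat_lit 0, nat_lit 38), (nat_lit 0, nat_lit 0, nat_lit 37), (nat_lit 0, nat_lit 0, nat_lit 38), (nat_lit 0, nat_lit 0, nat_lit 38), (nat_lit 0, nat_lit 0, nat_lit 39), (nat_lit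 0, nat_lit 0, nat_lit 40), (nat_lit 0, nat_lit 0, nat_lit 43), (nat_lit 0, nat_lit 45, nat_lit 42), (nat_lit 0, nat_lit 0, nat_lit 43), (nat_lit 0, nat_lit 0, nat_lit 47), (nat_lit 0, nat_lit 0, nat_lit 47), (nat_lit 0, nat_lit 0, nat_lit 46), (nat_lit 0, nat_lit 0, nat_lit 47), (nat_lit 1, nat_lit 36, nat_lit 0), (nat_lit 1, nat_lit 27, nat_lit 0), (nat_lit 1, nat_lit 8, nat_lit 0), (nat_lit 0, nat_lit 9, nat_lit 9), (nat_lit 0, nat_lit 0, nat_lit 40), (nat_lit 0, nat_lit 0, nat_lit 31), (nat_lit 0, nat_lit 0, nat_lit 6), (nat_lit 0, nat_lit 0, nat_lit 7), (nat_lit 0, nat_lit 0, nat_lit 24), (nat_lit 0, nat_lit 0, nat_lit 9), (nat_lit 0, nat_lit 0, nat_lit 16), (nat_lit 0, nat_lit 10, nat_lit 0), (nat_lit 0, nat_lit 8, nat_lit 28), (nat_lit 0, nat_lit 0, nat_lit 29), (nat_lit 0, nat_lit 0, nat_lit 40), (nat_lit 0, nat_lit 0, nat_lit 31), (nat_lit 0, nat_lit 15,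 nat_lit 14), (nat_lit 0, nat_lit 0, nat_lit 14), (nat_lit 0, nat_lit 0, nat_lit 2)]
def m23_P0_s0 : Nat := nat_lit 0xbda06981b579e2858c8c750a950832
def m23_P0_s1 : Nat := nat_lit 0xbb2011ca957cdc9510f1b2c4669500
def m23_P0_s2 : Nat := nat_lit 0xbcea7b48907992808daca38b150960
def m23_P0_s3 : Nat := nat_lit 0xbae089ca3578da6b1c945304971420
def m23_P0_s4 : Nat := nat_lit 0xba4439ca257a1aa232ce31e0ba5420
noncomputable def m23_P0_lev0 : Core.Lev := Core.mkLev m23_n m23_w m23_mask m23_L m23_maskL m23_idc (nat_lit 0) [m23_P0_s3, m23_P0_s4, m23_P0_s1, m23_P0_s2, m23_P0_s0] [(nat_lit 18, m23_P0_s0, nat_lit 0)]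
noncomputable def m23_P0_lev1 : Core.Lev := Core.mkLev m23_n m23_w m23_mask m23_L m23_maskL m23_idc (nat_lit 1) [m23_P0_s3, m23_P0_s4, m23_P0_s1, m23_P0_s2] [(nat_lit 8, m23_P0_s1, nat_lit 1), (nat_lit 11, m23_P0_s2, nat_lit 1), (nat_lit 20, m23_P0_s3, nat_lit 8), (nat_lit 14, m23_P0_s4, nat_lit 8), (nat_lit 17, m23_P0_s1, nat_lit 8), (nat_lit 12, m23_P0_s2, nat_lit 8), (nat_lit 22, m23_P0_s3, nat_lit 11), (nat_lit 4, m23_P0_s4, nat_lit 11), (nat_lit 10, m23_P0_s1, nat_lit 11), (nat_lit 3, m23_P0_s4, nat_lit 20), (nat_lit 7, m23_P0_s2, nat_lit 20), (nat_lit 19, m23_P0_s1, nat_lit 14), (nat_lit 6, m23_P0_s2, nat_lit 14), (nat_lit 9, m23_P0_s1, nat_lit 12), (nat_lit 13, m23_P0_s1, nat_lit 3)]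
noncomputable def m23_P0_lev2 : Core.Lev := Core.mkLev m23_n m23_w m23_mask m23_L m23_maskL m23_idc (nat_lit 2) [m23_P0_s3, m23_P0_s4] [(nat_lit 5, m23_P0_s3, nat_lit 2), (nat_lit 21, m23_P0_s4, nat_lit 2), (nat_lit 16, m23_P0_s4, nat_lit 5)]
noncomputable def m23_P0_levels : List Core.Lev := [m23_P0_lev0, m23_P0_lev1, m23_P0_lev2]

noncomputable def m23_P0_cert : Simple.SylCert := ⟨nat_lit 2, nat_lit 128, m23_P0_T, m23_P0_prog, m23_P0_levels, [nat_lit 0xbdab49ca307b9ac5a928398a418820, nat_lit 0xb92a7682707982848eca7504b61632, nat_lit 0xbb204402957a5d3504d68b4a758872, nat_lit 0xbacaa880227b268b0d2775204355b2, nat_lit 0xba6a68803079e632216ca3856515b2, nat_lit 0xb9a0da48757c50b3d9532244c095c0, nat_lit 0xba211600f57b4d61add3224b408952, nat_lit 0xbaa13449d578684624cd5d84789460, nat_lit 0xb9c41449c57ce8b359912260a6d460, nat_lit 0xbac466826579c2eb512c40ea454232, nat_lit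 0xba84d749057c469610d3b2e070d680, nat_lit 0xb9aa9a0110790733858b8b44ab15d2, nat_lit 0xba44c082257a9a820d66752b63c272, nat_lit 0xbaab6402907adcd644e40cc4649472, nat_lit 0xb9ca940282791d13354b9860cb5472, nat_lit 0xba8ab700627d913604e98b60625692, nat_lit 0xb9ea4700707a50134d566c44c59692, nat_lit 0xb904a981a57b2234a2c7a3aab34032, nat_lit 0xbd2b1301507b58b7587349048094f2, nat_lit 0xba8a1a48627cd1662cd1492a76c1c0, nat_lit 0xb90a60822279db44bacc1a20b55672, nat_lit 0xb9cad1ca827c5c4325935daaa0c100, nat_lit 0xba2a1500d07cce41a5cdb2c5489592, nat_lit 0xba0b3381827854b1d9d1492146d4d2, nat_lit 0xb8eb3600f0784c9412915d84e69552, nat_lit 0xb98b1449c27b68939141b2eac9c060, nat_lit 0xbb841600e57cccba590d492a38c152, nat_lit 0xba4a7981a279a2e2516a40e1665432, nat_lit 0xba844a01057a471634f6986a65c1d2, nat_lit 0xb8c51381857b54442693b2eae0c0d2, nat_lit 0xbb0b3749027846b558ed226a68c280,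 nat_lit 0xb9e11749157b47632d814904a99680, nat_lit 0xbd204349957a5537050b6c443b14e0, nat_lit 0xb9e0ba01157d86d345490ccac209d2, nat_lit 0xb9c56181c57ae93305448b6ac4c112, nat_lit 0xba20b548f57d8cd1c6849844e49580, nat_lit 0xba0443c9457a5911b68b0ce0eb54c0, nat_lit 0xb8e16648d57acf1435c90cc5421540, nat_lit 0xb984b402857d9c13cd896c6aa24072, nat_lit 0xbb8a4648c27a4eda446b986a8b4140, nat_lit 0xb8cab3c9427d993405c46c6b44c0c0, nat_lit 0xbb049700657910d544cb0cea7b4292, nat_lit 0xb9a16700757ad113b584984aa48a92, nat_lit 0xbaa09181d57928164ceb6c4a6b0912, nat_lit 0xbd8ac682627a8235a086a3a093d632, nat_lit 0xbba093c95579181a4c768b448594c0, nat_lit 0xbd201381957cd497106d5d8a8888d2, nat_lit 0xbd053500c5784f672c71226a86c192, nat_lit 0xbba133015578584a2511b2ca3688f2, nat_lit 0xbb051a48657b504524e15da069d5c0, nat_lit 0xb8ca1301427cd9642e8d2260e8d4f2, nat_lit 0xbd8478802579a745b88a1a2a9641b2,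 nat_lit 0xb98a4181c27a68d3c5960ce0a5d512, nat_lit 0xba60a682757b034239671a0b630a32, nat_lit 0xbb8b1500c27b4e9a11135da030d592, nat_lit 0xb98531ca85785d63ad4d4920c8d500, nat_lit 0xbb2011ca957cdc9510f1b2c4669500, nat_lit 0xbcea3580907a12609e346284d716d2, nat_lit 0xba04d301457c589191c15dab49c0f2, nat_lit 0xbc4ae580827d12769a68532011d6d2, nat_lit 0xbcca8482c278d6a0b22e39a0da5492, nat_lit 0xb8e0d500d57c4eb45a81490ae98992, nat_lit 0xb86a8b013078c87999ae53051a1572, nat_lit 0xbd0ad600e27c4c472461b2e089d552, nat_lit 0xbc443b01257a08a6b27439aa174172, nat_lit 0xbbaad381907c556a2d0122443994d2, nat_lit 0xb920c880357aa6e4d2c640cab389b2, nat_lit 0xb8c49349857914d445d6986145d4e0, nat_lit 0xbb0b6a01027ac6154cc46c6074d5d2, nat_lit 0xbb2ab181d07da91534c99844721512, nat_lit 0xb844e482c57d16699da862ab11c092, nat_lit 0xbb60624ad579d6888e6aa384161520, nat_lit 0xbd0a9548e2790d1735160cea35c180,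 nat_lit 0xbb856548e57acd3a04696c60825580, nat_lit 0xbce0a5c9357b0940b9a640c51396c0, nat_lit 0xba0b6349827ad411ce898b6ae240e0, nat_lit 0xbc44c5c9257a88868c27a3a13356c0, nat_lit 0xbcc464c96579ece0d1aa1a21165480, nat_lit 0xb860cb48957a92e9d2271a04d31560, nat_lit 0xbd04b648c57d8e174d048b6034d540, nat_lit 0xbc4a6b488279d346b82a40eb364160, nat_lit 0xb84aa4c9627b2c898e26a3aad3c080, nat_lit 0xbc6074c97579ac36a02c7505351480, nat_lit 0xbb603482d57a16789834530b370892, nat_lit 0xbb4485808578d2c8a82e31eb3a42d2, nat_lit 0xbc6082017578ec669e6e628a1a0932, nat_lit 0xb84a3201627a2cc9a9b431e1175532, nat_lit 0xbcc54201657bac709a23532ad44132, nat_lit 0xbb4a75c9227988e8d26c1a2a1542c0, nat_lit 0xbccac24ac27a9630a1a7752b134120, nat_lit 0xbb4b4b01227b88689c2362a1345572, nat_lit 0xbb44ab48857b1238a266752013d560, nat_lit 0xb844724ac5799749ba2c40e0d55520], [(nat_lit 0xbda06981b579e2858c8c750a950832,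 nat_lit 0xbdab49ca307b9ac5a928398a418820, nat_lit 1, nat_lit 0xbda06981b579e2858c8c750a950832), (nat_lit 0xb92146c8357ba6a4b16831c5619620, nat_lit 0xba5c29062779414a9a16430645a9b3, nat_lit 1, nat_lit 0xbda06981b579e2858c8c750a950832), (nat_lit 0xbb2ad449d07c69652cf3490a608860, nat_lit 0xb82cd185027b232351ca3d4b024d2b, nat_lit 1, nat_lit 0xbda06981b579e2858c8c750a950832), (nat_lit 0xbac548ca657b827b188862a091d5a0, nat_lit 0xbb1420064e995a94568b240e6b0e2f, nat_lit 1, nat_lit 0xbda06981b579e2858c8c750a950832), (nat_lit 0xba4b40c9a27ba2621ec8532ab1c260, nat_lit 0xbaa8f889c9b14f59206b640c0091b3, nat_lit 1, nat_lit 0xbda06981b579e2858c8c750a950832), (nat_lit 0xba60e8ca757d02c22ac33984b415a0, nat_lit 0xbba95904069c22b514e4b09034b1af, nat_lit 1, nat_lit 0xbda06981b579e2858c8c750a950832), (nat_lit 0xba2a9648d0790f3186966c4ae58940, nat_lit 0xbd5e402d859a9b23d1308a023708d6,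 nat_lit 1, nat_lit 0xbda06981b579e2858c8c750a950832), (nat_lit 0xbaca36c8227a26cb288e39aa9a4220, nat_lit 0xba4f268510b1a2222d549bdc305585, nat_lit 1, nat_lit 0xbda06981b579e2858c8c750a950832), (nat_lit 0xbae0708235799a3b212aa38a460a72, nat_lit 0xb906d9502ab40a74b2688d5e272c06, nat_lit 1, nat_lit 0xbda06981b579e2858c8c750a950832), (nat_lit 0xb9eb3a4870785093118db2caa889c0, nat_lit 0xb802e3beab2a1aa4d0719104685993, nat_lit 1, nat_lit 0xbda06981b579e2858c8c750a950832), (nat_lit 0xbce0eb01357d08c0aa2831cad18972, nat_lit 0xb9e8c754669a1af9054249171b1410, nat_lit 1, nat_lit 0xbda06981b579e2858c8c750a950832), (nat_lit 0xbae089ca3578da6b1c945304971420, nat_lit 0xba1a67cc31b10aa64a1400dd549d62, nat_lit 1, nat_lit 0xbda06981b579e2858c8c750a950832), (nat_lit 0xba4439ca257a1aa232ce31e0ba5420, nat_lit 0xbb1d02beca0a4513350404874a9d73, nat_lit 1, nat_lit 0xbda06981b579e2858c8c750a950832),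 (nat_lit 0xbdaaa082307b1ae5d08740c4931672, nat_lit 0xbac4a812657a02cb0e4e3d220336a9, nat_lit 1, nat_lit 0xbda06981b579e2858c8c750a950832), (nat_lit 0xb9aa1749107cc643a5515d8ac68a80, nat_lit 0xbd169acc0f2c227628724184e68496, nat_lit 1, nat_lit 0xbda06981b579e2858c8c750a950832), (nat_lit 0xbaeae0c9b07d22ab308331ca940a60, nat_lit 0xbc9e438a219a5b504154620a332dd6, nat_lit 1, nat_lit 0xbda06981b579e2858c8c750a950832), (nat_lit 0xb90ae9ca227d1a74996362ab644020, nat_lit 0xbc53514de85c02e1c9543808d332c5, nat_lit 1, nat_lit 0xbda06981b579e2858c8c750a950832), (nat_lit 0xb90480c9a578e2c4a97439a1675660, nat_lit 0xbc24c204662c553708e87ae9568136, nat_lit 1, nat_lit 0xbda06981b579e2858c8c750a950832), (nat_lit 0xbcea7b48907992808daca38b150960, nat_lit 0xb92ce4cc6b151808d512398aa83da1, nat_lit 1, nat_lit 0xbda06981b579e2858c8c750a950832), (nat_lit 0xbaeac981b07aa34b39261a04439432,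 nat_lit 0xbd5600a22fb11b282454199d351cac, nat_lit 1, nat_lit 0xbda06981b579e2858c8c750a950832), (nat_lit 0xbda030c9b57a2275992e62844a1660, nat_lit 0xbbc9054da92d22e102c63c981aa06b, nat_lit 1, nat_lit 0xbda06981b579e2858c8c750a950832), (nat_lit 0xbb6ae201707d2ca8b0283985319532, nat_lit 0xb9e6c4c9b6121d58c28b2bd4408cc0, nat_lit 1, nat_lit 0xbda06981b579e2858c8c750a950832), (nat_lit 0xba6a86c83078e6721ad4628ab70a20, nat_lit 0xba0a4a05af5b8d590d8982a603da22, nat_lit 1, nat_lit 0xbda06981b579e2858c8c750a950832), (nat_lit 0xbd8a88ca6278c2a5b13431ea4741a0, nat_lit 0xb890394c0679e35b40aa2258b751a1, nat_lit 1, nat_lit 0xbda06981b579e2858c8c750a950832), (nat_lit 0xb92a38ca707a02649d6e530b6a09a0, nat_lit 0xbc42034e8fb0c95730ea4416d91522, nat_lit 1, nat_lit 0xbda06981b579e2858c8c750a950832), (nat_lit 0xbaab11ca907b5cb658c1224a798900, nat_lit 0xbd0a344d561363581a493816e63c81,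 nat_lit 1, nat_lit 0xbda06981b579e2858c8c750a950832), (nat_lit 0xbd84e6c8257d26659d235320445620, nat_lit 0xbadb094c67154097d0ac311c144556, nat_lit 1, nat_lit 0xbda06981b579e2858c8c750a950832), (nat_lit 0xbd2b63c9507ad8d74509984a3208c0, nat_lit 0xb99f42061310db1555c74c8ac42c16, nat_lit 1, nat_lit 0xbda06981b579e2858c8c750a950832), (nat_lit 0xbbaab349907d951a34640cca8488e0, nat_lit 0xb8de7358855aaa9741a0650528cd01, nat_lit 1, nat_lit 0xbda06981b579e2858c8c750a950832), (nat_lit 0xb8ea4548f07a4c144dcb8b4b4b0980, nat_lit 0xbca63a58825a1aea99904c5ea004e5, nat_lit 1, nat_lit 0xbda06981b579e2858c8c750a950832), (nat_lit 0xb8614580957b92a9b1a3398b140ad2, nat_lit 0xba88b951a9994ec021d00bed1a8866, nat_lit 1, nat_lit 0xbda06981b579e2858c8c750a950832), (nat_lit 0xbc6b4482d07b96c6aa6331c4141492, nat_lit 0xbc6d3a11a50bd0262cd03b860aaa49, nat_lit 1, nat_lit 0xbda06981b579e2858c8c750a950832),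 (nat_lit 0xbb6ac4c9707aad48ba6740ca130880, nat_lit 0xb90a072da27d5328c0e860c2655a93, nat_lit 1, nat_lit 0xbda06981b579e2858c8c750a950832), (nat_lit 0xbc6aa24ad07b16e6d0261a0b338920, nat_lit 0xbc664185a2b19d43a415640aa43e4b, nat_lit 1, nat_lit 0xbda06981b579e2858c8c750a950832), (nat_lit 0xb86a65c93079c839a22a750ad60ac0, nat_lit 0xb80a848ab3b1e2622a037316da3e41, nat_lit 1, nat_lit 0xbda06981b579e2858c8c750a950832)], [(nat_lit 1, nat_lit 1, nat_lit 0), (nat_lit 0, nat_lit 2, nat_lit 0), (nat_lit 1, nat_lit 2, nat_lit 0), (nat_lit 0, nat_lit 0, nat_lit 2), (nat_lit 0, nat_lit 1, nat_lit 0), (nat_lit 0, nat_lit 4, nat_lit 0), (nat_lit 0, nat_lit 5, nat_lit 0), (nat_lit 0, nat_lit 4, nat_lit 0), (nat_lit 0, nat_lit 7, nat_lit 0), (nat_lit 0, nat_lit 8, nat_lit 0), (nat_lit 0, nat_lit 9, nat_lit 0), (nat_lit 0, nat_lit 8, nat_lit 8), (nat_lit 0, nat_lit 11, nat_lit 0),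 (nat_lit 0, nat_lit 12, nat_lit 0), (nat_lit 0, nat_lit 11, nat_lit 0), (nat_lit 0, nat_lit 12, nat_lit 0), (nat_lit 0, nat_lit 13, nat_lit 0), (nat_lit 0, nat_lit 14, nat_lit 0), (nat_lit 0, nat_lit 17, nat_lit 0), (nat_lit 0, nat_lit 16, nat_lit 0), (nat_lit 0, nat_lit 19, nat_lit 19), (nat_lit 0, nat_lit 18, nat_lit 0), (nat_lit 0, nat_lit 19, nat_lit 0), (nat_lit 0, nat_lit 22, nat_lit 0), (nat_lit 0, nat_lit 21, nat_lit 0), (nat_lit 0, nat_lit 22, nat_lit 0), (nat_lit 0, nat_lit 23, nat_lit 0), (nat_lit 0, nat_lit 24, nat_lit 0), (nat_lit 0, nat_lit 25, nat_lit 0), (nat_lit 0, nat_lit 26, nat_lit 0), (nat_lit 0, nat_lit 29, nat_lit 0), (nat_lit 0, nat_lit 30, nat_lit 27), (nat_lit 0, nat_lit 29, nat_lit 0), (nat_lit 0, nat_lit 32, nat_lit 0), (nat_lit 0, nat_lit 33, nat_lit 0), (nat_lit 0, nat_lit 34, nat_lit 0), (nat_lit 0, nat_lit 35, nat_lit 0), (nat_lit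 0, nat_lit 36, nat_lit 0), (nat_lit 0, nat_lit 37, nat_lit 0), (nat_lit 0, nat_lit 36, nat_lit 0), (nat_lit 0, nat_lit 39, nat_lit 0), (nat_lit 0, nat_lit 38, nat_lit 29), (nat_lit 0, nat_lit 39, nat_lit 0), (nat_lit 0, nat_lit 42, nat_lit 0), (nat_lit 0, nat_lit 43, nat_lit 0), (nat_lit 0, nat_lit 42, nat_lit 0), (nat_lit 0, nat_lit 45, nat_lit 0), (nat_lit 0, nat_lit 44, nat_lit 0), (nat_lit 0, nat_lit 47, nat_lit 0), (nat_lit 0, nat_lit 48, nat_lit 0), (nat_lit 0, nat_lit 47, nat_lit 45), (nat_lit 0, nat_lit 48, nat_lit 0), (nat_lit 0, nat_lit 49, nat_lit 0), (nat_lit 0, nat_lit 50, nat_lit 0), (nat_lit 0, nat_lit 53, nat_lit 0), (nat_lit 0, nat_lit 52, nat_lit 0), (nat_lit 0, nat_lit 53, nat_lit 0), (nat_lit 0, nat_lit 56, nat_lit 0), (nat_lit 0, nat_lit 57, nat_lit 0), (nat_lit 0, nat_lit 58, nat_lit 0), (nat_lit 0, nat_lit 57, nat_lit 47), (nat_lit 0, nat_lit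 60, nat_lit 0), (nat_lit 0, nat_lit 61, nat_lit 0), (nat_lit 0, nat_lit 62, nat_lit 0), (nat_lit 0, nat_lit 61, nat_lit 0), (nat_lit 0, nat_lit 64, nat_lit 0), (nat_lit 0, nat_lit 65, nat_lit 63), (nat_lit 0, nat_lit 66, nat_lit 0), (nat_lit 0, nat_lit 67, nat_lit 0), (nat_lit 0, nat_lit 66, nat_lit 0), (nat_lit 0, nat_lit 67, nat_lit 0), (nat_lit 0, nat_lit 68, nat_lit 0), (nat_lit 0, nat_lit 71, nat_lit 0), (nat_lit 0, nat_lit 72, nat_lit 41), (nat_lit 0, nat_lit 71, nat_lit 0), (nat_lit 0, nat_lit 72, nat_lit 0), (nat_lit 0, nat_lit 75, nat_lit 0), (nat_lit 0, nat_lit 76, nat_lit 0), (nat_lit 0, nat_lit 75, nat_lit 0), (nat_lit 0, nat_lit 76, nat_lit 0), (nat_lit 0, nat_lit 77, nat_lit 0), (nat_lit 0, nat_lit 80, nat_lit 6), (nat_lit 0, nat_lit 81, nat_lit 0), (nat_lit 0, nat_lit 82, nat_lit 0), (nat_lit 0, nat_lit 81, nat_lit 0), (nat_lit 0, nat_lit 82, nat_lit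 0), (nat_lit 0, nat_lit 85, nat_lit 0), (nat_lit 0, nat_lit 84, nat_lit 0), (nat_lit 0, nat_lit 87, nat_lit 0), (nat_lit 0, nat_lit 86, nat_lit 45), (nat_lit 0, nat_lit 89, nat_lit 0), (nat_lit 0, nat_lit 88, nat_lit 0), (nat_lit 0, nat_lit 89, nat_lit 0), (nat_lit 0, nat_lit 92, nat_lit 0), (nat_lit 0, nat_lit 91, nat_lit 0), (nat_lit 0, nat_lit 92, nat_lit 0), (nat_lit 0, nat_lit 93, nat_lit 28), (nat_lit 0, nat_lit 94, nat_lit 0), (nat_lit 0, nat_lit 97, nat_lit 0), (nat_lit 0, nat_lit 96, nat_lit 0), (nat_lit 0, nat_lit 99, nat_lit 0), (nat_lit 0, nat_lit 100, nat_lit 0), (nat_lit 0, nat_lit 101, nat_lit 0), (nat_lit 0, nat_lit 100, nat_lit 0), (nat_lit 0, nat_lit 101, nat_lit 0), (nat_lit 0, nat_lit 102, nat_lit 38), (nat_lit 0, nat_lit 103, nat_lit 0), (nat_lit 0, nat_lit 106, nat_lit 0), (nat_lit 0, nat_lit 107, nat_lit 0), (nat_lit 0, nat_lit 106, nat_lit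 0), (nat_lit 0, nat_lit 109, nat_lit 0), (nat_lit 0, nat_lit 110, nat_lit 0), (nat_lit 0, nat_lit 111, nat_lit 0), (nat_lit 0, nat_lit 110, nat_lit 90), (nat_lit 0, nat_lit 111, nat_lit 0), (nat_lit 0, nat_lit 112, nat_lit 0), (nat_lit 0, nat_lit 113, nat_lit 0), (nat_lit 0, nat_lit 116, nat_lit 0), (nat_lit 0, nat_lit 117, nat_lit 0), (nat_lit 0, nat_lit 118, nat_lit 45), (nat_lit 0, nat_lit 117, nat_lit 0), (nat_lit 0, nat_lit 120, nat_lit 0), (nat_lit 0, nat_lit 119, nat_lit 0), (nat_lit 0, nat_lit 122, nat_lit 0), (nat_lit 0, nat_lit 121, nat_lit 0), (nat_lit 0, nat_lit 122, nat_lit 0), (nat_lit 0, nat_lit 123, nat_lit 0), (nat_lit 0, nat_lit 126, nat_lit 0), (nat_lit 0, nat_lit 127, nat_lit 8), (nat_lit 0, nat_lit 126, nat_lit 0), (nat_lit 0, nat_lit 129, nat_lit 0), (nat_lit 0, nat_lit 128, nat_lit 0), (nat_lit 0, nat_lit 131, nat_lit 0), (nat_lit 0, nat_lit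 132, nat_lit 27), (nat_lit 0, nat_lit 133, nat_lit 0), (nat_lit 0, nat_lit 134, nat_lit 0), (nat_lit 0, nat_lit 133, nat_lit 0), (nat_lit 0, nat_lit 134, nat_lit 0), (nat_lit 0, nat_lit 135, nat_lit 0), (nat_lit 0, nat_lit 138, nat_lit 0), (nat_lit 0, nat_lit 139, nat_lit 0), (nat_lit 0, nat_lit 138, nat_lit 0), (nat_lit 0, nat_lit 141, nat_lit 90), (nat_lit 0, nat_lit 140, nat_lit 0), (nat_lit 0, nat_lit 141, nat_lit 0), (nat_lit 0, nat_lit 144, nat_lit 0), (nat_lit 0, nat_lit 145, nat_lit 0), (nat_lit 0, nat_lit 144, nat_lit 37), (nat_lit 0, nat_lit 145, nat_lit 0), (nat_lit 0, nat_lit 146, nat_lit 0), (nat_lit 0, nat_lit 149, nat_lit 0), (nat_lit 0, nat_lit 148, nat_lit 88), (nat_lit 0, nat_lit 149, nat_lit 0), (nat_lit 0, nat_lit 150, nat_lit 0), (nat_lit 0, nat_lit 153, nat_lit 0), (nat_lit 0, nat_lit 154, nat_lit 85), (nat_lit 0, nat_lit 155, nat_lit 0), (nat_lit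 0, nat_lit 154, nat_lit 0), (nat_lit 0, nat_lit 157, nat_lit 0), (nat_lit 0, nat_lit 158, nat_lit 0), (nat_lit 0, nat_lit 159, nat_lit 17), (nat_lit 0, nat_lit 158, nat_lit 0), (nat_lit 0, nat_lit 159, nat_lit 0), (nat_lit 0, nat_lit 160, nat_lit 0), (nat_lit 0, nat_lit 163, nat_lit 0), (nat_lit 0, nat_lit 162, nat_lit 0), (nat_lit 0, nat_lit 163, nat_lit 59), (nat_lit 0, nat_lit 166, nat_lit 0), (nat_lit 0, nat_lit 165, nat_lit 0), (nat_lit 0, nat_lit 168, nat_lit 0), (nat_lit 0, nat_lit 167, nat_lit 0), (nat_lit 0, nat_lit 168, nat_lit 0), (nat_lit 0, nat_lit 169, nat_lit 0), (nat_lit 0, nat_lit 170, nat_lit 0), (nat_lit 0, nat_lit 173, nat_lit 132), (nat_lit 0, nat_lit 174, nat_lit 0), (nat_lit 0, nat_lit 173, nat_lit 0), (nat_lit 0, nat_lit 176, nat_lit 0), (nat_lit 0, nat_lit 177, nat_lit 0), (nat_lit 0, nat_lit 178, nat_lit 6), (nat_lit 0, nat_lit 179, nat_lit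 0), (nat_lit 0, nat_lit 178, nat_lit 70), (nat_lit 0, nat_lit 181, nat_lit 163), (nat_lit 0, nat_lit 182, nat_lit 0), (nat_lit 0, nat_lit 183, nat_lit 87), (nat_lit 0, nat_lit 184, nat_lit 0), (nat_lit 0, nat_lit 185, nat_lit 0), (nat_lit 0, nat_lit 184, nat_lit 0), (nat_lit 0, nat_lit 187, nat_lit 0), (nat_lit 0, nat_lit 186, nat_lit 0), (nat_lit 0, nat_lit 187, nat_lit 0), (nat_lit 0, nat_lit 188, nat_lit 0), (nat_lit 0, nat_lit 191, nat_lit 40), (nat_lit 0, nat_lit 192, nat_lit 0), (nat_lit 0, nat_lit 193, nat_lit 0), (nat_lit 0, nat_lit 194, nat_lit 0), (nat_lit 0, nat_lit 195, nat_lit 0), (nat_lit 0, nat_lit 196, nat_lit 68), (nat_lit 0, nat_lit 195, nat_lit 0), (nat_lit 0, nat_lit 198, nat_lit 0), (nat_lit 0, nat_lit 197, nat_lit 0), (nat_lit 0, nat_lit 200, nat_lit 0), (nat_lit 0, nat_lit 201, nat_lit 133), (nat_lit 0, nat_lit 200, nat_lit 0), (nat_lit 0,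 nat_lit 201, nat_lit 0), (nat_lit 0, nat_lit 202, nat_lit 0), (nat_lit 0, nat_lit 205, nat_lit 0), (nat_lit 0, nat_lit 204, nat_lit 0), (nat_lit 0, nat_lit 207, nat_lit 0), (nat_lit 0, nat_lit 208, nat_lit 0), (nat_lit 0, nat_lit 207, nat_lit 0), (nat_lit 0, nat_lit 208, nat_lit 94)]⟩

def m23_P1_T : List Nat := [nat_lit 0xbc2b470a69245eb0aad22986d3a180, nat_lit 0xbd954789b039061619329d5c58a160]
def m23_P1_prog : List (Nat × Nat × Nat) := [(nat_lit 1, nat_lit 1, nat_lit 0), (nat_lit 0, nat_lit 2, nat_lit 2), (nat_lit 0, nat_lit 0, nat_lit 2), (nat_lit 0, nat_lit 0, nat_lit 4), (nat_lit 0, nat_lit 0, nat_lit 4), (nat_lit 0, nat_lit 4, nat_lit 0)]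
def m23_P1_s0 : Nat := nat_lit 0xbc2b470a69245eb0aad22986d3a180
def m23_P1_s1 : Nat := nat_lit 0xba4d4188b689dcc5d6126a9f322020
noncomputable def m23_P1_lev0 : Core.Lev := Core.mkLev m23_n m23_w m23_mask m23_L m23_maskL m23_idc (nat_lit 1) [m23_P1_s1, m23_P1_s0] [(nat_lit 12, m23_P1_s0, nat_lit 1), (nat_lit 11, m23_P1_s0, nat_lit 12)]
noncomputable def m23_P1_lev1 : Core.Lev := Core.mkLev m23_n m23_w m23_mask m23_L m23_maskL m23_idc (nat_lit 2) [m23_P1_s1] [(nat_lit 8, m23_P1_s1, nat_lit 2), (nat_lit 18, m23_P1_s1, nat_lit 8)]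
noncomputable def m23_P1_levels : List Core.Lev := [m23_P1_lev0, m23_P1_lev1]

noncomputable def m23_P1_cert : Simple.SylCert := ⟨nat_lit 3, nat_lit 9, m23_P1_T, m23_P1_prog, m23_P1_levels, [nat_lit 0xbdab49ca307b9ac5a928398a418820], [(nat_lit 0xbc2b470a69245eb0aad22986d3a180, nat_lit 0xbdab49ca307b9ac5a928398a418820, nat_lit 1, nat_lit 0xbc2b470a69245eb0aad22986d3a180), (nat_lit 0xbd954789b039061619329d5c58a160, nat_lit 0xbd466831aa4c5e291e81b15d322d00, nat_lit 1, nat_lit 0xbc2b470a69245eb0aad22986d3a180), (nat_lit 0xba6b48a1d66cc8162a02198ef2c960, nat_lit 0xba140239a24bec15d251198b03cd95, nat_lit 1, nat_lit 0xbc2b470a69245eb0aad22986d3a180), (nat_lit 0xbc154221e92b4ec59ac2756239c820, nat_lit 0xbd82670c906c8550312742df199554, nat_lit 1, nat_lit 0xbc2b470a69245eb0aad22986d3a180), (nat_lit 0xbd8d43a0709962b0d5227a88e6c980, nat_lit 0xbaa35b32404bd072ba8b84c8d10466,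 nat_lit 1, nat_lit 0xbc2b470a69245eb0aad22986d3a180), (nat_lit 0xba5546c8961bcab09a088d66770980, nat_lit 0xb86206a86b4c1e244d862b887b5255, nat_lit 1, nat_lit 0xbc2b470a69245eb0aad22986d3a180), (nat_lit 0xbc0d42c8e970e61656c8229b178960, nat_lit 0xb84954d06c44a1173d663b6c51026a, nat_lit 1, nat_lit 0xbc2b470a69245eb0aad22986d3a180), (nat_lit 0xba4d4188b689dcc5d6126a9f322020, nat_lit 0xbb420489c498cb432df23b230b22aa, nat_lit 1, nat_lit 0xbc2b470a69245eb0aad22986d3a180)], [(nat_lit 1, nat_lit 1, nat_lit 0), (nat_lit 0, nat_lit 2, nat_lit 0), (nat_lit 1, nat_lit 2, nat_lit 0), (nat_lit 0, nat_lit 2, nat_lit 0), (nat_lit 0, nat_lit 1, nat_lit 0), (nat_lit 0, nat_lit 2, nat_lit 0), (nat_lit 0, nat_lit 5, nat_lit 0), (nat_lit 0, nat_lit 6, nat_lit 0), (nat_lit 0, nat_lit 5, nat_lit 0), (nat_lit 0, nat_lit 6, nat_lit 0), (nat_lit 0, nat_lit 9, nat_lit 0), (nat_lit 0, nat_lit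 10, nat_lit 0), (nat_lit 0, nat_lit 11, nat_lit 0), (nat_lit 0, nat_lit 12, nat_lit 0), (nat_lit 0, nat_lit 13, nat_lit 0), (nat_lit 0, nat_lit 14, nat_lit 14), (nat_lit 0, nat_lit 15, nat_lit 0), (nat_lit 0, nat_lit 14, nat_lit 0), (nat_lit 0, nat_lit 17, nat_lit 0), (nat_lit 0, nat_lit 16, nat_lit 0), (nat_lit 0, nat_lit 19, nat_lit 0), (nat_lit 0, nat_lit 20, nat_lit 0), (nat_lit 0, nat_lit 21, nat_lit 0), (nat_lit 0, nat_lit 22, nat_lit 0), (nat_lit 0, nat_lit 23, nat_lit 0), (nat_lit 0, nat_lit 24, nat_lit 0), (nat_lit 0, nat_lit 25, nat_lit 22), (nat_lit 0, nat_lit 24, nat_lit 0), (nat_lit 0, nat_lit 27, nat_lit 0), (nat_lit 0, nat_lit 28, nat_lit 0), (nat_lit 0, nat_lit 29, nat_lit 0), (nat_lit 0, nat_lit 28, nat_lit 0), (nat_lit 0, nat_lit 31, nat_lit 0), (nat_lit 0, nat_lit 30, nat_lit 0), (nat_lit 0, nat_lit 31, nat_lit 0), (nat_lit 0, nat_lit 34, nat_lit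 0), (nat_lit 0, nat_lit 33, nat_lit 0), (nat_lit 0, nat_lit 34, nat_lit 21), (nat_lit 0, nat_lit 37, nat_lit 0), (nat_lit 0, nat_lit 36, nat_lit 0), (nat_lit 0, nat_lit 37, nat_lit 0), (nat_lit 0, nat_lit 38, nat_lit 0), (nat_lit 0, nat_lit 41, nat_lit 0), (nat_lit 0, nat_lit 40, nat_lit 0), (nat_lit 0, nat_lit 43, nat_lit 0), (nat_lit 0, nat_lit 44, nat_lit 0), (nat_lit 0, nat_lit 43, nat_lit 0), (nat_lit 0, nat_lit 46, nat_lit 0), (nat_lit 0, nat_lit 47, nat_lit 40), (nat_lit 0, nat_lit 46, nat_lit 0), (nat_lit 0, nat_lit 47, nat_lit 0), (nat_lit 0, nat_lit 48, nat_lit 0), (nat_lit 0, nat_lit 51, nat_lit 0), (nat_lit 0, nat_lit 52, nat_lit 0), (nat_lit 0, nat_lit 51, nat_lit 16), (nat_lit 0, nat_lit 52, nat_lit 0), (nat_lit 0, nat_lit 53, nat_lit 0), (nat_lit 0, nat_lit 56, nat_lit 0), (nat_lit 0, nat_lit 55, nat_lit 0), (nat_lit 0, nat_lit 58, nat_lit 0), (nat_lit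 0, nat_lit 57, nat_lit 0), (nat_lit 0, nat_lit 60, nat_lit 0), (nat_lit 0, nat_lit 59, nat_lit 0), (nat_lit 0, nat_lit 62, nat_lit 0), (nat_lit 0, nat_lit 63, nat_lit 0), (nat_lit 0, nat_lit 62, nat_lit 0), (nat_lit 0, nat_lit 63, nat_lit 0), (nat_lit 0, nat_lit 64, nat_lit 0), (nat_lit 0, nat_lit 65, nat_lit 0), (nat_lit 0, nat_lit 66, nat_lit 66), (nat_lit 0, nat_lit 69, nat_lit 0), (nat_lit 0, nat_lit 68, nat_lit 0), (nat_lit 0, nat_lit 69, nat_lit 0), (nat_lit 0, nat_lit 70, nat_lit 0), (nat_lit 0, nat_lit 73, nat_lit 0), (nat_lit 0, nat_lit 74, nat_lit 0), (nat_lit 0, nat_lit 73, nat_lit 0), (nat_lit 0, nat_lit 76, nat_lit 0), (nat_lit 0, nat_lit 75, nat_lit 0), (nat_lit 0, nat_lit 76, nat_lit 0), (nat_lit 0, nat_lit 79, nat_lit 0), (nat_lit 0, nat_lit 78, nat_lit 0), (nat_lit 0, nat_lit 81, nat_lit 0), (nat_lit 0, nat_lit 82, nat_lit 0)]⟩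

def m23_P2_T : List Nat := [nat_lit 0xbbe55981656c4d44392a38470112cc]
def m23_P2_prog : List (Nat × Nat × Nat) := []
def m23_P2_s0 : Nat := nat_lit 0xbbe55981656c4d44392a38470112cc
noncomputable def m23_P2_lev0 : Core.Lev := Core.mkLev m23_n m23_w m23_mask m23_L m23_maskL m23_idc (nat_lit 0) [m23_P2_s0] [(nat_lit 12, m23_P2_s0, nat_lit 0), (nat_lit 20, m23_P2_s0, nat_lit 12), (nat_lit 21, m23_P2_s0, nat_lit 20), (nat_lit 18, m23_P2_s0, nat_lit 21)]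
noncomputable def m23_P2_levels : List Core.Lev := [m23_P2_lev0]

noncomputable def m23_P2_cert : Simple.SylCert := ⟨nat_lit 5, nat_lit 5, m23_P2_T, m23_P2_prog, m23_P2_levels, [nat_lit 0xbdab49ca307b9ac5a928398a418820], [(nat_lit 0xbbe55981656c4d44392a38470112cc, nat_lit 0xbdab49ca307b9ac5a928398a418820, nat_lit 1, nat_lit 0xbbe55981656c4d44392a38470112cc), (nat_lit 0xbb4129b10332c355452e3d845241f4, nat_lit 0xbb48598e32b20c2538eb4be8c05430, nat_lit 1, nat_lit 0xbbe55981656c4d44392a38470112cc), (nat_lit 0xb99809d1420a2d272d313bc83815b5, nat_lit 0xb84a4989557acc38b8e84d80ca49b0, nat_lit 1, nat_lit 0xbbe55981656c4d44392a38470112cc), (nat_lit 0xb868c9d5c4b29e08a12b3b60228cd2, nat_lit 0xbd4623950da29845ba71481e6b0650, nat_lit 1, nat_lit 0xbbe55981656c4d44392a38470112cc)], [(nat_lit 1, nat_lit 1, nat_lit 0), (nat_lit 0, nat_lit 2, nat_lit 0), (nat_lit 0, nat_lit 1, nat_lit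 1), (nat_lit 0, nat_lit 2, nat_lit 0), (nat_lit 0, nat_lit 3, nat_lit 0), (nat_lit 1, nat_lit 5, nat_lit 0), (nat_lit 0, nat_lit 0, nat_lit 1), (nat_lit 0, nat_lit 6, nat_lit 0), (nat_lit 0, nat_lit 7, nat_lit 0), (nat_lit 0, nat_lit 3, nat_lit 0), (nat_lit 0, nat_lit 4, nat_lit 0), (nat_lit 0, nat_lit 5, nat_lit 0), (nat_lit 0, nat_lit 11, nat_lit 0), (nat_lit 0, nat_lit 12, nat_lit 0), (nat_lit 0, nat_lit 13, nat_lit 0), (nat_lit 0, nat_lit 14, nat_lit 0), (nat_lit 0, nat_lit 10, nat_lit 0), (nat_lit 0, nat_lit 11, nat_lit 0), (nat_lit 0, nat_lit 12, nat_lit 15), (nat_lit 0, nat_lit 13, nat_lit 0), (nat_lit 0, nat_lit 19, nat_lit 0), (nat_lit 0, nat_lit 15, nat_lit 0), (nat_lit 0, nat_lit 16, nat_lit 0), (nat_lit 0, nat_lit 22, nat_lit 0), (nat_lit 0, nat_lit 23, nat_lit 0), (nat_lit 0, nat_lit 19, nat_lit 0), (nat_lit 0, nat_lit 25, nat_lit 0), (nat_lit 0, nat_lit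 26, nat_lit 0), (nat_lit 0, nat_lit 22, nat_lit 0), (nat_lit 0, nat_lit 23, nat_lit 0), (nat_lit 0, nat_lit 29, nat_lit 0), (nat_lit 0, nat_lit 25, nat_lit 0), (nat_lit 0, nat_lit 26, nat_lit 0), (nat_lit 0, nat_lit 27, nat_lit 0), (nat_lit 0, nat_lit 33, nat_lit 28), (nat_lit 0, nat_lit 34, nat_lit 0), (nat_lit 0, nat_lit 35, nat_lit 0), (nat_lit 0, nat_lit 31, nat_lit 0), (nat_lit 0, nat_lit 32, nat_lit 0), (nat_lit 0, nat_lit 38, nat_lit 0), (nat_lit 0, nat_lit 34, nat_lit 0), (nat_lit 0, nat_lit 40, nat_lit 0), (nat_lit 0, nat_lit 36, nat_lit 0), (nat_lit 0, nat_lit 37, nat_lit 0), (nat_lit 0, nat_lit 43, nat_lit 0), (nat_lit 0, nat_lit 39, nat_lit 0), (nat_lit 0, nat_lit 40, nat_lit 0), (nat_lit 0, nat_lit 41, nat_lit 0), (nat_lit 0, nat_lit 47, nat_lit 0), (nat_lit 0, nat_lit 43, nat_lit 0), (nat_lit 0, nat_lit 49, nat_lit 0), (nat_lit 0, nat_lit 50, nat_lit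 0), (nat_lit 0, nat_lit 51, nat_lit 0)]⟩

def m23_P3_T : List Nat := [nat_lit 0xbda13044839328babd25539a1320e2]
def m23_P3_prog : List (Nat × Nat × Nat) := []
def m23_P3_s0 : Nat := nat_lit 0xbda13044839328babd25539a1320e2
noncomputable def m23_P3_lev0 : Core.Lev := Core.mkLev m23_n m23_w m23_mask m23_L m23_maskL m23_idc (nat_lit 0) [m23_P3_s0] [(nat_lit 2, m23_P3_s0, nat_lit 0), (nat_lit 8, m23_P3_s0, nat_lit 2), (nat_lit 5, m23_P3_s0, nat_lit 8), (nat_lit 13, m23_P3_s0, nat_lit 5), (nat_lit 20, m23_P3_s0, nat_lit 13), (nat_lit 19, m23_P3_s0, nat_lit 20)]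
noncomputable def m23_P3_levels : List Core.Lev := [m23_P3_lev0]

noncomputable def m23_P3_cert : Simple.SylCert := ⟨nat_lit 7, nat_lit 7, m23_P3_T, m23_P3_prog, m23_P3_levels, [nat_lit 0xbdab49ca307b9ac5a928398a418820], [(nat_lit 0xbda13044839328babd25539a1320e2, nat_lit 0xbdab49ca307b9ac5a928398a418820, nat_lit 1, nat_lit 0xbda13044839328babd25539a1320e2), (nat_lit 0xbd860110268ae758492d7b28771548, nat_lit 0xbd968991e65428c1c52d3b841a8245, nat_lit 1, nat_lit 0xbda13044839328babd25539a1320e2), (nat_lit 0xbd8c2404ee254101c53492e6a635e5, nat_lit 0xbd968991e65428c1c52d3b841a8245, nat_lit 3, nat_lit 0xbda13044839328babd25539a1320e2), (nat_lit 0xbd9c829d4c0c043311338d40f5d24d, nat_lit 0xbd86d9854e8990cabd343c01259482, nat_lit 1, nat_lit 0xbda13044839328babd25539a1320e2), (nat_lit 0xbd9856a9eb38d067052024052ace34, nat_lit 0xbdab49ca307b9ac5a928398a418820, nat_lit 3,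 nat_lit 0xbda13044839328babd25539a1320e2), (nat_lit 0xbd96da3e55518ae61d2208d1180093, nat_lit 0xbd86d9854e8990cabd343c01259482, nat_lit 3, nat_lit 0xbda13044839328babd25539a1320e2)], [(nat_lit 1, nat_lit 1, nat_lit 0), (nat_lit 0, nat_lit 2, nat_lit 0), (nat_lit 0, nat_lit 1, nat_lit 1), (nat_lit 1, nat_lit 3, nat_lit 0), (nat_lit 0, nat_lit 0, nat_lit 1), (nat_lit 0, nat_lit 4, nat_lit 0), (nat_lit 0, nat_lit 5, nat_lit 0), (nat_lit 0, nat_lit 3, nat_lit 0), (nat_lit 0, nat_lit 4, nat_lit 0), (nat_lit 0, nat_lit 8, nat_lit 0), (nat_lit 0, nat_lit 6, nat_lit 0), (nat_lit 0, nat_lit 10, nat_lit 0), (nat_lit 0, nat_lit 11, nat_lit 0), (nat_lit 0, nat_lit 9, nat_lit 0), (nat_lit 0, nat_lit 13, nat_lit 10), (nat_lit 0, nat_lit 11, nat_lit 0), (nat_lit 0, nat_lit 15, nat_lit 0), (nat_lit 0, nat_lit 13, nat_lit 0), (nat_lit 0, nat_lit 14, nat_lit 0), (nat_lit 0, nat_lit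 15, nat_lit 0), (nat_lit 0, nat_lit 19, nat_lit 0), (nat_lit 0, nat_lit 20, nat_lit 0), (nat_lit 0, nat_lit 21, nat_lit 0), (nat_lit 0, nat_lit 22, nat_lit 0), (nat_lit 0, nat_lit 20, nat_lit 0), (nat_lit 0, nat_lit 21, nat_lit 0), (nat_lit 0, nat_lit 25, nat_lit 0), (nat_lit 0, nat_lit 23, nat_lit 0), (nat_lit 0, nat_lit 24, nat_lit 0), (nat_lit 0, nat_lit 25, nat_lit 0), (nat_lit 0, nat_lit 29, nat_lit 0), (nat_lit 0, nat_lit 30, nat_lit 0)]⟩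

def m23_P4_T : List Nat := [nat_lit 0xb98112c983a5a0913553205d55bce8]
def m23_P4_prog : List (Nat × Nat × Nat) := []
def m23_P4_s0 : Nat := nat_lit 0xb98112c983a5a0913553205d55bce8
noncomputable def m23_P4_lev0 : Core.Lev := Core.mkLev m23_n m23_w m23_mask m23_L m23_maskL m23_idc (nat_lit 0) [m23_P4_s0] [(nat_lit 8, m23_P4_s0, nat_lit 0), (nat_lit 19, m23_P4_s0, nat_lit 8), (nat_lit 5, m23_P4_s0, nat_lit 19), (nat_lit 14, m23_P4_s0, nat_lit 5), (nat_lit 22, m23_P4_s0, nat_lit 14), (nat_lit 6, m23_P4_s0, nat_lit 22), (nat_lit 1, m23_P4_s0, nat_lit 6), (nat_lit 7, m23_P4_s0, nat_lit 1), (nat_lit 4, m23_P4_s0, nat_lit 7), (nat_lit 21, m23_P4_s0, nat_lit 4)]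
noncomputable def m23_P4_levels : List Core.Lev := [m23_P4_lev0]

noncomputable def m23_P4_cert : Simple.SylCert := ⟨nat_lit 11, nat_lit 11, m23_P4_T, m23_P4_prog, m23_P4_levels, [nat_lit 0xbdab49ca307b9ac5a928398a418820], [(nat_lit 0xb98112c983a5a0913553205d55bce8, nat_lit 0xbdab49ca307b9ac5a928398a418820, nat_lit 1, nat_lit 0xb98112c983a5a0913553205d55bce8), (nat_lit 0xb850c7492b8986a7c1a5a9ec015093, nat_lit 0xb8403249e953a8c12da6b550784665, nat_lit 2, nat_lit 0xb98112c983a5a0913553205d55bce8), (nat_lit 0xb9e69b49426056da0e0e010c87c6a5, nat_lit 0xb9ccd0c8438b92c53e0522013a2ed5, nat_lit 1, nat_lit 0xb98112c983a5a0913553205d55bce8), (nat_lit 0xb90aa349af49c508ac7645433a300e, nat_lit 0xb8403249e953a8c12da6b550784665, nat_lit 1, nat_lit 0xb98112c983a5a0913553205d55bce8), (nat_lit 0xbd5cd0ca14511e360966980e58a516, nat_lit 0xba26d0c92a19611a2de4356ce608e0, nat_lit 1,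 nat_lit 0xb98112c983a5a0913553205d55bce8), (nat_lit 0xb82d03c8716d68b4bc412a08e62a66, nat_lit 0xbdab49ca307b9ac5a928398a418820, nat_lit 2, nat_lit 0xb98112c983a5a0913553205d55bce8), (nat_lit 0xba0c32496c80222551e774eb64b4a1, nat_lit 0xb9ccd0c8438b92c53e0522013a2ed5, nat_lit 2, nat_lit 0xb98112c983a5a0913553205d55bce8), (nat_lit 0xbcc2bac8491a18f6c684b1406541c7, nat_lit 0xba26d0c92a19611a2de4356ce608e0, nat_lit 2, nat_lit 0xb98112c983a5a0913553205d55bce8), (nat_lit 0xb94e2049ea5cd34832353390168ec4, nat_lit 0xbcec324a2a61df04b68e304a012d15, nat_lit 1, nat_lit 0xb98112c983a5a0913553205d55bce8), (nat_lit 0xbb88f44a8d115511a5800da6782cd5, nat_lit 0xbcec324a2a61df04b68e304a012d15, nat_lit 2, nat_lit 0xb98112c983a5a0913553205d55bce8)], [(nat_lit 1, nat_lit 1, nat_lit 0), (nat_lit 0, nat_lit 2, nat_lit 0), (nat_lit 1, nat_lit 2, nat_lit 0), (nat_lit 0, nat_lit 0, nat_lit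 2), (nat_lit 0, nat_lit 1, nat_lit 0), (nat_lit 0, nat_lit 2, nat_lit 0), (nat_lit 0, nat_lit 3, nat_lit 0), (nat_lit 0, nat_lit 6, nat_lit 0), (nat_lit 0, nat_lit 5, nat_lit 0), (nat_lit 0, nat_lit 8, nat_lit 0), (nat_lit 0, nat_lit 7, nat_lit 0), (nat_lit 0, nat_lit 10, nat_lit 0), (nat_lit 0, nat_lit 11, nat_lit 0), (nat_lit 0, nat_lit 12, nat_lit 0), (nat_lit 0, nat_lit 11, nat_lit 0), (nat_lit 0, nat_lit 14, nat_lit 0), (nat_lit 0, nat_lit 13, nat_lit 0), (nat_lit 0, nat_lit 14, nat_lit 0), (nat_lit 0, nat_lit 17, nat_lit 0), (nat_lit 0, nat_lit 18, nat_lit 0), (nat_lit 0, nat_lit 19, nat_lit 0), (nat_lit 0, nat_lit 20, nat_lit 0), (nat_lit 0, nat_lit 21, nat_lit 18), (nat_lit 0, nat_lit 22, nat_lit 0), (nat_lit 0, nat_lit 21, nat_lit 0), (nat_lit 0, nat_lit 24, nat_lit 0), (nat_lit 0, nat_lit 25, nat_lit 0), (nat_lit 0, nat_lit 26, nat_lit 0), (nat_lit 0,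 nat_lit 27, nat_lit 0), (nat_lit 0, nat_lit 28, nat_lit 0), (nat_lit 0, nat_lit 27, nat_lit 0), (nat_lit 0, nat_lit 28, nat_lit 0), (nat_lit 0, nat_lit 29, nat_lit 0), (nat_lit 0, nat_lit 32, nat_lit 0), (nat_lit 0, nat_lit 31, nat_lit 0), (nat_lit 0, nat_lit 32, nat_lit 0), (nat_lit 0, nat_lit 35, nat_lit 0), (nat_lit 0, nat_lit 34, nat_lit 0), (nat_lit 0, nat_lit 37, nat_lit 0), (nat_lit 0, nat_lit 38, nat_lit 0), (nat_lit 0, nat_lit 39, nat_lit 37), (nat_lit 0, nat_lit 40, nat_lit 0), (nat_lit 0, nat_lit 41, nat_lit 0), (nat_lit 0, nat_lit 40, nat_lit 0), (nat_lit 0, nat_lit 41, nat_lit 0), (nat_lit 0, nat_lit 44, nat_lit 0), (nat_lit 0, nat_lit 45, nat_lit 0), (nat_lit 0, nat_lit 46, nat_lit 0), (nat_lit 0, nat_lit 45, nat_lit 0), (nat_lit 0, nat_lit 48, nat_lit 0), (nat_lit 0, nat_lit 49, nat_lit 0), (nat_lit 0, nat_lit 50, nat_lit 0), (nat_lit 0, nat_lit 51,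 nat_lit 0), (nat_lit 0, nat_lit 50, nat_lit 0), (nat_lit 0, nat_lit 53, nat_lit 0), (nat_lit 0, nat_lit 52, nat_lit 0), (nat_lit 0, nat_lit 55, nat_lit 0), (nat_lit 0, nat_lit 56, nat_lit 0), (nat_lit 0, nat_lit 55, nat_lit 35), (nat_lit 0, nat_lit 56, nat_lit 0), (nat_lit 0, nat_lit 59, nat_lit 0), (nat_lit 0, nat_lit 58, nat_lit 0), (nat_lit 0, nat_lit 61, nat_lit 0), (nat_lit 0, nat_lit 60, nat_lit 0), (nat_lit 0, nat_lit 63, nat_lit 0), (nat_lit 0, nat_lit 64, nat_lit 0), (nat_lit 0, nat_lit 65, nat_lit 0), (nat_lit 0, nat_lit 66, nat_lit 0), (nat_lit 0, nat_lit 67, nat_lit 0), (nat_lit 0, nat_lit 68, nat_lit 0), (nat_lit 0, nat_lit 67, nat_lit 0), (nat_lit 0, nat_lit 68, nat_lit 0), (nat_lit 0, nat_lit 69, nat_lit 0), (nat_lit 0, nat_lit 72, nat_lit 0)]⟩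

def m23_P5_T : List Nat := [nat_lit 0xbd60f6582b121441d0a04ce4d89dc6]
def m23_P5_prog : List (Nat × Nat × Nat) := []
def m23_P5_s0 : Nat := nat_lit 0xbd60f6582b121441d0a04ce4d89dc6
noncomputable def m23_P5_lev0 : Core.Lev := Core.mkLev m23_n m23_w m23_mask m23_L m23_maskL m23_idc (nat_lit 0) [m23_P5_s0] [(nat_lit 6, m23_P5_s0, nat_lit 0), (nat_lit 19, m23_P5_s0, nat_lit 6), (nat_lit 12, m23_P5_s0, nat_lit 19), (nat_lit 4, m23_P5_s0, nat_lit 12), (nat_lit 13, m23_P5_s0, nat_lit 4), (nat_lit 10, m23_P5_s0, nat_lit 13), (nat_lit 20, m23_P5_s0, nat_lit 10), (nat_lit 15, m23_P5_s0, nat_lit 20), (nat_lit 2, m23_P5_s0, nat_lit 15), (nat_lit 7, m23_P5_s0, nat_lit 2), (nat_lit 9, m23_P5_s0, nat_lit 7), (nat_lit 5, m23_P5_s0, nat_lit 9), (nat_lit 18, m23_P5_s0, nat_lit 5), (nat_lit 22, m23_P5_s0, nat_lit 18), (nat_lit 21, m23_P5_s0, nat_lit 22), (nat_lit 16, m23_P5_s0, nat_lit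 21), (nat_lit 11, m23_P5_s0, nat_lit 16), (nat_lit 3, m23_P5_s0, nat_lit 11), (nat_lit 17, m23_P5_s0, nat_lit 3), (nat_lit 1, m23_P5_s0, nat_lit 17), (nat_lit 14, m23_P5_s0, nat_lit 1), (nat_lit 8, m23_P5_s0, nat_lit 14)]
noncomputable def m23_P5_levels : List Core.Lev := [m23_P5_lev0]

noncomputable def m23_P5_cert : Simple.SylCert := ⟨nat_lit 23, nat_lit 23, m23_P5_T, m23_P5_prog, m23_P5_levels, [nat_lit 0xbdab49ca307b9ac5a928398a418820], [(nat_lit 0xbd60f6582b121441d0a04ce4d89dc6, nat_lit 0xbdab49ca307b9ac5a928398a418820, nat_lit 1, nat_lit 0xbd60f6582b121441d0a04ce4d89dc6), (nat_lit 0xbc162255c33828d8be462b2ca0a513, nat_lit 0xbb5724422a984a919aa261c80a59ee, nat_lit 1, nat_lit 0xbd60f6582b121441d0a04ce4d89dc6), (nat_lit 0xbac676c111499ea08ad3912b47140c, nat_lit 0xb94337914d3a05092d346022670ed5, nat_lit 1, nat_lit 0xbd60f6582b121441d0a04ce4d89dc6), (nat_lit 0xb8e2952c012cc5471eacb360f448c4,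 nat_lit 0xbd8234bdcc31d4b1163093660ad088, nat_lit 1, nat_lit 0xbd60f6582b121441d0a04ce4d89dc6), (nat_lit 0xbc425a0cce930ef42604aa96205a6d, nat_lit 0xbb5724422a984a919aa261c80a59ee, nat_lit 5, nat_lit 0xbd60f6582b121441d0a04ce4d89dc6), (nat_lit 0xb85d27c668b11220156d850673558a, nat_lit 0xb9ecd7aa8315425419d15927064920, nat_lit 1, nat_lit 0xbd60f6582b121441d0a04ce4d89dc6), (nat_lit 0xbb91610580ab4a73486a5be299c094, nat_lit 0xb9cb113c3671aa982c8c9d1521810d, nat_lit 5, nat_lit 0xbd60f6582b121441d0a04ce4d89dc6), (nat_lit 0xba0153b88682a499da341882562daf, nat_lit 0xba266146cd204657ba403aa154d16c, nat_lit 1, nat_lit 0xbd60f6582b121441d0a04ce4d89dc6), (nat_lit 0xb80d04a1b35d2c56542f89dd220d42, nat_lit 0xba1699102551dcfa42cd88c4c99aa0, nat_lit 1, nat_lit 0xbd60f6582b121441d0a04ce4d89dc6), (nat_lit 0xb9a6b2814c1beb2241c20a5166c687, nat_lit 0xbd8234bdcc31d4b1163093660ad088,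 nat_lit 5, nat_lit 0xbd60f6582b121441d0a04ce4d89dc6), (nat_lit 0xbcd8391a8488a166ad0771415505e9, nat_lit 0xba1699102551dcfa42cd88c4c99aa0, nat_lit 5, nat_lit 0xbd60f6582b121441d0a04ce4d89dc6), (nat_lit 0xbb091b4ded09d7550c09448d0a3845, nat_lit 0xb9cb113c3671aa982c8c9d1521810d, nat_lit 1, nat_lit 0xbd60f6582b121441d0a04ce4d89dc6), (nat_lit 0xb91a1ab04a72470a44c505a6b7a0f2, nat_lit 0xbc4a84b28dac2447296230ce1b3c13, nat_lit 1, nat_lit 0xbd60f6582b121441d0a04ce4d89dc6), (nat_lit 0xbb54e810f44162b786723558310136, nat_lit 0xbdab49ca307b9ac5a928398a418820, nat_lit 5, nat_lit 0xbd60f6582b121441d0a04ce4d89dc6), (nat_lit 0xbaa885b52f04823139969c091398b5, nat_lit 0xb9ecd7aa8315425419d15927064920, nat_lit 5, nat_lit 0xbd60f6582b121441d0a04ce4d89dc6), (nat_lit 0xbd1e01a8a2359d13a09562da14ce50, nat_lit 0xba4c583a9699c4a220606b1f15d432, nat_lit 1, nat_lit 0xbd60f6582b121441d0a04ce4d89dc6),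 (nat_lit 0xbbc468d2479d501481b020d4e2b2cb, nat_lit 0xba4c583a9699c4a220606b1f15d432, nat_lit 5, nat_lit 0xbd60f6582b121441d0a04ce4d89dc6), (nat_lit 0xb88f30bec96400e2994b6c688912a3, nat_lit 0xbad8033e05125a775a4125511a0e6a, nat_lit 1, nat_lit 0xbd60f6582b121441d0a04ce4d89dc6), (nat_lit 0xb9d2c70aa522cc894e83505e0b3611, nat_lit 0xb94337914d3a05092d346022670ed5, nat_lit 5, nat_lit 0xbd60f6582b121441d0a04ce4d89dc6), (nat_lit 0xba4a441e1268e60b31f1a3846aa961, nat_lit 0xba266146cd204657ba403aa154d16c, nat_lit 5, nat_lit 0xbd60f6582b121441d0a04ce4d89dc6), (nat_lit 0xb964d0257654586a90417a0f38506e, nat_lit 0xbc4a84b28dac2447296230ce1b3c13, nat_lit 5, nat_lit 0xbd60f6582b121441d0a04ce4d89dc6), (nat_lit 0xbcaca31475a0493834ee1012c5be28, nat_lit 0xbad8033e05125a775a4125511a0e6a, nat_lit 5, nat_lit 0xbd60f6582b121441d0a04ce4d89dc6)], [(nat_lit 1, nat_lit 1, nat_lit 0), (nat_lit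 0, nat_lit 2, nat_lit 0), (nat_lit 0, nat_lit 1, nat_lit 1), (nat_lit 1, nat_lit 3, nat_lit 0), (nat_lit 0, nat_lit 0, nat_lit 1), (nat_lit 0, nat_lit 1, nat_lit 0), (nat_lit 0, nat_lit 5, nat_lit 0), (nat_lit 0, nat_lit 6, nat_lit 0), (nat_lit 0, nat_lit 4, nat_lit 0), (nat_lit 0, nat_lit 8, nat_lit 0), (nat_lit 0, nat_lit 6, nat_lit 0), (nat_lit 0, nat_lit 10, nat_lit 0), (nat_lit 0, nat_lit 8, nat_lit 0), (nat_lit 0, nat_lit 12, nat_lit 0), (nat_lit 0, nat_lit 13, nat_lit 0), (nat_lit 0, nat_lit 11, nat_lit 11), (nat_lit 0, nat_lit 15, nat_lit 0), (nat_lit 0, nat_lit 13, nat_lit 0), (nat_lit 0, nat_lit 14, nat_lit 0), (nat_lit 0, nat_lit 15, nat_lit 0), (nat_lit 0, nat_lit 16, nat_lit 0), (nat_lit 0, nat_lit 17, nat_lit 0), (nat_lit 0, nat_lit 21, nat_lit 0), (nat_lit 0, nat_lit 19, nat_lit 0), (nat_lit 0, nat_lit 20, nat_lit 0), (nat_lit 0, nat_lit 21, nat_lit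 0), (nat_lit 0, nat_lit 25, nat_lit 0), (nat_lit 0, nat_lit 26, nat_lit 0), (nat_lit 0, nat_lit 24, nat_lit 0), (nat_lit 0, nat_lit 28, nat_lit 0), (nat_lit 0, nat_lit 29, nat_lit 0), (nat_lit 0, nat_lit 30, nat_lit 0), (nat_lit 0, nat_lit 31, nat_lit 0), (nat_lit 0, nat_lit 29, nat_lit 17), (nat_lit 0, nat_lit 33, nat_lit 0), (nat_lit 0, nat_lit 31, nat_lit 0), (nat_lit 0, nat_lit 32, nat_lit 0), (nat_lit 0, nat_lit 36, nat_lit 0), (nat_lit 0, nat_lit 34, nat_lit 0), (nat_lit 0, nat_lit 38, nat_lit 0), (nat_lit 0, nat_lit 39, nat_lit 0), (nat_lit 0, nat_lit 40, nat_lit 0), (nat_lit 0, nat_lit 38, nat_lit 0), (nat_lit 0, nat_lit 39, nat_lit 0), (nat_lit 0, nat_lit 40, nat_lit 0), (nat_lit 0, nat_lit 41, nat_lit 0), (nat_lit 0, nat_lit 42, nat_lit 0), (nat_lit 0, nat_lit 43, nat_lit 0), (nat_lit 0, nat_lit 47, nat_lit 0), (nat_lit 0, nat_lit 48, nat_lit 0), (nat_lit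 0, nat_lit 49, nat_lit 47), (nat_lit 0, nat_lit 47, nat_lit 0), (nat_lit 0, nat_lit 48, nat_lit 0), (nat_lit 0, nat_lit 52, nat_lit 0), (nat_lit 0, nat_lit 53, nat_lit 0), (nat_lit 0, nat_lit 54, nat_lit 0), (nat_lit 0, nat_lit 52, nat_lit 0), (nat_lit 0, nat_lit 53, nat_lit 0), (nat_lit 0, nat_lit 54, nat_lit 0), (nat_lit 0, nat_lit 55, nat_lit 0), (nat_lit 0, nat_lit 56, nat_lit 0), (nat_lit 0, nat_lit 60, nat_lit 0), (nat_lit 0, nat_lit 61, nat_lit 0), (nat_lit 0, nat_lit 62, nat_lit 0), (nat_lit 0, nat_lit 60, nat_lit 0), (nat_lit 0, nat_lit 64, nat_lit 0), (nat_lit 0, nat_lit 65, nat_lit 0), (nat_lit 0, nat_lit 63, nat_lit 66), (nat_lit 0, nat_lit 67, nat_lit 0), (nat_lit 0, nat_lit 68, nat_lit 0), (nat_lit 0, nat_lit 69, nat_lit 0), (nat_lit 0, nat_lit 67, nat_lit 0), (nat_lit 0, nat_lit 71, nat_lit 0), (nat_lit 0, nat_lit 72, nat_lit 0), (nat_lit 0, nat_lit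 70, nat_lit 0), (nat_lit 0, nat_lit 74, nat_lit 0), (nat_lit 0, nat_lit 72, nat_lit 0), (nat_lit 0, nat_lit 73, nat_lit 0), (nat_lit 0, nat_lit 74, nat_lit 0), (nat_lit 0, nat_lit 78, nat_lit 0), (nat_lit 0, nat_lit 79, nat_lit 0), (nat_lit 0, nat_lit 80, nat_lit 0), (nat_lit 0, nat_lit 78, nat_lit 0), (nat_lit 0, nat_lit 82, nat_lit 0), (nat_lit 0, nat_lit 83, nat_lit 0), (nat_lit 0, nat_lit 84, nat_lit 68), (nat_lit 0, nat_lit 82, nat_lit 0), (nat_lit 0, nat_lit 86, nat_lit 0), (nat_lit 0, nat_lit 87, nat_lit 0), (nat_lit 0, nat_lit 85, nat_lit 0), (nat_lit 0, nat_lit 89, nat_lit 0), (nat_lit 0, nat_lit 87, nat_lit 0), (nat_lit 0, nat_lit 88, nat_lit 0), (nat_lit 0, nat_lit 92, nat_lit 0), (nat_lit 0, nat_lit 90, nat_lit 0), (nat_lit 0, nat_lit 91, nat_lit 0), (nat_lit 0, nat_lit 95, nat_lit 0), (nat_lit 0, nat_lit 96, nat_lit 0), (nat_lit 0, nat_lit 94, nat_lit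 0), (nat_lit 0, nat_lit 98, nat_lit 48), (nat_lit 0, nat_lit 96, nat_lit 0), (nat_lit 0, nat_lit 100, nat_lit 0), (nat_lit 0, nat_lit 101, nat_lit 0), (nat_lit 0, nat_lit 102, nat_lit 0), (nat_lit 0, nat_lit 103, nat_lit 0), (nat_lit 0, nat_lit 101, nat_lit 0), (nat_lit 0, nat_lit 105, nat_lit 0), (nat_lit 0, nat_lit 103, nat_lit 0), (nat_lit 0, nat_lit 107, nat_lit 0), (nat_lit 0, nat_lit 108, nat_lit 0), (nat_lit 0, nat_lit 109, nat_lit 0), (nat_lit 0, nat_lit 110, nat_lit 0), (nat_lit 0, nat_lit 111, nat_lit 0), (nat_lit 0, nat_lit 112, nat_lit 27), (nat_lit 0, nat_lit 113, nat_lit 0), (nat_lit 0, nat_lit 114, nat_lit 0), (nat_lit 0, nat_lit 112, nat_lit 0), (nat_lit 0, nat_lit 113, nat_lit 0), (nat_lit 0, nat_lit 114, nat_lit 0), (nat_lit 0, nat_lit 118, nat_lit 0), (nat_lit 0, nat_lit 116, nat_lit 0), (nat_lit 0, nat_lit 117, nat_lit 0), (nat_lit 0, nat_lit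 121, nat_lit 0), (nat_lit 0, nat_lit 119, nat_lit 0), (nat_lit 0, nat_lit 123, nat_lit 0), (nat_lit 0, nat_lit 124, nat_lit 0), (nat_lit 0, nat_lit 122, nat_lit 0), (nat_lit 0, nat_lit 123, nat_lit 57), (nat_lit 0, nat_lit 127, nat_lit 0), (nat_lit 0, nat_lit 128, nat_lit 0), (nat_lit 0, nat_lit 126, nat_lit 0), (nat_lit 0, nat_lit 127, nat_lit 0), (nat_lit 0, nat_lit 128, nat_lit 0), (nat_lit 0, nat_lit 132, nat_lit 0), (nat_lit 0, nat_lit 130, nat_lit 0), (nat_lit 0, nat_lit 134, nat_lit 0), (nat_lit 0, nat_lit 132, nat_lit 0), (nat_lit 0, nat_lit 136, nat_lit 0), (nat_lit 0, nat_lit 134, nat_lit 0), (nat_lit 0, nat_lit 138, nat_lit 0), (nat_lit 0, nat_lit 136, nat_lit 72), (nat_lit 0, nat_lit 140, nat_lit 0), (nat_lit 0, nat_lit 141, nat_lit 0), (nat_lit 0, nat_lit 139, nat_lit 0), (nat_lit 0, nat_lit 140, nat_lit 0), (nat_lit 0, nat_lit 144, nat_lit 0), (nat_lit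 0, nat_lit 145, nat_lit 0), (nat_lit 0, nat_lit 143, nat_lit 0), (nat_lit 0, nat_lit 147, nat_lit 0), (nat_lit 0, nat_lit 148, nat_lit 0), (nat_lit 0, nat_lit 146, nat_lit 0), (nat_lit 0, nat_lit 150, nat_lit 0), (nat_lit 0, nat_lit 151, nat_lit 0), (nat_lit 0, nat_lit 149, nat_lit 0), (nat_lit 0, nat_lit 153, nat_lit 0), (nat_lit 0, nat_lit 151, nat_lit 0)]⟩

noncomputable def m23_reps : List Simple.RepCert := [m23_R0_cert, m23_R1_cert, m23_R2_cert, m23_R3_cert, m23_R4_cert, m23_R5_cert]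
noncomputable def m23_syls : List Simple.SylCert := [m23_P0_cert, m23_P1_cert, m23_P2_cert, m23_P3_cert, m23_P4_cert, m23_P5_cert]

set_option maxRecDepth 1000000 in
theorem m23_G_ok : Core.checkAll m23_n m23_w m23_mask m23_L m23_maskL m23_idc m23_G_T m23_G_prog m23_G_levels = true := by decide +kernel

theorem m23_order : Core.orderC m23_G_levels = 10200960 := by decide +kernel

set_option maxRecDepth 1000000 in
theorem m23_reps_ok : Core.allL (Simple.repCheck m23_n m23_w m23_mask m23_L m23_maskL m23_idc m23_G_T m23_G_levels 10200960) m23_reps = true := by decide +kernel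

set_option maxRecDepth 1000000 in
theorem m23_syls_ok : Core.allL (Simple.sylCheck m23_n m23_w m23_mask m23_L m23_maskL m23_idc m23_G_T m23_G_levels 10200960 (m23_reps.map (·.r))) m23_syls = true := by decide +kernel

theorem m23_prod : (m23_syls.map (·.pk)).prod = 10200960 := by decide +kernel

end Cfsg.Agent.Lib.PermComp.Mathieu.CertM23
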