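import Cfsg.Agent.Lib.PermComp.Simple

/-!
# Certificate of simplicity for the Mathieu group M24

Generated by `tools/gen_mathieu.py`: a stabilizer chain of the group generated by the codes
`m24_G_T`, and the Sylow and normal closure data.
-/

namespace Cfsg.Agent.Lib.PermComp.Mathieu.CertM24

open Cfsg.Agent.Lib.PermComp

def m24_n : Nat := nat_lit 24
def m24_w : Nat := nat_lit 5
def m24_mask : Nat := nat_lit 31
def m24_L : Nat := nat_lit 120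
def m24_maskL : Nat := nat_lit 0xffffffffffffffffffffffffffffff
def m24_idc : Nat := nat_lit 0xbdab49ca307b9ac5a928398a418820

def m24_G_T : List Nat := [nat_lit 0xb82d5a4e5183dcd62d4941cc520c41, nat_lit 0x5883388a1c8f5140b46cd317aed7, nat_lit 0xbba8ab116d7c52899d90286a219a40]
def m24_G_prog : List (Nat × Nat × Nat) := [(nat_lit 1, nat_lit 1, nat_lit 0), (nat_lit 1, nat_lit 3, nat_lit 0), (nat_lit 0, nat_lit 4, nat_lit 3), (nat_lit 0, nat_lit 0, nat_lit 5), (nat_lit 0, nat_lit 0, nat_lit 5), (nat_lit 0, nat_lit 0, nat_lit 6), (nat_lit 0, nat_lit 5, nat_lit 4), (nat_lit 0, nat_lit 0, nat_lit 1), (nat_lit 0, nat_lit 9, nat_lit 10), (nat_lit 0, nat_lit 0, nat_lit 11), (nat_lit 0, nat_lit 0, nat_lit 11), (nat_lit 0, nat_lit 0, nat_lit 13), (nat_lit 0, nat_lit 0, nat_lit 13), (nat_lit 0, nat_lit 0, nat_lit 14), (nat_lit 0, nat_lit 0, nat_lit 14), (nat_lit 0, nat_lit 0,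 nat_lit 17), (nat_lit 0, nat_lit 0, nat_lit 16), (nat_lit 0, nat_lit 10, nat_lit 15), (nat_lit 0, nat_lit 0, nat_lit 17), (nat_lit 0, nat_lit 0, nat_lit 2), (nat_lit 1, nat_lit 12, nat_lit 0), (nat_lit 1, nat_lit 1, nat_lit 0), (nat_lit 0, nat_lit 2, nat_lit 14), (nat_lit 0, nat_lit 0, nat_lit 15), (nat_lit 0, nat_lit 0, nat_lit 4), (nat_lit 0, nat_lit 0, nat_lit 17), (nat_lit 0, nat_lit 0, nat_lit 18), (nat_lit 0, nat_lit 0, nat_lit 19), (nat_lit 0, nat_lit 0, nat_lit 20), (nat_lit 0, nat_lit 8, nat_lit 8), (nat_lit 0, nat_lit 0, nat_lit 8), (nat_lit 0, nat_lit 0, nat_lit 10), (nat_lit 0, nat_lit 0, nat_lit 3), (nat_lit 0, nat_lit 13, nat_lit 13), (nat_lit 0, nat_lit 0, nat_lit 26), (nat_lit 0, nat_lit 0, nat_lit 27), (nat_lit 0, nat_lit 0, nat_lit 16), (nat_lit 0, nat_lit 0, nat_lit 17), (nat_lit 0, nat_lit 0, nat_lit 30), (nat_lit 0, nat_lit 17, nat_lit 18), (nat_lit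 0, nat_lit 0, nat_lit 19), (nat_lit 0, nat_lit 0, nat_lit 2), (nat_lit 1, nat_lit 9, nat_lit 0), (nat_lit 1, nat_lit 1, nat_lit 0), (nat_lit 0, nat_lit 2, nat_lit 11), (nat_lit 0, nat_lit 0, nat_lit 3), (nat_lit 0, nat_lit 0, nat_lit 4), (nat_lit 0, nat_lit 0, nat_lit 14), (nat_lit 0, nat_lit 0, nat_lit 6), (nat_lit 0, nat_lit 0, nat_lit 16), (nat_lit 0, nat_lit 7, nat_lit 6), (nat_lit 0, nat_lit 0, nat_lit 8), (nat_lit 0, nat_lit 0, nat_lit 9), (nat_lit 0, nat_lit 0, nat_lit 3), (nat_lit 0, nat_lit 21, nat_lit 21), (nat_lit 0, nat_lit 0, nat_lit 13), (nat_lit 0, nat_lit 0, nat_lit 14), (nat_lit 0, nat_lit 0, nat_lit 24), (nat_lit 0, nat_lit 0, nat_lit 16), (nat_lit 0, nat_lit 0, nat_lit 17), (nat_lit 0, nat_lit 0, nat_lit 18), (nat_lit 0, nat_lit 17, nat_lit 17), (nat_lit 0, nat_lit 0, nat_lit 19), (nat_lit 0, nat_lit 0, nat_lit 20), (nat_lit 0, nat_lit 0, nat_lit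 3), (nat_lit 1, nat_lit 11, nat_lit 0), (nat_lit 1, nat_lit 1, nat_lit 0), (nat_lit 0, nat_lit 2, nat_lit 2), (nat_lit 0, nat_lit 0, nat_lit 14), (nat_lit 0, nat_lit 0, nat_lit 4), (nat_lit 0, nat_lit 3, nat_lit 4), (nat_lit 0, nat_lit 0, nat_lit 4), (nat_lit 0, nat_lit 0, nat_lit 6), (nat_lit 0, nat_lit 0, nat_lit 3), (nat_lit 0, nat_lit 6, nat_lit 9), (nat_lit 0, nat_lit 0, nat_lit 21), (nat_lit 0, nat_lit 0, nat_lit 11), (nat_lit 0, nat_lit 0, nat_lit 23), (nat_lit 0, nat_lit 12, nat_lit 12), (nat_lit 0, nat_lit 0, nat_lit 13), (nat_lit 0, nat_lit 0, nat_lit 13), (nat_lit 0, nat_lit 0, nat_lit 3), (nat_lit 0, nat_lit 28, nat_lit 17), (nat_lit 0, nat_lit 0, nat_lit 18), (nat_lit 0, nat_lit 0, nat_lit 19), (nat_lit 0, nat_lit 0, nat_lit 31), (nat_lit 0, nat_lit 0, nat_lit 21), (nat_lit 0, nat_lit 0, nat_lit 33), (nat_lit 0, nat_lit 0, nat_lit 23), (nat_lit 0, nat_lit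 0, nat_lit 24), (nat_lit 0, nat_lit 0, nat_lit 36), (nat_lit 0, nat_lit 0, nat_lit 37), (nat_lit 0, nat_lit 0, nat_lit 38), (nat_lit 0, nat_lit 12, nat_lit 0), (nat_lit 1, nat_lit 20, nat_lit 0), (nat_lit 1, nat_lit 13, nat_lit 0), (nat_lit 1, nat_lit 2, nat_lit 0), (nat_lit 0, nat_lit 23, nat_lit 3), (nat_lit 0, nat_lit 0, nat_lit 4), (nat_lit 0, nat_lit 0, nat_lit 25), (nat_lit 0, nat_lit 0, nat_lit 18), (nat_lit 0, nat_lit 0, nat_lit 7), (nat_lit 0, nat_lit 0, nat_lit 20), (nat_lit 0, nat_lit 7, nat_lit 8), (nat_lit 0, nat_lit 0, nat_lit 1), (nat_lit 0, nat_lit 11, nat_lit 31), (nat_lit 0, nat_lit 0, nat_lit 12), (nat_lit 0, nat_lit 0, nat_lit 13), (nat_lit 0, nat_lit 0, nat_lit 34), (nat_lit 0, nat_lit 0, nat_lit 27), (nat_lit 0, nat_lit 0, nat_lit 36), (nat_lit 0, nat_lit 0, nat_lit 29), (nat_lit 0, nat_lit 0, nat_lit 30), (nat_lit 0, nat_lit 0, nat_lit 19),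 (nat_lit 0, nat_lit 0, nat_lit 20), (nat_lit 0, nat_lit 0, nat_lit 41), (nat_lit 0, nat_lit 19, nat_lit 19), (nat_lit 0, nat_lit 0, nat_lit 1), (nat_lit 0, nat_lit 36, nat_lit 24), (nat_lit 0, nat_lit 0, nat_lit 45), (nat_lit 0, nat_lit 0, nat_lit 46), (nat_lit 0, nat_lit 0, nat_lit 27), (nat_lit 0, nat_lit 0, nat_lit 48), (nat_lit 0, nat_lit 0, nat_lit 29), (nat_lit 0, nat_lit 0, nat_lit 30), (nat_lit 0, nat_lit 0, nat_lit 51), (nat_lit 0, nat_lit 0, nat_lit 52), (nat_lit 0, nat_lit 0, nat_lit 33), (nat_lit 0, nat_lit 31, nat_lit 32), (nat_lit 0, nat_lit 0, nat_lit 1), (nat_lit 1, nat_lit 25, nat_lit 0), (nat_lit 0, nat_lit 13, nat_lit 26), (nat_lit 0, nat_lit 0, nat_lit 27), (nat_lit 0, nat_lit 0, nat_lit 28), (nat_lit 0, nat_lit 3, nat_lit 0)]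
def m24_G_s0 : Nat := nat_lit 0x5883388a1c8f5140b46cd317aed7
def m24_G_s1 : Nat := nat_lit 0xb82d5a4e5183dcd62d4941cc520c41
def m24_G_s2 : Nat := nat_lit 0xbb52c94dc32c0f54468a258c20bd60
def m24_G_s3 : Nat := nat_lit 0xba905a4c871a56d9384fac19634420
def m24_G_s4 : Nat := nat_lit 0xba4a78c10fab28db4cc470e4a58820
def m24_G_s5 : Nat := nat_lit 0xbb1f3a4232ab916218ed4a8ab18820
def m24_G_s6 : Nat := nat_lit 0xbc92655a2c3b9706cea47d0a818820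
def m24_G_s7 : Nat := nat_lit 0xbc12ba18ad946c79b11553dc418820
noncomputable def m24_G_lev0 : Core.Lev := Core.mkLev m24_n m24_w m24_mask m24_L m24_maskL m24_idc (nat_lit 23) [m24_G_s7, m24_G_s5, m24_G_s6, m24_G_s4, m24_G_s3, m24_G_s2, m24_G_s1, m24_G_s0] [(nat_lit 0, m24_G_s0, nat_lit 23), (nat_lit 1, m24_G_s1, nat_lit 0), (nat_lit 11, m24_G_s2, nat_lit 1), (nat_lit 2, m24_G_s1, nat_lit 1), (nat_lit 22, m24_G_s0, nat_lit 1), (nat_lit 19, m24_G_s7, nat_lit 11), (nat_lit 4, m24_G_s5, nat_lit 11), (nat_lit 13, m24_G_s6, nat_lit 11), (nat_lit 18, m24_G_s3, nat_lit 11), (nat_lit 8, m24_G_s2, nat_lit 11), (nat_lit 12, m24_G_s1, nat_lit 11), (nat_lit 17, m24_G_s3, nat_lit 2), (nat_lit 15, m24_G_s2, nat_lit 2), (nat_lit 3, m24_G_s1, nat_lit 2), (nat_lit 16, m24_G_s7, nat_lit 22), (nat_lit 9, m24_G_s4, nat_lit 22), (nat_lit 10, m24_G_s3, nat_lit 22), (nat_lit 20, m24_G_s7,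 nat_lit 19), (nat_lit 6, m24_G_s0, nat_lit 19), (nat_lit 5, m24_G_s1, nat_lit 4), (nat_lit 7, m24_G_s2, nat_lit 13), (nat_lit 14, m24_G_s1, nat_lit 13), (nat_lit 21, m24_G_s7, nat_lit 8)]
noncomputable def m24_G_lev1 : Core.Lev := Core.mkLev m24_n m24_w m24_mask m24_L m24_maskL m24_idc (nat_lit 0) [m24_G_s7, m24_G_s5, m24_G_s6, m24_G_s4, m24_G_s3, m24_G_s2, m24_G_s1] [(nat_lit 1, m24_G_s1, nat_lit 0), (nat_lit 11, m24_G_s2, nat_lit 1), (nat_lit 2, m24_G_s1, nat_lit 1), (nat_lit 19, m24_G_s7, nat_lit 11), (nat_lit 4, m24_G_s5, nat_lit 11), (nat_lit 13, m24_G_s6, nat_lit 11), (nat_lit 22, m24_G_s4, nat_lit 11), (nat_lit 18, m24_G_s3, nat_lit 11), (nat_lit 8, m24_G_s2, nat_lit 11), (nat_lit 12, m24_G_s1, nat_lit 11), (nat_lit 17, m24_G_s3, nat_lit 2), (nat_lit 15, m24_G_s2, nat_lit 2), (nat_lit 3, m24_G_s1, nat_lit 2), (nat_lit 20, m24_G_s7, nat_lit 19), (nat_lit 10,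 m24_G_s6, nat_lit 19), (nat_lit 5, m24_G_s1, nat_lit 4), (nat_lit 7, m24_G_s2, nat_lit 13), (nat_lit 14, m24_G_s1, nat_lit 13), (nat_lit 16, m24_G_s7, nat_lit 22), (nat_lit 9, m24_G_s4, nat_lit 22), (nat_lit 6, m24_G_s7, nat_lit 18), (nat_lit 21, m24_G_s7, nat_lit 8)]
noncomputable def m24_G_lev2 : Core.Lev := Core.mkLev m24_n m24_w m24_mask m24_L m24_maskL m24_idc (nat_lit 1) [m24_G_s7, m24_G_s5, m24_G_s6, m24_G_s4, m24_G_s3, m24_G_s2] [(nat_lit 11, m24_G_s2, nat_lit 1), (nat_lit 19, m24_G_s7, nat_lit 11), (nat_lit 4, m24_G_s5, nat_lit 11), (nat_lit 13, m24_G_s6, nat_lit 11), (nat_lit 22, m24_G_s4, nat_lit 11), (nat_lit 18, m24_G_s3, nat_lit 11), (nat_lit 8, m24_G_s2, nat_lit 11), (nat_lit 20, m24_G_s7, nat_lit 19), (nat_lit 10, m24_G_s6, nat_lit 19), (nat_lit 17, m24_G_s4, nat_lit 19), (nat_lit 2, m24_G_s2, nat_lit 4), (nat_lit 7, m24_G_s2, nat_lit 13), (nat_lit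 16, m24_G_s7, nat_lit 22), (nat_lit 12, m24_G_s5, nat_lit 22), (nat_lit 9, m24_G_s4, nat_lit 22), (nat_lit 6, m24_G_s7, nat_lit 18), (nat_lit 21, m24_G_s7, nat_lit 8), (nat_lit 15, m24_G_s3, nat_lit 8), (nat_lit 5, m24_G_s3, nat_lit 20), (nat_lit 14, m24_G_s3, nat_lit 10), (nat_lit 3, m24_G_s2, nat_lit 16)]
noncomputable def m24_G_lev3 : Core.Lev := Core.mkLev m24_n m24_w m24_mask m24_L m24_maskL m24_idc (nat_lit 2) [m24_G_s7, m24_G_s5, m24_G_s6, m24_G_s4, m24_G_s3] [(nat_lit 17, m24_G_s3, nat_lit 2), (nat_lit 5, m24_G_s7, nat_lit 17), (nat_lit 8, m24_G_s4, nat_lit 17), (nat_lit 4, m24_G_s3, nat_lit 17), (nat_lit 14, m24_G_s7, nat_lit 5), (nat_lit 18, m24_G_s4, nat_lit 5), (nat_lit 12, m24_G_s3, nat_lit 5), (nat_lit 21, m24_G_s7, nat_lit 8), (nat_lit 13, m24_G_s5, nat_lit 8), (nat_lit 15, m24_G_s3, nat_lit 8), (nat_lit 11, m24_G_s5, nat_lit 4), (nat_lit 10, m24_G_s4,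 nat_lit 4), (nat_lit 22, m24_G_s3, nat_lit 4), (nat_lit 9, m24_G_s3, nat_lit 14), (nat_lit 6, m24_G_s7, nat_lit 18), (nat_lit 16, m24_G_s5, nat_lit 18), (nat_lit 19, m24_G_s3, nat_lit 18), (nat_lit 7, m24_G_s7, nat_lit 12), (nat_lit 20, m24_G_s4, nat_lit 13), (nat_lit 3, m24_G_s3, nat_lit 15)]
noncomputable def m24_G_lev4 : Core.Lev := Core.mkLev m24_n m24_w m24_mask m24_L m24_maskL m24_idc (nat_lit 3) [m24_G_s7, m24_G_s5, m24_G_s6, m24_G_s4] [(nat_lit 11, m24_G_s4, nat_lit 3), (nat_lit 19, m24_G_s7, nat_lit 11), (nat_lit 4, m24_G_s5, nat_lit 11), (nat_lit 13, m24_G_s6, nat_lit 11), (nat_lit 22, m24_G_s4, nat_lit 11), (nat_lit 20, m24_G_s7, nat_lit 19), (nat_lit 10, m24_G_s6, nat_lit 19), (nat_lit 17, m24_G_s4, nat_lit 19), (nat_lit 8, m24_G_s6, nat_lit 4), (nat_lit 16, m24_G_s7, nat_lit 22), (nat_lit 12, m24_G_s5, nat_lit 22), (nat_lit 18, m24_G_s6, nat_lit 22),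 (nat_lit 9, m24_G_s4, nat_lit 22), (nat_lit 6, m24_G_s6, nat_lit 20), (nat_lit 7, m24_G_s4, nat_lit 20), (nat_lit 5, m24_G_s7, nat_lit 17), (nat_lit 21, m24_G_s7, nat_lit 8), (nat_lit 15, m24_G_s4, nat_lit 16), (nat_lit 14, m24_G_s4, nat_lit 7)]
noncomputable def m24_G_lev5 : Core.Lev := Core.mkLev m24_n m24_w m24_mask m24_L m24_maskL m24_idc (nat_lit 4) [m24_G_s7, m24_G_s5, m24_G_s6] [(nat_lit 11, m24_G_s5, nat_lit 4), (nat_lit 8, m24_G_s6, nat_lit 4), (nat_lit 19, m24_G_s7, nat_lit 11), (nat_lit 13, m24_G_s6, nat_lit 11), (nat_lit 21, m24_G_s7, nat_lit 8), (nat_lit 20, m24_G_s7, nat_lit 19), (nat_lit 10, m24_G_s6, nat_lit 19), (nat_lit 22, m24_G_s7, nat_lit 13), (nat_lit 9, m24_G_s7, nat_lit 21), (nat_lit 15, m24_G_s5, nat_lit 21), (nat_lit 6, m24_G_s6, nat_lit 20), (nat_lit 12, m24_G_s7, nat_lit 10), (nat_lit 16, m24_G_s7, nat_lit 22), (nat_lit 18, m24_G_s6, nat_lit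 22), (nat_lit 7, m24_G_s5, nat_lit 9)]
noncomputable def m24_G_lev6 : Core.Lev := Core.mkLev m24_n m24_w m24_mask m24_L m24_maskL m24_idc (nat_lit 5) [m24_G_s7] [(nat_lit 14, m24_G_s7, nat_lit 5), (nat_lit 17, m24_G_s7, nat_lit 14)]
noncomputable def m24_G_levels : List Core.Lev := [m24_G_lev0, m24_G_lev1, m24_G_lev2, m24_G_lev3, m24_G_lev4, m24_G_lev5, m24_G_lev6]

def m24_R0_T : List Nat := [nat_lit 0xa4d097080155a5139ae323e0bab4ac, nat_lit 0x686122bc8ba5dcaa823698ce91190c]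
def m24_R0_prog : List (Nat × Nat × Nat) := [(nat_lit 1, nat_lit 1, nat_lit 0), (nat_lit 1, nat_lit 1, nat_lit 0), (nat_lit 0, nat_lit 2, nat_lit 2), (nat_lit 0, nat_lit 0, nat_lit 4), (nat_lit 0, nat_lit 0, nat_lit 5), (nat_lit 0, nat_lit 0, nat_lit 5), (nat_lit 0, nat_lit 5, nat_lit 4), (nat_lit 0, nat_lit 0, nat_lit 1), (nat_lit 0, nat_lit 1, nat_lit 7), (nat_lit 0, nat_lit 0, nat_lit 8), (nat_lit 0, nat_lit 10, nat_lit 11), (nat_lit 0, nat_lit 0, nat_lit 12), (nat_lit 0, nat_lit 0, nat_lit 12), (nat_lit 0, nat_lit 0, nat_lit 13), (nat_lit 0, nat_lit 0, nat_lit 15), (nat_lit 0, nat_lit 0, nat_lit 15), (nat_lit 0, nat_lit 0, nat_lit 16), (nat_lit 0, nat_lit 7, nat_lit 0), (nat_lit 1, nat_lit 10, nat_lit 0), (nat_lit 1, nat_lit 1, nat_lit 0), (nat_lit 0, nat_lit 2, nat_lit 12), (nat_lit 0, nat_lit 0, nat_lit 13), (nat_lit 0, nat_lit 0, nat_lit 14), (nat_lit 0, nat_lit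 4, nat_lit 4), (nat_lit 0, nat_lit 0, nat_lit 5), (nat_lit 0, nat_lit 0, nat_lit 5), (nat_lit 0, nat_lit 3, nat_lit 8), (nat_lit 0, nat_lit 0, nat_lit 9), (nat_lit 0, nat_lit 0, nat_lit 20), (nat_lit 0, nat_lit 0, nat_lit 11), (nat_lit 0, nat_lit 0, nat_lit 22), (nat_lit 0, nat_lit 5, nat_lit 0), (nat_lit 0, nat_lit 11, nat_lit 14), (nat_lit 0, nat_lit 0, nat_lit 25), (nat_lit 0, nat_lit 14, nat_lit 0), (nat_lit 1, nat_lit 3, nat_lit 0), (nat_lit 1, nat_lit 1, nat_lit 0), (nat_lit 0, nat_lit 5, nat_lit 2), (nat_lit 0, nat_lit 0, nat_lit 3), (nat_lit 0, nat_lit 0, nat_lit 7), (nat_lit 0, nat_lit 0, nat_lit 8), (nat_lit 0, nat_lit 0, nat_lit 6), (nat_lit 0, nat_lit 0, nat_lit 7), (nat_lit 0, nat_lit 0, nat_lit 11), (nat_lit 0, nat_lit 0, nat_lit 12), (nat_lit 0, nat_lit 8, nat_lit 9), (nat_lit 0, nat_lit 0, nat_lit 10), (nat_lit 0, nat_lit 0, nat_lit 10), (nat_lit 0,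 nat_lit 0, nat_lit 11), (nat_lit 0, nat_lit 0, nat_lit 4), (nat_lit 0, nat_lit 18, nat_lit 18), (nat_lit 0, nat_lit 0, nat_lit 16), (nat_lit 0, nat_lit 0, nat_lit 20), (nat_lit 0, nat_lit 0, nat_lit 18), (nat_lit 0, nat_lit 0, nat_lit 19), (nat_lit 0, nat_lit 0, nat_lit 23), (nat_lit 0, nat_lit 0, nat_lit 24), (nat_lit 0, nat_lit 0, nat_lit 22), (nat_lit 0, nat_lit 0, nat_lit 23), (nat_lit 0, nat_lit 23, nat_lit 22), (nat_lit 0, nat_lit 0, nat_lit 24), (nat_lit 0, nat_lit 0, nat_lit 25), (nat_lit 0, nat_lit 0, nat_lit 25), (nat_lit 0, nat_lit 0, nat_lit 26), (nat_lit 0, nat_lit 0, nat_lit 28), (nat_lit 0, nat_lit 0, nat_lit 6), (nat_lit 1, nat_lit 16, nat_lit 0), (nat_lit 1, nat_lit 1, nat_lit 0), (nat_lit 0, nat_lit 18, nat_lit 2), (nat_lit 0, nat_lit 0, nat_lit 3), (nat_lit 0, nat_lit 0, nat_lit 20), (nat_lit 0, nat_lit 0, nat_lit 5), (nat_lit 0, nat_lit 0, nat_lit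 22), (nat_lit 0, nat_lit 0, nat_lit 23), (nat_lit 0, nat_lit 7, nat_lit 7), (nat_lit 0, nat_lit 0, nat_lit 8), (nat_lit 0, nat_lit 0, nat_lit 9), (nat_lit 0, nat_lit 0, nat_lit 3), (nat_lit 0, nat_lit 28, nat_lit 28), (nat_lit 0, nat_lit 0, nat_lit 29), (nat_lit 0, nat_lit 0, nat_lit 14), (nat_lit 0, nat_lit 0, nat_lit 31), (nat_lit 0, nat_lit 7, nat_lit 14), (nat_lit 0, nat_lit 0, nat_lit 16), (nat_lit 0, nat_lit 0, nat_lit 2), (nat_lit 1, nat_lit 7, nat_lit 0), (nat_lit 1, nat_lit 1, nat_lit 0), (nat_lit 0, nat_lit 9, nat_lit 2), (nat_lit 0, nat_lit 0, nat_lit 10), (nat_lit 0, nat_lit 0, nat_lit 11), (nat_lit 0, nat_lit 4, nat_lit 0), (nat_lit 0, nat_lit 3, nat_lit 6), (nat_lit 0, nat_lit 0, nat_lit 14), (nat_lit 0, nat_lit 0, nat_lit 8), (nat_lit 0, nat_lit 8, nat_lit 7), (nat_lit 0, nat_lit 0, nat_lit 1), (nat_lit 0, nat_lit 11, nat_lit 18), (nat_lit 0, nat_lit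 0, nat_lit 19), (nat_lit 0, nat_lit 0, nat_lit 13), (nat_lit 0, nat_lit 0, nat_lit 14), (nat_lit 0, nat_lit 13, nat_lit 14), (nat_lit 0, nat_lit 0, nat_lit 15), (nat_lit 0, nat_lit 0, nat_lit 15), (nat_lit 0, nat_lit 0, nat_lit 16), (nat_lit 0, nat_lit 0, nat_lit 4), (nat_lit 1, nat_lit 14, nat_lit 0), (nat_lit 1, nat_lit 1, nat_lit 0), (nat_lit 0, nat_lit 11, nat_lit 2), (nat_lit 0, nat_lit 0, nat_lit 17), (nat_lit 0, nat_lit 0, nat_lit 4), (nat_lit 0, nat_lit 0, nat_lit 14), (nat_lit 0, nat_lit 5, nat_lit 4), (nat_lit 0, nat_lit 0, nat_lit 1)]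
def m24_R0_s0 : Nat := nat_lit 0xa4d097080155a5139ae323e0bab4ac
def m24_R0_s1 : Nat := nat_lit 0x51173aa2d41303791de98386d344a0
def m24_R0_s2 : Nat := nat_lit 0x2c1d16246242a8da9a77259e792c20
def m24_R0_s3 : Nat := nat_lit 0x85d0e198ada9c91531329bd76a0820
def m24_R0_s4 : Nat := nat_lit 0x59eb27b6d04268e55d93890c518820
def m24_R0_s5 : Nat := nat_lit 0x6da6f722572d6074b0d152e8418820
def m24_R0_s6 : Nat := nat_lit 0x94dd1b5e89354ac42a0b3bda418820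
def m24_R0_s7 : Nat := nat_lit 0x8bcd6925d5a5d674326d540a418820
noncomputable def m24_R0_lev0 : Core.Lev := Core.mkLev m24_n m24_w m24_mask m24_L m24_maskL m24_idc (nat_lit 0) [m24_R0_s7, m24_R0_s5, m24_R0_s6, m24_R0_s4, m24_R0_s3, m24_R0_s2, m24_R0_s1, m24_R0_s0] [(nat_lit 12, m24_R0_s0, nat_lit 0), (nat_lit 7, m24_R0_s7, nat_lit 12), (nat_lit 14, m24_R0_s4, nat_lit 12), (nat_lit 17, m24_R0_s3, nat_lit 12), (nat_lit 13, m24_R0_s2, nat_lit 12), (nat_lit 23, m24_R0_s1, nat_lit 12), (nat_lit 10, m24_R0_s7, nat_lit 7), (nat_lit 19, m24_R0_s3, nat_lit 7), (nat_lit 4, m24_R0_s2, nat_lit 7), (nat_lit 16, m24_R0_s1, nat_lit 7), (nat_lit 21, m24_R0_s5, nat_lit 14), (nat_lit 9, m24_R0_s4, nat_lit 14), (nat_lit 22, m24_R0_s0, nat_lit 14), (nat_lit 18, m24_R0_s5, nat_lit 17), (nat_lit 20, m24_R0_s6, nat_lit 17), (nat_lit 5, m24_R0_s3, nat_lit 17), (nat_lit 3, m24_R0_s2, nat_lit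 17), (nat_lit 11, m24_R0_s7, nat_lit 13), (nat_lit 1, m24_R0_s1, nat_lit 13), (nat_lit 6, m24_R0_s2, nat_lit 10), (nat_lit 15, m24_R0_s4, nat_lit 19), (nat_lit 2, m24_R0_s2, nat_lit 16), (nat_lit 8, m24_R0_s3, nat_lit 21)]
noncomputable def m24_R0_lev1 : Core.Lev := Core.mkLev m24_n m24_w m24_mask m24_L m24_maskL m24_idc (nat_lit 1) [m24_R0_s7, m24_R0_s5, m24_R0_s6, m24_R0_s4, m24_R0_s3, m24_R0_s2, m24_R0_s1] [(nat_lit 5, m24_R0_s1, nat_lit 1), (nat_lit 20, m24_R0_s5, nat_lit 5), (nat_lit 13, m24_R0_s6, nat_lit 5), (nat_lit 6, m24_R0_s4, nat_lit 5), (nat_lit 11, m24_R0_s3, nat_lit 5), (nat_lit 15, m24_R0_s2, nat_lit 5), (nat_lit 3, m24_R0_s1, nat_lit 5), (nat_lit 22, m24_R0_s7, nat_lit 20), (nat_lit 17, m24_R0_s6, nat_lit 20), (nat_lit 18, m24_R0_s4, nat_lit 20), (nat_lit 14, m24_R0_s3, nat_lit 20), (nat_lit 19, m24_R0_s1, nat_lit 20), (nat_lit 16, m24_R0_s5, nat_lit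 13), (nat_lit 4, m24_R0_s3, nat_lit 13), (nat_lit 8, m24_R0_s7, nat_lit 11), (nat_lit 9, m24_R0_s5, nat_lit 11), (nat_lit 10, m24_R0_s4, nat_lit 11), (nat_lit 21, m24_R0_s2, nat_lit 11), (nat_lit 2, m24_R0_s1, nat_lit 15), (nat_lit 7, m24_R0_s4, nat_lit 22), (nat_lit 23, m24_R0_s3, nat_lit 22), (nat_lit 12, m24_R0_s1, nat_lit 14)]
noncomputable def m24_R0_lev2 : Core.Lev := Core.mkLev m24_n m24_w m24_mask m24_L m24_maskL m24_idc (nat_lit 2) [m24_R0_s7, m24_R0_s5, m24_R0_s6, m24_R0_s4, m24_R0_s3, m24_R0_s2] [(nat_lit 11, m24_R0_s2, nat_lit 2), (nat_lit 8, m24_R0_s7, nat_lit 11), (nat_lit 9, m24_R0_s5, nat_lit 11), (nat_lit 10, m24_R0_s4, nat_lit 11), (nat_lit 21, m24_R0_s2, nat_lit 11), (nat_lit 13, m24_R0_s7, nat_lit 8), (nat_lit 17, m24_R0_s5, nat_lit 8), (nat_lit 19, m24_R0_s4, nat_lit 8), (nat_lit 18, m24_R0_s3, nat_lit 8), (nat_lit 23, m24_R0_s2, nat_lit 8), (nat_lit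 6, m24_R0_s5, nat_lit 9), (nat_lit 16, m24_R0_s6, nat_lit 9), (nat_lit 12, m24_R0_s4, nat_lit 9), (nat_lit 14, m24_R0_s6, nat_lit 21), (nat_lit 5, m24_R0_s6, nat_lit 13), (nat_lit 20, m24_R0_s4, nat_lit 13), (nat_lit 4, m24_R0_s3, nat_lit 13), (nat_lit 22, m24_R0_s4, nat_lit 17), (nat_lit 3, m24_R0_s2, nat_lit 17), (nat_lit 15, m24_R0_s4, nat_lit 19), (nat_lit 7, m24_R0_s7, nat_lit 12)]
noncomputable def m24_R0_lev3 : Core.Lev := Core.mkLev m24_n m24_w m24_mask m24_L m24_maskL m24_idc (nat_lit 3) [m24_R0_s7, m24_R0_s5, m24_R0_s6, m24_R0_s4, m24_R0_s3] [(nat_lit 20, m24_R0_s3, nat_lit 3), (nat_lit 22, m24_R0_s7, nat_lit 20), (nat_lit 15, m24_R0_s5, nat_lit 20), (nat_lit 17, m24_R0_s6, nat_lit 20), (nat_lit 18, m24_R0_s4, nat_lit 20), (nat_lit 14, m24_R0_s3, nat_lit 20), (nat_lit 19, m24_R0_s6, nat_lit 22), (nat_lit 7, m24_R0_s4, nat_lit 22), (nat_lit 23, m24_R0_s3,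 nat_lit 22), (nat_lit 5, m24_R0_s5, nat_lit 15), (nat_lit 6, m24_R0_s6, nat_lit 15), (nat_lit 8, m24_R0_s4, nat_lit 15), (nat_lit 21, m24_R0_s3, nat_lit 15), (nat_lit 9, m24_R0_s7, nat_lit 18), (nat_lit 13, m24_R0_s4, nat_lit 18), (nat_lit 10, m24_R0_s7, nat_lit 7), (nat_lit 11, m24_R0_s4, nat_lit 23), (nat_lit 16, m24_R0_s3, nat_lit 23), (nat_lit 4, m24_R0_s4, nat_lit 6), (nat_lit 12, m24_R0_s4, nat_lit 9)]
noncomputable def m24_R0_lev4 : Core.Lev := Core.mkLev m24_n m24_w m24_mask m24_L m24_maskL m24_idc (nat_lit 4) [m24_R0_s7, m24_R0_s5, m24_R0_s6, m24_R0_s4] [(nat_lit 5, m24_R0_s4, nat_lit 4), (nat_lit 20, m24_R0_s5, nat_lit 5), (nat_lit 13, m24_R0_s6, nat_lit 5), (nat_lit 6, m24_R0_s4, nat_lit 5), (nat_lit 22, m24_R0_s7, nat_lit 20), (nat_lit 15, m24_R0_s5, nat_lit 20), (nat_lit 17, m24_R0_s6, nat_lit 20), (nat_lit 18, m24_R0_s4, nat_lit 20), (nat_lit 11, m24_R0_s7,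 nat_lit 13), (nat_lit 16, m24_R0_s5, nat_lit 13), (nat_lit 19, m24_R0_s6, nat_lit 22), (nat_lit 7, m24_R0_s4, nat_lit 22), (nat_lit 8, m24_R0_s4, nat_lit 15), (nat_lit 14, m24_R0_s7, nat_lit 17), (nat_lit 9, m24_R0_s7, nat_lit 18), (nat_lit 23, m24_R0_s6, nat_lit 18), (nat_lit 10, m24_R0_s4, nat_lit 11), (nat_lit 21, m24_R0_s7, nat_lit 16), (nat_lit 12, m24_R0_s4, nat_lit 9)]
noncomputable def m24_R0_lev5 : Core.Lev := Core.mkLev m24_n m24_w m24_mask m24_L m24_maskL m24_idc (nat_lit 5) [m24_R0_s7, m24_R0_s5, m24_R0_s6] [(nat_lit 20, m24_R0_s5, nat_lit 5), (nat_lit 13, m24_R0_s6, nat_lit 5), (nat_lit 22, m24_R0_s7, nat_lit 20), (nat_lit 15, m24_R0_s5, nat_lit 20), (nat_lit 17, m24_R0_s6, nat_lit 20), (nat_lit 11, m24_R0_s7, nat_lit 13), (nat_lit 16, m24_R0_s5, nat_lit 13), (nat_lit 19, m24_R0_s6, nat_lit 22), (nat_lit 6, m24_R0_s6, nat_lit 15), (nat_lit 14, m24_R0_s7,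 nat_lit 17), (nat_lit 18, m24_R0_s5, nat_lit 17), (nat_lit 8, m24_R0_s7, nat_lit 11), (nat_lit 9, m24_R0_s5, nat_lit 11), (nat_lit 21, m24_R0_s7, nat_lit 16), (nat_lit 23, m24_R0_s5, nat_lit 16)]
noncomputable def m24_R0_lev6 : Core.Lev := Core.mkLev m24_n m24_w m24_mask m24_L m24_maskL m24_idc (nat_lit 6) [m24_R0_s7] [(nat_lit 16, m24_R0_s7, nat_lit 6), (nat_lit 21, m24_R0_s7, nat_lit 16)]
noncomputable def m24_R0_levels : List Core.Lev := [m24_R0_lev0, m24_R0_lev1, m24_R0_lev2, m24_R0_lev3, m24_R0_lev4, m24_R0_lev5, m24_R0_lev6]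

noncomputable def m24_R0_cert : Simple.RepCert := ⟨nat_lit 0x24e889594170186488f55b6e58446f, [(nat_lit 0, nat_lit 2, nat_lit 2), (nat_lit 0, nat_lit 0, nat_lit 1), (nat_lit 0, nat_lit 0, nat_lit 3), (nat_lit 0, nat_lit 0, nat_lit 3), (nat_lit 0, nat_lit 0, nat_lit 4), (nat_lit 0, nat_lit 0, nat_lit 6), (nat_lit 0, nat_lit 0, nat_lit 8), (nat_lit 0, nat_lit 0, nat_lit 9), (nat_lit 0, nat_lit 0, nat_lit 8), (nat_lit 0, nat_lit 0, nat_lit 9), (nat_lit 0, nat_lit 0, nat_lit 11), (nat_lit 0, nat_lit 0, nat_lit 13), (nat_lit 0, nat_lit 0, nat_lit 14), (nat_lit 0, nat_lit 0, nat_lit 13), (nat_lit 0, nat_lit 15, nat_lit 14), (nat_lit 0, nat_lit 0, nat_lit 15), (nat_lit 0, nat_lit 0, nat_lit 18), (nat_lit 0, nat_lit 0, nat_lit 18), (nat_lit 0, nat_lit 0, nat_lit 18), (nat_lit 0, nat_lit 0, nat_lit 21), (nat_lit 0, nat_lit 0, nat_lit 21), (nat_lit 0, nat_lit 0, nat_lit 23)],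 [(nat_lit 0xa4d097080155a5139ae323e0bab4ac, nat_lit 0xa58cf9b84c59cb04346aa86e904a24), (nat_lit 0x686122bc8ba5dcaa823698ce91190c, nat_lit 0x1c5ae2267562ac1915f7a20c259e00)], m24_R0_prog, m24_R0_levels⟩

def m24_R1_T : List Nat := [nat_lit 0xbd9871d0312b9a44292294c1532e0f, nat_lit 0xb10d464de2745b258d553a0b748030, nat_lit 0x2268e98e362d58692a173b4085882f]
def m24_R1_prog : List (Nat × Nat × Nat) := [(nat_lit 1, nat_lit 2, nat_lit 0), (nat_lit 1, nat_lit 2, nat_lit 0), (nat_lit 1, nat_lit 2, nat_lit 0), (nat_lit 0, nat_lit 5, nat_lit 5), (nat_lit 0, nat_lit 0, nat_lit 6), (nat_lit 0, nat_lit 0, nat_lit 5), (nat_lit 0, nat_lit 0, nat_lit 6), (nat_lit 0, nat_lit 6, nat_lit 6), (nat_lit 0, nat_lit 0, nat_lit 1), (nat_lit 0, nat_lit 10, nat_lit 11), (nat_lit 0, nat_lit 0, nat_lit 10), (nat_lit 0, nat_lit 0, nat_lit 11), (nat_lit 0, nat_lit 0, nat_lit 13), (nat_lit 0, nat_lit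 0, nat_lit 15), (nat_lit 0, nat_lit 0, nat_lit 16), (nat_lit 0, nat_lit 0, nat_lit 15), (nat_lit 0, nat_lit 0, nat_lit 17), (nat_lit 0, nat_lit 0, nat_lit 18), (nat_lit 0, nat_lit 0, nat_lit 19), (nat_lit 0, nat_lit 0, nat_lit 20), (nat_lit 0, nat_lit 18, nat_lit 17), (nat_lit 0, nat_lit 0, nat_lit 1), (nat_lit 1, nat_lit 13, nat_lit 0), (nat_lit 1, nat_lit 1, nat_lit 0), (nat_lit 0, nat_lit 15, nat_lit 15), (nat_lit 0, nat_lit 0, nat_lit 3), (nat_lit 0, nat_lit 0, nat_lit 4), (nat_lit 0, nat_lit 0, nat_lit 18), (nat_lit 0, nat_lit 0, nat_lit 6), (nat_lit 0, nat_lit 0, nat_lit 20), (nat_lit 0, nat_lit 0, nat_lit 8), (nat_lit 0, nat_lit 0, nat_lit 9), (nat_lit 0, nat_lit 0, nat_lit 23), (nat_lit 0, nat_lit 0, nat_lit 24), (nat_lit 0, nat_lit 0, nat_lit 12), (nat_lit 0, nat_lit 11, nat_lit 12), (nat_lit 0, nat_lit 0, nat_lit 13), (nat_lit 0, nat_lit 0, nat_lit 14),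 (nat_lit 0, nat_lit 0, nat_lit 3), (nat_lit 0, nat_lit 17, nat_lit 30), (nat_lit 0, nat_lit 0, nat_lit 18), (nat_lit 0, nat_lit 0, nat_lit 32), (nat_lit 0, nat_lit 0, nat_lit 20), (nat_lit 0, nat_lit 0, nat_lit 21), (nat_lit 0, nat_lit 21, nat_lit 20), (nat_lit 0, nat_lit 0, nat_lit 22), (nat_lit 0, nat_lit 0, nat_lit 22), (nat_lit 0, nat_lit 0, nat_lit 3), (nat_lit 1, nat_lit 9, nat_lit 0), (nat_lit 1, nat_lit 1, nat_lit 0), (nat_lit 0, nat_lit 11, nat_lit 2), (nat_lit 0, nat_lit 0, nat_lit 3), (nat_lit 0, nat_lit 0, nat_lit 13), (nat_lit 0, nat_lit 0, nat_lit 14), (nat_lit 0, nat_lit 0, nat_lit 6), (nat_lit 0, nat_lit 0, nat_lit 7), (nat_lit 0, nat_lit 0, nat_lit 17), (nat_lit 0, nat_lit 0, nat_lit 9), (nat_lit 0, nat_lit 0, nat_lit 19), (nat_lit 0, nat_lit 0, nat_lit 20), (nat_lit 0, nat_lit 10, nat_lit 0), (nat_lit 0, nat_lit 10, nat_lit 22), (nat_lit 0, nat_lit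 0, nat_lit 23), (nat_lit 0, nat_lit 0, nat_lit 15), (nat_lit 0, nat_lit 0, nat_lit 16), (nat_lit 0, nat_lit 0, nat_lit 17), (nat_lit 0, nat_lit 0, nat_lit 27), (nat_lit 0, nat_lit 0, nat_lit 28), (nat_lit 0, nat_lit 0, nat_lit 20), (nat_lit 0, nat_lit 0, nat_lit 21), (nat_lit 0, nat_lit 0, nat_lit 22), (nat_lit 0, nat_lit 21, nat_lit 22), (nat_lit 0, nat_lit 0, nat_lit 1), (nat_lit 1, nat_lit 12, nat_lit 0), (nat_lit 1, nat_lit 1, nat_lit 0), (nat_lit 0, nat_lit 14, nat_lit 2), (nat_lit 0, nat_lit 0, nat_lit 15), (nat_lit 0, nat_lit 0, nat_lit 4), (nat_lit 0, nat_lit 0, nat_lit 5), (nat_lit 0, nat_lit 0, nat_lit 6), (nat_lit 0, nat_lit 0, nat_lit 19), (nat_lit 0, nat_lit 0, nat_lit 8), (nat_lit 0, nat_lit 0, nat_lit 9), (nat_lit 0, nat_lit 0, nat_lit 10), (nat_lit 0, nat_lit 0, nat_lit 23), (nat_lit 0, nat_lit 10, nat_lit 11), (nat_lit 0, nat_lit 0, nat_lit 11), (nat_lit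 0, nat_lit 0, nat_lit 12), (nat_lit 0, nat_lit 0, nat_lit 13), (nat_lit 0, nat_lit 0, nat_lit 4), (nat_lit 0, nat_lit 17, nat_lit 29), (nat_lit 0, nat_lit 0, nat_lit 30), (nat_lit 0, nat_lit 0, nat_lit 19), (nat_lit 0, nat_lit 0, nat_lit 32), (nat_lit 0, nat_lit 19, nat_lit 0), (nat_lit 0, nat_lit 34, nat_lit 34), (nat_lit 0, nat_lit 0, nat_lit 35), (nat_lit 0, nat_lit 0, nat_lit 36), (nat_lit 0, nat_lit 0, nat_lit 37), (nat_lit 0, nat_lit 0, nat_lit 26), (nat_lit 0, nat_lit 0, nat_lit 39), (nat_lit 0, nat_lit 0, nat_lit 28), (nat_lit 0, nat_lit 0, nat_lit 29), (nat_lit 0, nat_lit 28, nat_lit 28), (nat_lit 0, nat_lit 0, nat_lit 29), (nat_lit 0, nat_lit 0, nat_lit 2), (nat_lit 1, nat_lit 16, nat_lit 0), (nat_lit 1, nat_lit 1, nat_lit 0), (nat_lit 0, nat_lit 18, nat_lit 18), (nat_lit 0, nat_lit 0, nat_lit 14), (nat_lit 0, nat_lit 0, nat_lit 15), (nat_lit 0, nat_lit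 0, nat_lit 21), (nat_lit 0, nat_lit 0, nat_lit 22), (nat_lit 0, nat_lit 0, nat_lit 23), (nat_lit 0, nat_lit 0, nat_lit 8), (nat_lit 0, nat_lit 0, nat_lit 25), (nat_lit 0, nat_lit 0, nat_lit 10), (nat_lit 0, nat_lit 0, nat_lit 22), (nat_lit 0, nat_lit 0, nat_lit 23), (nat_lit 0, nat_lit 11, nat_lit 11), (nat_lit 0, nat_lit 0, nat_lit 12), (nat_lit 0, nat_lit 0, nat_lit 2), (nat_lit 0, nat_lit 27, nat_lit 32), (nat_lit 0, nat_lit 0, nat_lit 33), (nat_lit 0, nat_lit 0, nat_lit 18), (nat_lit 0, nat_lit 0, nat_lit 19), (nat_lit 0, nat_lit 0, nat_lit 31), (nat_lit 0, nat_lit 0, nat_lit 32), (nat_lit 0, nat_lit 0, nat_lit 38), (nat_lit 0, nat_lit 0, nat_lit 39), (nat_lit 0, nat_lit 0, nat_lit 35), (nat_lit 0, nat_lit 0, nat_lit 41), (nat_lit 0, nat_lit 0, nat_lit 37), (nat_lit 0, nat_lit 13, nat_lit 26), (nat_lit 0, nat_lit 0, nat_lit 27), (nat_lit 0, nat_lit 0, nat_lit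 2), (nat_lit 0, nat_lit 27, nat_lit 30), (nat_lit 0, nat_lit 0, nat_lit 47), (nat_lit 0, nat_lit 30, nat_lit 0), (nat_lit 1, nat_lit 17, nat_lit 0), (nat_lit 1, nat_lit 1, nat_lit 0), (nat_lit 1, nat_lit 5, nat_lit 0), (nat_lit 0, nat_lit 3, nat_lit 20), (nat_lit 0, nat_lit 0, nat_lit 4), (nat_lit 0, nat_lit 0, nat_lit 22), (nat_lit 0, nat_lit 0, nat_lit 23), (nat_lit 0, nat_lit 0, nat_lit 24), (nat_lit 0, nat_lit 0, nat_lit 11), (nat_lit 0, nat_lit 0, nat_lit 9), (nat_lit 0, nat_lit 0, nat_lit 10), (nat_lit 0, nat_lit 0, nat_lit 11), (nat_lit 0, nat_lit 11, nat_lit 10), (nat_lit 0, nat_lit 0, nat_lit 10), (nat_lit 0, nat_lit 0, nat_lit 2)]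
def m24_R1_s0 : Nat := nat_lit 0xbd9871d0312b9a44292294c1532e0f
def m24_R1_s1 : Nat := nat_lit 0x145cc1a02979e6d32ad5910b7a2e00
def m24_R1_s2 : Nat := nat_lit 0x84462249e861e8bb25d3299576d420
def m24_R1_s3 : Nat := nat_lit 0x449346a86c342f5b11c589e6b78820
def m24_R1_s4 : Nat := nat_lit 0xb12557d170419b16155371d3718820
def m24_R1_s5 : Nat := nat_lit 0xb5de894d6da9a0c8a8b43b92418820
def m24_R1_s6 : Nat := nat_lit 0x4caee7c6d3818a76b2a85516418820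
def m24_R1_s7 : Nat := nat_lit 0x8bcd6925d5a5d674326d540a418820
noncomputable def m24_R1_lev0 : Core.Lev := Core.mkLev m24_n m24_w m24_mask m24_L m24_maskL m24_idc (nat_lit 0) [m24_R1_s7, m24_R1_s5, m24_R1_s6, m24_R1_s4, m24_R1_s3, m24_R1_s2, m24_R1_s1, m24_R1_s0] [(nat_lit 15, m24_R1_s0, nat_lit 0), (nat_lit 20, m24_R1_s7, nat_lit 15), (nat_lit 21, m24_R1_s5, nat_lit 15), (nat_lit 16, m24_R1_s6, nat_lit 15), (nat_lit 8, m24_R1_s4, nat_lit 15), (nat_lit 6, m24_R1_s3, nat_lit 15), (nat_lit 12, m24_R1_s2, nat_lit 15), (nat_lit 5, m24_R1_s0, nat_lit 15), (nat_lit 22, m24_R1_s7, nat_lit 20), (nat_lit 14, m24_R1_s6, nat_lit 20), (nat_lit 2, m24_R1_s2, nat_lit 20), (nat_lit 7, m24_R1_s0, nat_lit 20), (nat_lit 23, m24_R1_s6, nat_lit 21), (nat_lit 18, m24_R1_s4, nat_lit 21), (nat_lit 9, m24_R1_s3, nat_lit 21), (nat_lit 3, m24_R1_s2, nat_lit 21), (nat_lit 13, m24_R1_s5, nat_lit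 16), (nat_lit 19, m24_R1_s6, nat_lit 16), (nat_lit 17, m24_R1_s0, nat_lit 16), (nat_lit 4, m24_R1_s1, nat_lit 6), (nat_lit 11, m24_R1_s2, nat_lit 12), (nat_lit 10, m24_R1_s2, nat_lit 5), (nat_lit 1, m24_R1_s1, nat_lit 17)]
noncomputable def m24_R1_lev1 : Core.Lev := Core.mkLev m24_n m24_w m24_mask m24_L m24_maskL m24_idc (nat_lit 1) [m24_R1_s7, m24_R1_s5, m24_R1_s6, m24_R1_s4, m24_R1_s3, m24_R1_s2, m24_R1_s1] [(nat_lit 16, m24_R1_s1, nat_lit 1), (nat_lit 21, m24_R1_s7, nat_lit 16), (nat_lit 13, m24_R1_s5, nat_lit 16), (nat_lit 19, m24_R1_s6, nat_lit 16), (nat_lit 12, m24_R1_s3, nat_lit 16), (nat_lit 8, m24_R1_s2, nat_lit 16), (nat_lit 9, m24_R1_s1, nat_lit 16), (nat_lit 6, m24_R1_s7, nat_lit 21), (nat_lit 15, m24_R1_s5, nat_lit 21), (nat_lit 23, m24_R1_s6, nat_lit 21), (nat_lit 18, m24_R1_s4, nat_lit 21), (nat_lit 3, m24_R1_s2, nat_lit 21), (nat_lit 14, m24_R1_s1,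 nat_lit 21), (nat_lit 11, m24_R1_s7, nat_lit 13), (nat_lit 5, m24_R1_s6, nat_lit 13), (nat_lit 20, m24_R1_s2, nat_lit 13), (nat_lit 4, m24_R1_s2, nat_lit 19), (nat_lit 7, m24_R1_s7, nat_lit 12), (nat_lit 17, m24_R1_s4, nat_lit 12), (nat_lit 10, m24_R1_s4, nat_lit 9), (nat_lit 22, m24_R1_s1, nat_lit 9), (nat_lit 2, m24_R1_s1, nat_lit 23)]
noncomputable def m24_R1_lev2 : Core.Lev := Core.mkLev m24_n m24_w m24_mask m24_L m24_maskL m24_idc (nat_lit 2) [m24_R1_s7, m24_R1_s5, m24_R1_s6, m24_R1_s4, m24_R1_s3, m24_R1_s2] [(nat_lit 21, m24_R1_s2, nat_lit 2), (nat_lit 6, m24_R1_s7, nat_lit 21), (nat_lit 15, m24_R1_s5, nat_lit 21), (nat_lit 23, m24_R1_s6, nat_lit 21), (nat_lit 18, m24_R1_s4, nat_lit 21), (nat_lit 9, m24_R1_s3, nat_lit 21), (nat_lit 3, m24_R1_s2, nat_lit 21), (nat_lit 16, m24_R1_s7, nat_lit 6), (nat_lit 14, m24_R1_s5, nat_lit 6), (nat_lit 20, m24_R1_s6, nat_lit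 6), (nat_lit 7, m24_R1_s4, nat_lit 6), (nat_lit 8, m24_R1_s4, nat_lit 15), (nat_lit 12, m24_R1_s2, nat_lit 15), (nat_lit 17, m24_R1_s7, nat_lit 23), (nat_lit 22, m24_R1_s5, nat_lit 23), (nat_lit 19, m24_R1_s5, nat_lit 18), (nat_lit 10, m24_R1_s3, nat_lit 18), (nat_lit 5, m24_R1_s5, nat_lit 9), (nat_lit 13, m24_R1_s2, nat_lit 3), (nat_lit 11, m24_R1_s2, nat_lit 12), (nat_lit 4, m24_R1_s4, nat_lit 22)]
noncomputable def m24_R1_lev3 : Core.Lev := Core.mkLev m24_n m24_w m24_mask m24_L m24_maskL m24_idc (nat_lit 3) [m24_R1_s7, m24_R1_s5, m24_R1_s6, m24_R1_s4, m24_R1_s3] [(nat_lit 15, m24_R1_s3, nat_lit 3), (nat_lit 20, m24_R1_s7, nat_lit 15), (nat_lit 21, m24_R1_s5, nat_lit 15), (nat_lit 16, m24_R1_s6, nat_lit 15), (nat_lit 8, m24_R1_s4, nat_lit 15), (nat_lit 6, m24_R1_s3, nat_lit 15), (nat_lit 22, m24_R1_s7, nat_lit 20), (nat_lit 14, m24_R1_s6, nat_lit 20), (nat_lit 23,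 m24_R1_s6, nat_lit 21), (nat_lit 18, m24_R1_s4, nat_lit 21), (nat_lit 9, m24_R1_s3, nat_lit 21), (nat_lit 13, m24_R1_s5, nat_lit 16), (nat_lit 19, m24_R1_s6, nat_lit 16), (nat_lit 12, m24_R1_s3, nat_lit 16), (nat_lit 5, m24_R1_s3, nat_lit 8), (nat_lit 7, m24_R1_s4, nat_lit 6), (nat_lit 4, m24_R1_s4, nat_lit 22), (nat_lit 17, m24_R1_s7, nat_lit 23), (nat_lit 10, m24_R1_s3, nat_lit 18), (nat_lit 11, m24_R1_s7, nat_lit 13)]
noncomputable def m24_R1_lev4 : Core.Lev := Core.mkLev m24_n m24_w m24_mask m24_L m24_maskL m24_idc (nat_lit 4) [m24_R1_s7, m24_R1_s5, m24_R1_s6, m24_R1_s4] [(nat_lit 23, m24_R1_s4, nat_lit 4), (nat_lit 17, m24_R1_s7, nat_lit 23), (nat_lit 22, m24_R1_s5, nat_lit 23), (nat_lit 9, m24_R1_s6, nat_lit 23), (nat_lit 14, m24_R1_s7, nat_lit 17), (nat_lit 11, m24_R1_s5, nat_lit 17), (nat_lit 15, m24_R1_s7, nat_lit 22), (nat_lit 18, m24_R1_s6, nat_lit 22),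 (nat_lit 19, m24_R1_s7, nat_lit 9), (nat_lit 5, m24_R1_s5, nat_lit 9), (nat_lit 21, m24_R1_s6, nat_lit 9), (nat_lit 10, m24_R1_s4, nat_lit 9), (nat_lit 6, m24_R1_s5, nat_lit 14), (nat_lit 8, m24_R1_s7, nat_lit 11), (nat_lit 13, m24_R1_s6, nat_lit 11), (nat_lit 12, m24_R1_s4, nat_lit 11), (nat_lit 20, m24_R1_s7, nat_lit 15), (nat_lit 16, m24_R1_s6, nat_lit 15), (nat_lit 7, m24_R1_s4, nat_lit 6)]
noncomputable def m24_R1_lev5 : Core.Lev := Core.mkLev m24_n m24_w m24_mask m24_L m24_maskL m24_idc (nat_lit 5) [m24_R1_s7, m24_R1_s5, m24_R1_s6] [(nat_lit 9, m24_R1_s5, nat_lit 5), (nat_lit 11, m24_R1_s6, nat_lit 5), (nat_lit 19, m24_R1_s7, nat_lit 9), (nat_lit 21, m24_R1_s6, nat_lit 9), (nat_lit 8, m24_R1_s7, nat_lit 11), (nat_lit 17, m24_R1_s5, nat_lit 11), (nat_lit 13, m24_R1_s6, nat_lit 11), (nat_lit 18, m24_R1_s7, nat_lit 19), (nat_lit 15, m24_R1_s6, nat_lit 19), (nat_lit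 6, m24_R1_s7, nat_lit 21), (nat_lit 23, m24_R1_s6, nat_lit 21), (nat_lit 20, m24_R1_s5, nat_lit 8), (nat_lit 14, m24_R1_s7, nat_lit 17), (nat_lit 22, m24_R1_s6, nat_lit 17), (nat_lit 16, m24_R1_s5, nat_lit 13)]
noncomputable def m24_R1_lev6 : Core.Lev := Core.mkLev m24_n m24_w m24_mask m24_L m24_maskL m24_idc (nat_lit 6) [m24_R1_s7] [(nat_lit 16, m24_R1_s7, nat_lit 6), (nat_lit 21, m24_R1_s7, nat_lit 16)]
noncomputable def m24_R1_levels : List Core.Lev := [m24_R1_lev0, m24_R1_lev1, m24_R1_lev2, m24_R1_lev3, m24_R1_lev4, m24_R1_lev5, m24_R1_lev6]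

noncomputable def m24_R1_cert : Simple.RepCert := ⟨nat_lit 0x2268e98e362d58692a173b4085882f, [(nat_lit 0, nat_lit 0, nat_lit 1), (nat_lit 0, nat_lit 0, nat_lit 3), (nat_lit 0, nat_lit 0, nat_lit 2), (nat_lit 0, nat_lit 0, nat_lit 5), (nat_lit 0, nat_lit 0, nat_lit 5), (nat_lit 0, nat_lit 0, nat_lit 6), (nat_lit 0, nat_lit 0, nat_lit 8), (nat_lit 0, nat_lit 0, nat_lit 7), (nat_lit 0, nat_lit 0, nat_lit 10), (nat_lit 0, nat_lit 0, nat_lit 10), (nat_lit 0, nat_lit 6, nat_lit 12), (nat_lit 0, nat_lit 0, nat_lit 12), (nat_lit 0, nat_lit 0, nat_lit 12), (nat_lit 0, nat_lit 0, nat_lit 14), (nat_lit 0, nat_lit 0, nat_lit 15), (nat_lit 0, nat_lit 0, nat_lit 15), (nat_lit 0, nat_lit 0, nat_lit 18), (nat_lit 0, nat_lit 16, nat_lit 17), (nat_lit 0, nat_lit 0, nat_lit 19), (nat_lit 0, nat_lit 0, nat_lit 19), (nat_lit 0, nat_lit 0, nat_lit 20), (nat_lit 0, nat_lit 0, nat_lit 21)],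 [(nat_lit 0xbd9871d0312b9a44292294c1532e0f, nat_lit 0x30a11b51c87858493563bd4b33a920), (nat_lit 0xb10d464de2745b258d553a0b748030, nat_lit 0x4826c399a2b49eeaae032c48a45037), (nat_lit 0x2268e98e362d58692a173b4085882f, nat_lit 0xbdab49ca307b9ac5a928398a418820)], m24_R1_prog, m24_R1_levels⟩

def m24_P0_T : List Nat := [nat_lit 0x24e889594170186488f55b6e58446f, nat_lit 0x2268e98e362d58692a173b4085882f]
def m24_P0_prog : List (Nat × Nat × Nat) := [(nat_lit 1, nat_lit 1, nat_lit 0), (nat_lit 1, nat_lit 1, nat_lit 0), (nat_lit 0, nat_lit 2, nat_lit 3), (nat_lit 0, nat_lit 0, nat_lit 4), (nat_lit 0, nat_lit 0, nat_lit 5), (nat_lit 0, nat_lit 0, nat_lit 5), (nat_lit 0, nat_lit 0, nat_lit 7), (nat_lit 0, nat_lit 0, nat_lit 7), (nat_lit 0, nat_lit 7, nat_lit 7), (nat_lit 0, nat_lit 0, nat_lit 7), (nat_lit 0, nat_lit 0, nat_lit 9), (nat_lit 0, nat_lit 0, nat_lit 3)]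
def m24_P0_s0 : Nat := nat_lit 0x24e889594170186488f55b6e58446f
def m24_P0_s1 : Nat := nat_lit 0xbcea45c141a15acb08ee1990f4c640
noncomputable def m24_P0_lev0 : Core.Lev := Core.mkLev m24_n m24_w m24_mask m24_L m24_maskL m24_idc (nat_lit 0) [m24_P0_s1, m24_P0_s0] [(nat_lit 15, m24_P0_s0, nat_lit 0), (nat_lit 20, m24_P0_s1, nat_lit 15), (nat_lit 14, m24_P0_s0, nat_lit 15), (nat_lit 4, m24_P0_s1, nat_lit 20), (nat_lit 8, m24_P0_s0, nat_lit 20), (nat_lit 5, m24_P0_s1, nat_lit 14), (nat_lit 21, m24_P0_s0, nat_lit 8), (nat_lit 23, m24_P0_s0, nat_lit 5)]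
noncomputable def m24_P0_lev1 : Core.Lev := Core.mkLev m24_n m24_w m24_mask m24_L m24_maskL m24_idc (nat_lit 1) [m24_P0_s1] [(nat_lit 18, m24_P0_s1, nat_lit 1), (nat_lit 16, m24_P0_s1, nat_lit 18)]
noncomputable def m24_P0_levels : List Core.Lev := [m24_P0_lev0, m24_P0_lev1]

noncomputable def m24_P0_cert : Simple.SylCert := ⟨nat_lit 3, nat_lit 27, m24_P0_T, m24_P0_prog, m24_P0_levels, [nat_lit 0xbdab49ca307b9ac5a928398a418820], [(nat_lit 0x24e889594170186488f55b6e58446f, nat_lit 0xbdab49ca307b9ac5a928398a418820, nat_lit 1, nat_lit 0x24e889594170186488f55b6e58446f), (nat_lit 0x2268e98e362d58692a173b4085882f, nat_lit 0xbdab49ca307b9ac5a928398a418820, nat_lit 1, nat_lit 0x2268e98e362d58692a173b4085882f), (nat_lit 0x2c915b4c4303ccd3c5744b0970aa0e, nat_lit 0xa9c614ae2e9d8a4309906de88029f2, nat_lit 1, nat_lit 0x24e889594170186488f55b6e58446f), (nat_lit 0x44dd71a541abccd808f493080b4565,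 nat_lit 0x246e3deaa0c2768d08f2c9ac5a046, nat_lit 1, nat_lit 0x24e889594170186488f55b6e58446f), (nat_lit 0x29d0094153bd0cdb08245b1f54c46e, nat_lit 0x19cc2958930a914495cd5d60c7dc11, nat_lit 1, nat_lit 0x24e889594170186488f55b6e58446f), (nat_lit 0x441d59ae29050cd1aac43b1f790825, nat_lit 0x324b54046a8c97b45af0a1c549e74, nat_lit 1, nat_lit 0x2268e98e362d58692a173b4085882f), (nat_lit 0xef44cc4b795ac3c64e819040aad5, nat_lit 0xca7411a95384181af4b4eb15b24f, nat_lit 1, nat_lit 0x2268e98e362d58692a173b4085882f), (nat_lit 0xac80481c43a39ac0c568b18af9a937, nat_lit 0x63cd2716f55cc474a2c102a23a120d, nat_lit 1, nat_lit 0x2268e98e362d58692a173b4085882f), (nat_lit 0xbcea45c141a15acb08ee1990f4c640, nat_lit 0x15660a5ae92c9417118b31c6f6a211, nat_lit 1, nat_lit 0x2268e98e362d58692a173b4085882f), (nat_lit 0xbaeafb0452221ac9c465499d43aa00, nat_lit 0xdceb41acc93a6a241f5046832a5a2, nat_lit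 1, nat_lit 0x2268e98e362d58692a173b4085882f), (nat_lit 0x1eef1d953239ac48828918b484575, nat_lit 0x4308e036c5a84f11a56234d547c257, nat_lit 1, nat_lit 0x2268e98e362d58692a173b4085882f), (nat_lit 0xa8414925477a1ac80a65599c4b4477, nat_lit 0x22d017968d55a6733809646021d657, nat_lit 1, nat_lit 0x2268e98e362d58692a173b4085882f), (nat_lit 0x7c0883ca2975d865aac00b6a518a74, nat_lit 0xaae0020452a398689c6f435369aae5, nat_lit 1, nat_lit 0x2268e98e362d58692a173b4085882f), (nat_lit 0x7ac8e84c52281863c475b36e80a934, nat_lit 0x15ce69da928b40f254692b94b8202c, nat_lit 1, nat_lit 0x24e889594170186488f55b6e58446f), (nat_lit 0xa59e50ae30401861a9359b6ee908e4, nat_lit 0x709b518147621307c66695a8428577, nat_lit 1, nat_lit 0x2268e98e362d58692a173b4085882f), (nat_lit 0xa0de8b1c4b755860c6574b4059aa04, nat_lit 0x16af248c2a21278b26eb2c30bb543, nat_lit 1, nat_lit 0x24e889594170186488f55b6e58446f),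 (nat_lit 0x24a854844345d869c560836ae3aacf, nat_lit 0x58ccd9c29751deeb56422818922031, nat_lit 1, nat_lit 0x24e889594170186488f55b6e58446f), (nat_lit 0x79c855a55345586808371b40eb4654, nat_lit 0x121c6192c18bd6984caaa9da0a4aec, nat_lit 1, nat_lit 0x24e889594170186488f55b6e58446f), (nat_lit 0xa05ee1c1472dd86b0a60936a84c564, nat_lit 0x6d54c20663118eb44ae08262e2da8f, nat_lit 1, nat_lit 0x24e889594170186488f55b6e58446f), (nat_lit 0x704b55d947010cd48a6f1b29784648, nat_lit 0x5120365eaf90967351b372431020b6, nat_lit 1, nat_lit 0x24e889594170186488f55b6e58446f), (nat_lit 0x2d91738e30a90cd9292f0b28058a6e, nat_lit 0x91d0b7d02221a09ac5572d86d74c0c, nat_lit 1, nat_lit 0x2268e98e362d58692a173b4085882f), (nat_lit 0x724a00ca36bbccd5aa149b095188e8, nat_lit 0xbda4670830411e054d2ca146b3c6ad, nat_lit 1, nat_lit 0x2268e98e362d58692a173b4085882f), (nat_lit 0x72cb749c52ad0cd0c464831e09aac8,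 nat_lit 0xa16d550c01920ccbb8478366b8bc89, nat_lit 1, nat_lit 0x24e889594170186488f55b6e58446f), (nat_lit 0x40dc08044bb90cd9c64fb32953a925, nat_lit 0x9caab54d385de0931034ba245b682, nat_lit 1, nat_lit 0x24e889594170186488f55b6e58446f), (nat_lit 0x26e43ae36a21ac1aa05099cf90a75, nat_lit 0x28df5b1852722676a9774849464600, nat_lit 1, nat_lit 0x2268e98e362d58692a173b4085882f), (nat_lit 0xac00f08e29215ac92ace99914588f7, nat_lit 0x620c97c95783a3359c9400ab6184ad, nat_lit 1, nat_lit 0x2268e98e362d58692a173b4085882f)], [(nat_lit 1, nat_lit 2, nat_lit 0), (nat_lit 0, nat_lit 3, nat_lit 0), (nat_lit 1, nat_lit 3, nat_lit 0), (nat_lit 0, nat_lit 2, nat_lit 0), (nat_lit 1, nat_lit 4, nat_lit 0), (nat_lit 0, nat_lit 0, nat_lit 1), (nat_lit 0, nat_lit 1, nat_lit 0), (nat_lit 0, nat_lit 2, nat_lit 0), (nat_lit 0, nat_lit 7, nat_lit 0), (nat_lit 0, nat_lit 8, nat_lit 0), (nat_lit 0, nat_lit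 7, nat_lit 0), (nat_lit 0, nat_lit 10, nat_lit 0), (nat_lit 0, nat_lit 11, nat_lit 0), (nat_lit 0, nat_lit 12, nat_lit 0), (nat_lit 0, nat_lit 13, nat_lit 0), (nat_lit 0, nat_lit 14, nat_lit 0), (nat_lit 0, nat_lit 11, nat_lit 15), (nat_lit 0, nat_lit 16, nat_lit 0), (nat_lit 0, nat_lit 13, nat_lit 0), (nat_lit 0, nat_lit 18, nat_lit 0), (nat_lit 0, nat_lit 19, nat_lit 0), (nat_lit 0, nat_lit 16, nat_lit 0), (nat_lit 0, nat_lit 21, nat_lit 0), (nat_lit 0, nat_lit 18, nat_lit 0), (nat_lit 0, nat_lit 23, nat_lit 0), (nat_lit 0, nat_lit 24, nat_lit 0), (nat_lit 0, nat_lit 25, nat_lit 0), (nat_lit 0, nat_lit 26, nat_lit 0), (nat_lit 0, nat_lit 27, nat_lit 0), (nat_lit 0, nat_lit 26, nat_lit 0), (nat_lit 0, nat_lit 27, nat_lit 29), (nat_lit 0, nat_lit 30, nat_lit 0), (nat_lit 0, nat_lit 27, nat_lit 0), (nat_lit 0, nat_lit 28, nat_lit 0), (nat_lit 0, nat_lit 33, nat_lit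 0), (nat_lit 0, nat_lit 30, nat_lit 0), (nat_lit 0, nat_lit 35, nat_lit 0), (nat_lit 0, nat_lit 32, nat_lit 0), (nat_lit 0, nat_lit 33, nat_lit 0), (nat_lit 0, nat_lit 38, nat_lit 0), (nat_lit 0, nat_lit 39, nat_lit 0), (nat_lit 0, nat_lit 38, nat_lit 0), (nat_lit 0, nat_lit 41, nat_lit 37), (nat_lit 0, nat_lit 42, nat_lit 0), (nat_lit 0, nat_lit 39, nat_lit 0), (nat_lit 0, nat_lit 40, nat_lit 0), (nat_lit 0, nat_lit 41, nat_lit 0), (nat_lit 0, nat_lit 42, nat_lit 0), (nat_lit 0, nat_lit 47, nat_lit 0), (nat_lit 0, nat_lit 44, nat_lit 0), (nat_lit 0, nat_lit 45, nat_lit 0), (nat_lit 0, nat_lit 50, nat_lit 0), (nat_lit 0, nat_lit 47, nat_lit 0), (nat_lit 0, nat_lit 50, nat_lit 0), (nat_lit 0, nat_lit 49, nat_lit 49), (nat_lit 0, nat_lit 52, nat_lit 0), (nat_lit 0, nat_lit 55, nat_lit 0), (nat_lit 0, nat_lit 54, nat_lit 0), (nat_lit 0, nat_lit 57, nat_lit 0), (nat_lit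 0, nat_lit 58, nat_lit 0), (nat_lit 0, nat_lit 57, nat_lit 0), (nat_lit 0, nat_lit 60, nat_lit 0), (nat_lit 0, nat_lit 57, nat_lit 0), (nat_lit 0, nat_lit 60, nat_lit 0), (nat_lit 0, nat_lit 63, nat_lit 0), (nat_lit 0, nat_lit 60, nat_lit 0), (nat_lit 0, nat_lit 63, nat_lit 0), (nat_lit 0, nat_lit 66, nat_lit 63), (nat_lit 0, nat_lit 63, nat_lit 0), (nat_lit 0, nat_lit 68, nat_lit 0), (nat_lit 0, nat_lit 69, nat_lit 0), (nat_lit 0, nat_lit 70, nat_lit 0), (nat_lit 0, nat_lit 67, nat_lit 0), (nat_lit 0, nat_lit 70, nat_lit 0), (nat_lit 0, nat_lit 73, nat_lit 0), (nat_lit 0, nat_lit 70, nat_lit 0), (nat_lit 0, nat_lit 75, nat_lit 0), (nat_lit 0, nat_lit 74, nat_lit 0), (nat_lit 0, nat_lit 77, nat_lit 0), (nat_lit 0, nat_lit 78, nat_lit 78), (nat_lit 0, nat_lit 77, nat_lit 0), (nat_lit 0, nat_lit 80, nat_lit 0), (nat_lit 0, nat_lit 81, nat_lit 0), (nat_lit 0, nat_lit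 82, nat_lit 0), (nat_lit 0, nat_lit 81, nat_lit 0), (nat_lit 0, nat_lit 84, nat_lit 0), (nat_lit 0, nat_lit 81, nat_lit 0), (nat_lit 0, nat_lit 82, nat_lit 0), (nat_lit 0, nat_lit 87, nat_lit 0), (nat_lit 0, nat_lit 88, nat_lit 0), (nat_lit 0, nat_lit 85, nat_lit 0), (nat_lit 0, nat_lit 86, nat_lit 0), (nat_lit 0, nat_lit 87, nat_lit 0), (nat_lit 0, nat_lit 90, nat_lit 86), (nat_lit 0, nat_lit 93, nat_lit 0), (nat_lit 0, nat_lit 90, nat_lit 0), (nat_lit 0, nat_lit 91, nat_lit 0), (nat_lit 0, nat_lit 96, nat_lit 0), (nat_lit 0, nat_lit 93, nat_lit 0), (nat_lit 0, nat_lit 94, nat_lit 0), (nat_lit 0, nat_lit 95, nat_lit 0), (nat_lit 0, nat_lit 100, nat_lit 0), (nat_lit 0, nat_lit 101, nat_lit 0), (nat_lit 0, nat_lit 102, nat_lit 0), (nat_lit 0, nat_lit 99, nat_lit 47), (nat_lit 0, nat_lit 104, nat_lit 0), (nat_lit 0, nat_lit 105, nat_lit 0), (nat_lit 0, nat_lit 102,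 nat_lit 0), (nat_lit 0, nat_lit 107, nat_lit 0), (nat_lit 0, nat_lit 108, nat_lit 0), (nat_lit 0, nat_lit 109, nat_lit 0), (nat_lit 0, nat_lit 110, nat_lit 0), (nat_lit 0, nat_lit 111, nat_lit 0), (nat_lit 0, nat_lit 112, nat_lit 0), (nat_lit 0, nat_lit 109, nat_lit 34), (nat_lit 0, nat_lit 114, nat_lit 0), (nat_lit 0, nat_lit 111, nat_lit 0), (nat_lit 0, nat_lit 114, nat_lit 0), (nat_lit 0, nat_lit 117, nat_lit 0), (nat_lit 0, nat_lit 114, nat_lit 0), (nat_lit 0, nat_lit 119, nat_lit 0), (nat_lit 0, nat_lit 120, nat_lit 0), (nat_lit 0, nat_lit 117, nat_lit 0), (nat_lit 0, nat_lit 120, nat_lit 0), (nat_lit 0, nat_lit 123, nat_lit 0), (nat_lit 0, nat_lit 122, nat_lit 0), (nat_lit 0, nat_lit 121, nat_lit 109), (nat_lit 0, nat_lit 124, nat_lit 0), (nat_lit 0, nat_lit 127, nat_lit 0), (nat_lit 0, nat_lit 128, nat_lit 0), (nat_lit 0, nat_lit 129, nat_lit 0), (nat_lit 0,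 nat_lit 126, nat_lit 0), (nat_lit 0, nat_lit 131, nat_lit 0), (nat_lit 0, nat_lit 132, nat_lit 0), (nat_lit 0, nat_lit 133, nat_lit 0), (nat_lit 0, nat_lit 130, nat_lit 0), (nat_lit 0, nat_lit 135, nat_lit 0), (nat_lit 0, nat_lit 136, nat_lit 0), (nat_lit 0, nat_lit 137, nat_lit 0), (nat_lit 0, nat_lit 136, nat_lit 71), (nat_lit 0, nat_lit 139, nat_lit 0), (nat_lit 0, nat_lit 136, nat_lit 0), (nat_lit 0, nat_lit 141, nat_lit 0), (nat_lit 0, nat_lit 140, nat_lit 0), (nat_lit 0, nat_lit 143, nat_lit 0), (nat_lit 0, nat_lit 144, nat_lit 0), (nat_lit 0, nat_lit 143, nat_lit 0), (nat_lit 0, nat_lit 146, nat_lit 0), (nat_lit 0, nat_lit 143, nat_lit 0), (nat_lit 0, nat_lit 146, nat_lit 0), (nat_lit 0, nat_lit 147, nat_lit 20), (nat_lit 0, nat_lit 150, nat_lit 0), (nat_lit 0, nat_lit 147, nat_lit 0), (nat_lit 0, nat_lit 148, nat_lit 0), (nat_lit 0, nat_lit 149, nat_lit 39),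 (nat_lit 0, nat_lit 150, nat_lit 0), (nat_lit 0, nat_lit 151, nat_lit 0), (nat_lit 0, nat_lit 156, nat_lit 0), (nat_lit 0, nat_lit 153, nat_lit 0), (nat_lit 0, nat_lit 154, nat_lit 0), (nat_lit 0, nat_lit 155, nat_lit 0), (nat_lit 0, nat_lit 160, nat_lit 0), (nat_lit 0, nat_lit 157, nat_lit 0), (nat_lit 0, nat_lit 162, nat_lit 0), (nat_lit 0, nat_lit 161, nat_lit 0), (nat_lit 0, nat_lit 164, nat_lit 147), (nat_lit 0, nat_lit 161, nat_lit 0), (nat_lit 0, nat_lit 166, nat_lit 0), (nat_lit 0, nat_lit 163, nat_lit 0), (nat_lit 0, nat_lit 164, nat_lit 0), (nat_lit 0, nat_lit 167, nat_lit 0), (nat_lit 0, nat_lit 170, nat_lit 0), (nat_lit 0, nat_lit 171, nat_lit 0), (nat_lit 0, nat_lit 172, nat_lit 0), (nat_lit 0, nat_lit 169, nat_lit 0), (nat_lit 0, nat_lit 172, nat_lit 0), (nat_lit 0, nat_lit 175, nat_lit 0), (nat_lit 0, nat_lit 174, nat_lit 159), (nat_lit 0, nat_lit 177,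 nat_lit 0), (nat_lit 0, nat_lit 178, nat_lit 0), (nat_lit 0, nat_lit 177, nat_lit 0), (nat_lit 0, nat_lit 180, nat_lit 0), (nat_lit 0, nat_lit 181, nat_lit 0), (nat_lit 0, nat_lit 180, nat_lit 0), (nat_lit 0, nat_lit 183, nat_lit 0), (nat_lit 0, nat_lit 180, nat_lit 0), (nat_lit 0, nat_lit 183, nat_lit 0), (nat_lit 0, nat_lit 186, nat_lit 0), (nat_lit 0, nat_lit 185, nat_lit 145), (nat_lit 0, nat_lit 188, nat_lit 0), (nat_lit 0, nat_lit 189, nat_lit 0), (nat_lit 0, nat_lit 190, nat_lit 0), (nat_lit 0, nat_lit 187, nat_lit 0), (nat_lit 0, nat_lit 192, nat_lit 0), (nat_lit 0, nat_lit 189, nat_lit 0), (nat_lit 0, nat_lit 194, nat_lit 0), (nat_lit 0, nat_lit 193, nat_lit 0), (nat_lit 0, nat_lit 196, nat_lit 0), (nat_lit 0, nat_lit 195, nat_lit 0), (nat_lit 0, nat_lit 198, nat_lit 192), (nat_lit 0, nat_lit 195, nat_lit 0), (nat_lit 0, nat_lit 196, nat_lit 0), (nat_lit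 0, nat_lit 197, nat_lit 0), (nat_lit 0, nat_lit 198, nat_lit 0), (nat_lit 0, nat_lit 203, nat_lit 0), (nat_lit 0, nat_lit 204, nat_lit 0), (nat_lit 0, nat_lit 205, nat_lit 0), (nat_lit 0, nat_lit 206, nat_lit 0), (nat_lit 0, nat_lit 207, nat_lit 0), (nat_lit 0, nat_lit 206, nat_lit 0), (nat_lit 0, nat_lit 209, nat_lit 0), (nat_lit 0, nat_lit 206, nat_lit 142), (nat_lit 0, nat_lit 209, nat_lit 0), (nat_lit 0, nat_lit 212, nat_lit 0), (nat_lit 0, nat_lit 209, nat_lit 0), (nat_lit 0, nat_lit 214, nat_lit 0), (nat_lit 0, nat_lit 213, nat_lit 0), (nat_lit 0, nat_lit 216, nat_lit 0), (nat_lit 0, nat_lit 217, nat_lit 0), (nat_lit 0, nat_lit 218, nat_lit 92), (nat_lit 0, nat_lit 219, nat_lit 0), (nat_lit 0, nat_lit 220, nat_lit 0), (nat_lit 0, nat_lit 221, nat_lit 0), (nat_lit 0, nat_lit 218, nat_lit 0), (nat_lit 0, nat_lit 219, nat_lit 0), (nat_lit 0, nat_lit 224, nat_lit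 0), (nat_lit 0, nat_lit 225, nat_lit 0), (nat_lit 0, nat_lit 226, nat_lit 0), (nat_lit 0, nat_lit 223, nat_lit 0), (nat_lit 0, nat_lit 228, nat_lit 0), (nat_lit 0, nat_lit 225, nat_lit 125), (nat_lit 0, nat_lit 226, nat_lit 0), (nat_lit 0, nat_lit 227, nat_lit 0), (nat_lit 0, nat_lit 230, nat_lit 0), (nat_lit 0, nat_lit 233, nat_lit 0), (nat_lit 0, nat_lit 234, nat_lit 0), (nat_lit 0, nat_lit 231, nat_lit 0), (nat_lit 0, nat_lit 234, nat_lit 0), (nat_lit 0, nat_lit 233, nat_lit 183), (nat_lit 0, nat_lit 238, nat_lit 0), (nat_lit 0, nat_lit 235, nat_lit 0), (nat_lit 0, nat_lit 236, nat_lit 0), (nat_lit 0, nat_lit 241, nat_lit 0), (nat_lit 0, nat_lit 238, nat_lit 0), (nat_lit 0, nat_lit 241, nat_lit 0), (nat_lit 0, nat_lit 244, nat_lit 0), (nat_lit 0, nat_lit 243, nat_lit 0), (nat_lit 0, nat_lit 246, nat_lit 0), (nat_lit 0, nat_lit 247, nat_lit 0), (nat_lit 0, nat_lit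 246, nat_lit 0), (nat_lit 0, nat_lit 245, nat_lit 38), (nat_lit 0, nat_lit 250, nat_lit 0), (nat_lit 0, nat_lit 251, nat_lit 0), (nat_lit 0, nat_lit 248, nat_lit 0), (nat_lit 0, nat_lit 249, nat_lit 0), (nat_lit 0, nat_lit 252, nat_lit 0), (nat_lit 0, nat_lit 251, nat_lit 129), (nat_lit 0, nat_lit 254, nat_lit 0), (nat_lit 0, nat_lit 257, nat_lit 0), (nat_lit 0, nat_lit 254, nat_lit 0), (nat_lit 0, nat_lit 255, nat_lit 0), (nat_lit 0, nat_lit 256, nat_lit 0), (nat_lit 0, nat_lit 261, nat_lit 0), (nat_lit 0, nat_lit 260, nat_lit 0), (nat_lit 0, nat_lit 263, nat_lit 0), (nat_lit 0, nat_lit 264, nat_lit 0), (nat_lit 0, nat_lit 261, nat_lit 0)]⟩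

noncomputable def m24_reps : List Simple.RepCert := [m24_R0_cert, m24_R1_cert]
noncomputable def m24_syls : List Simple.SylCert := [m24_P0_cert]

set_option maxRecDepth 1000000 in
theorem m24_G_ok : Core.checkAll m24_n m24_w m24_mask m24_L m24_maskL m24_idc m24_G_T m24_G_prog m24_G_levels = true := by decide +kernel

theorem m24_order : Core.orderC m24_G_levels = 244823040 := by decide +kernel

set_option maxRecDepth 1000000 in
theorem m24_reps_ok : Core.allL (Simple.repCheck m24_n m24_w m24_mask m24_L m24_maskL m24_idc m24_G_T m24_G_levels 244823040) m24_reps = true := by decide +kernel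

set_option maxRecDepth 1000000 in
theorem m24_syls_ok : Core.allL (Simple.sylCheck m24_n m24_w m24_mask m24_L m24_maskL m24_idc m24_G_T m24_G_levels 244823040 (m24_reps.map (·.r))) m24_syls = true := by decide +kernel


end Cfsg.Agent.Lib.PermComp.Mathieu.CertM24
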