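import Cfsg.Agent.Lib.PermComp.Mathieu.Bridge
import Cfsg.Agent.Lib.PermComp.Mathieu.CertM24
import Cfsg.Agent.Lib.PermComp.Mathieu.CertM23
import Cfsg.Agent.Lib.PermComp.Mathieu.CertM22

/-!
# Simplicity of the group of the length-24 code and of its point stabilizers
-/

namespace Cfsg.Agent.Lib.PermComp.Mathieu.Simple2x

open Cfsg Cfsg.Agent.Lib.PermComp Cfsg.Agent.Lib.PermComp.G24 Cfsg.Agent.Lib.PermComp.Mathieu.Bridge
open Cfsg.Agent.Lib.Golay.Chain (Fix mem_Fix)
open Cfsg.Agent.Lib.Golay.M24 (card_F1 card_F2 card_M24 isMultiplyPretransitive_five)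
open Cfsg.Agent.Lib.Golay.Core (pt)
open Cfsg.Agent.Lib.PermComp.Mathieu.CertM24 Cfsg.Agent.Lib.PermComp.Mathieu.CertM23
  Cfsg.Agent.Lib.PermComp.Mathieu.CertM22

/-! ### Transitivity -/

instance instTwo : MulAction.IsMultiplyPretransitive M24 GolayPt 2 := by
  have := isMultiplyPretransitive_five
  exact MulAction.isMultiplyPretransitive_of_le (n := 5) (by norm_num) (by
    rw [Nat.card_eq_fintype_card, Cfsg.Agent.Lib.Golay.Core.card_golayPt]; norm_num)

instance instOne : MulAction.IsPretransitive M24 GolayPt :=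
  MulAction.isPretransitive_of_is_two_pretransitive

theorem exists_two {a b c d : GolayPt} (hab : a ≠ b) (hcd : c ≠ d) :
    ∃ g : M24, g • a = c ∧ g • b = d :=
  MulAction.is_two_pretransitive_iff.1 instTwo hab hcd

/-! ### `M24` -/

theorem m24_all : allAut m24_G_T = true := by decide +kernel

theorem H_m24_card : Nat.card (Core.H 5 31 e24 m24_G_T) = 244823040 := by
  obtain ⟨-, -, -, -, -, h⟩ := Core.main_of_checkAll (e := e24) (exists_rep24_of_all m24_all) m24_G_ok
  exact h.trans m24_order

/-- The group of the code is generated by the three codes. -/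
theorem H_m24_eq : Core.H 5 31 e24 m24_G_T = M24 :=
  Subgroup.eq_of_le_of_card_ge (H_le_M24 m24_all) (by rw [H_m24_card, card_M24])

/-- The group of the code is simple. -/
theorem isSimple_M24 : IsSimpleGroup M24 := by
  have hprim : MulAction.IsPreprimitive (Core.H m24_w m24_mask e24 m24_G_T) GolayPt := by
    show MulAction.IsPreprimitive (Core.H 5 31 e24 m24_G_T) GolayPt
    rw [H_m24_eq]
    exact MulAction.isPreprimitive_of_is_two_pretransitive instTwo
  have h := Simple.isSimple_of_cert_primitive (e := e24) (sc := m24_P0_cert)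
    (exists_rep24_of_all m24_all) m24_G_ok m24_order (by norm_num) m24_reps_ok
    ((Core.allL_eq_true _ _).1 m24_syls_ok m24_P0_cert (by simp [m24_syls])) hprim
    (by
      rw [Nat.card_eq_fintype_card, Cfsg.Agent.Lib.Golay.Core.card_golayPt]
      decide)
  have h' : IsSimpleGroup (Core.H 5 31 e24 m24_G_T) := h
  rwa [H_m24_eq] at h'

/-! ### The point stabilizer -/

theorem m23_all : allAut m23_G_T = true := by decide +kernel

theorem H_m23_card : Nat.card (Core.H 5 31 e24 m23_G_T) = 10200960 := by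
  obtain ⟨-, -, -, -, -, h⟩ := Core.main_of_checkAll (e := e24) (exists_rep24_of_all m23_all) m23_G_ok
  exact h.trans m23_order

theorem isSimple_H_m23 : IsSimpleGroup (Core.H 5 31 e24 m23_G_T) :=
  Simple.isSimple_of_cert (e := e24) (exists_rep24_of_all m23_all) m23_G_ok m23_order (by norm_num)
    m23_reps_ok m23_syls_ok m23_prod

/-- Two generators of the stabilizer of the extra point. -/
theorem H_m23_eq : Core.H 5 31 e24 m23_G_T = Fix [23] := by
  refine Subgroup.eq_of_le_of_card_ge ?_ (by rw [H_m23_card, card_F1])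
  have hfix : Core.H 5 31 e24 m23_G_T ≤ MulAction.stabilizer (Equiv.Perm GolayPt) (pt 23) :=
    H_le_stab m23_all (by decide +kernel)
  intro g hg
  rw [mem_Fix]
  refine ⟨H_le_M24 m23_all hg, ?_⟩
  intro x hx
  have : x = 23 := by simpa using hx
  subst this
  exact hfix hg

/-- The stabilizer of the extra point, as a subgroup of the big group. -/
theorem mem_Fix_none (x : Equiv.Perm GolayPt) : x ∈ Fix [23] ↔
    ∃ hx : x ∈ M24, (⟨x, hx⟩ : M24) ∈ MulAction.stabilizer M24 (none : GolayPt) := by
  rw [mem_Fix]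
  constructor
  · rintro ⟨h1, h2⟩
    exact ⟨h1, h2 23 (by simp)⟩
  · rintro ⟨h1, h2⟩
    refine ⟨h1, ?_⟩
    intro y hy
    have : y = 23 := by simpa using hy
    subst this
    exact h2

/-- The stabilizer of any point is simple. -/
theorem isSimple_stab (p : GolayPt) : IsSimpleGroup (MulAction.stabilizer M24 p) := by
  obtain ⟨g, hg⟩ := MulAction.exists_smul_eq M24 (none : GolayPt) p
  have e1 := MulAction.stabilizerEquivStabilizer (G := M24) (g := g) (a := (none : GolayPt))
    (b := p) hg.symm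
  have e2 := equivOfMem (MulAction.stabilizer M24 (none : GolayPt)) (Fix [23]) mem_Fix_none
  have : IsSimpleGroup (Fix [23]) := by
    rw [← H_m23_eq]
    exact isSimple_H_m23
  exact (e1.symm.trans e2).isSimpleGroup

/-- The order of a point stabilizer. -/
theorem card_stab (p : GolayPt) : Nat.card (MulAction.stabilizer M24 p) = 10200960 := by
  obtain ⟨g, hg⟩ := MulAction.exists_smul_eq M24 (none : GolayPt) p
  have e1 := MulAction.stabilizerEquivStabilizer (G := M24) (g := g) (a := (none : GolayPt))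
    (b := p) hg.symm
  have e2 := equivOfMem (MulAction.stabilizer M24 (none : GolayPt)) (Fix [23]) mem_Fix_none
  rw [← Nat.card_congr e1.toEquiv, Nat.card_congr e2.toEquiv, card_F1]

/-! ### The stabilizer of two points -/

theorem m22_all : allAut m22_G_T = true := by decide +kernel

theorem H_m22_card : Nat.card (Core.H 5 31 e24 m22_G_T) = 443520 := by
  obtain ⟨-, -, -, -, -, h⟩ := Core.main_of_checkAll (e := e24) (exists_rep24_of_all m22_all) m22_G_ok
  exact h.trans m22_order

theorem isSimple_H_m22 : IsSimpleGroup (Core.H 5 31 e24 m22_G_T) :=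
  Simple.isSimple_of_cert (e := e24) (exists_rep24_of_all m22_all) m22_G_ok m22_order (by norm_num)
    m22_reps_ok m22_syls_ok m22_prod

/-- Generators of the stabilizer of the extra point and the point `0`. -/
theorem H_m22_eq : Core.H 5 31 e24 m22_G_T = Fix [0, 23] := by
  refine Subgroup.eq_of_le_of_card_ge ?_ (by rw [H_m22_card, card_F2])
  have hfix1 : Core.H 5 31 e24 m22_G_T ≤ MulAction.stabilizer (Equiv.Perm GolayPt) (pt 23) :=
    H_le_stab m22_all (by decide +kernel)
  have hfix2 : Core.H 5 31 e24 m22_G_T ≤ MulAction.stabilizer (Equiv.Perm GolayPt) (pt 0) :=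
    H_le_stab m22_all (by decide +kernel)
  intro g hg
  rw [mem_Fix]
  refine ⟨H_le_M24 m22_all hg, ?_⟩
  intro x hx
  have : x = 0 ∨ x = 23 := by simpa using hx
  rcases this with rfl | rfl
  · exact hfix2 hg
  · exact hfix1 hg

theorem mem_Fix_none_zero (x : Equiv.Perm GolayPt) : x ∈ Fix [0, 23] ↔
    ∃ hx : x ∈ M24, (⟨x, hx⟩ : M24) ∈ MulAction.stabilizer M24 (pt 23) ⊓
      MulAction.stabilizer M24 (pt 0) := by
  rw [mem_Fix]
  constructor
  · rintro ⟨h1, h2⟩
    exact ⟨h1, h2 23 (by simp), h2 0 (by simp)⟩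
  · rintro ⟨h1, h2, h3⟩
    refine ⟨h1, ?_⟩
    intro y hy
    have : y = 0 ∨ y = 23 := by simpa using hy
    rcases this with rfl | rfl
    · exact h3
    · exact h2

theorem pt23_ne_pt0 : pt 23 ≠ pt 0 := by decide +kernel

/-- The stabilizer of two points is isomorphic to `Fix [0, 23]`. -/
theorem nonempty_equiv_two (p q : GolayPt) (hpq : p ≠ q) :
    Nonempty (↥(MulAction.stabilizer M24 p ⊓ MulAction.stabilizer M24 q) ≃* Fix [0, 23]) := by
  obtain ⟨g, hg1, hg2⟩ := exists_two pt23_ne_pt0 hpq
  obtain ⟨e1⟩ := nonempty_equiv_inf_conj g (pt 23) (pt 0)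
  rw [hg1, hg2] at e1
  exact ⟨e1.symm.trans (equivOfMem _ _ mem_Fix_none_zero)⟩

theorem isSimple_stab_two (p q : GolayPt) (hpq : p ≠ q) :
    IsSimpleGroup ↥(MulAction.stabilizer M24 p ⊓ MulAction.stabilizer M24 q) := by
  obtain ⟨e⟩ := nonempty_equiv_two p q hpq
  have : IsSimpleGroup (Fix [0, 23]) := by
    rw [← H_m22_eq]
    exact isSimple_H_m22
  exact e.isSimpleGroup

theorem card_stab_two (p q : GolayPt) (hpq : p ≠ q) :
    Nat.card ↥(MulAction.stabilizer M24 p ⊓ MulAction.stabilizer M24 q) = 443520 := by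
  obtain ⟨e⟩ := nonempty_equiv_two p q hpq
  rw [Nat.card_congr e.toEquiv, card_F2]

end Cfsg.Agent.Lib.PermComp.Mathieu.Simple2x
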