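import Cfsg.Agent.Lib.PermComp.Simple

/-!
# Certificate of simplicity for the Mathieu group M11

Generated by `tools/gen_m1x.py`: a stabilizer chain of the group generated by the codes
`m11_G_T`, and the Sylow and normal closure data.
-/

namespace Cfsg.Agent.Lib.PermComp.Mathieu.CertM11

open Cfsg.Agent.Lib.PermComp

def m11_n : Nat := nat_lit 24
def m11_w : Nat := nat_lit 5
def m11_mask : Nat := nat_lit 31
def m11_L : Nat := nat_lit 120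
def m11_maskL : Nat := nat_lit 0xffffffffffffffffffffffffffffff
def m11_idc : Nat := nat_lit 0xbdab49ca307b9ac5a928398a418820

def m11_G_T : List Nat := [nat_lit 0xb9a4d1b221424e4750af5597580a60, nat_lit 0x92d94bd430559d33992f6950288c80]
def m11_G_prog : List (Nat × Nat × Nat) := [(nat_lit 1, nat_lit 1, nat_lit 0), (nat_lit 1, nat_lit 1, nat_lit 0), (nat_lit 0, nat_lit 3, nat_lit 2), (nat_lit 0, nat_lit 0, nat_lit 4), (nat_lit 0, nat_lit 0, nat_lit 4), (nat_lit 0, nat_lit 0, nat_lit 5), (nat_lit 0, nat_lit 5, nat_lit 5), (nat_lit 0, nat_lit 0, nat_lit 6), (nat_lit 0, nat_lit 0, nat_lit 2), (nat_lit 0, nat_lit 9, nat_lit 10), (nat_lit 0, nat_lit 0, nat_lit 11), (nat_lit 0, nat_lit 0, nat_lit 11), (nat_lit 0, nat_lit 0, nat_lit 13), (nat_lit 0, nat_lit 0, nat_lit 13), (nat_lit 0, nat_lit 0, nat_lit 14), (nat_lit 0, nat_lit 0, nat_lit 16), (nat_lit 0, nat_lit 0, nat_lit 16),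 (nat_lit 0, nat_lit 0, nat_lit 17), (nat_lit 0, nat_lit 11, nat_lit 16), (nat_lit 0, nat_lit 0, nat_lit 1), (nat_lit 1, nat_lit 11, nat_lit 0), (nat_lit 1, nat_lit 1, nat_lit 0), (nat_lit 0, nat_lit 13, nat_lit 2), (nat_lit 0, nat_lit 0, nat_lit 14), (nat_lit 0, nat_lit 0, nat_lit 15), (nat_lit 0, nat_lit 0, nat_lit 16), (nat_lit 0, nat_lit 4, nat_lit 4), (nat_lit 0, nat_lit 0, nat_lit 6), (nat_lit 0, nat_lit 0, nat_lit 2), (nat_lit 0, nat_lit 20, nat_lit 20), (nat_lit 0, nat_lit 0, nat_lit 10), (nat_lit 0, nat_lit 0, nat_lit 22), (nat_lit 0, nat_lit 0, nat_lit 23), (nat_lit 0, nat_lit 0, nat_lit 13), (nat_lit 0, nat_lit 0, nat_lit 14), (nat_lit 0, nat_lit 0, nat_lit 26), (nat_lit 0, nat_lit 0, nat_lit 16), (nat_lit 0, nat_lit 0, nat_lit 28), (nat_lit 0, nat_lit 14, nat_lit 18), (nat_lit 0, nat_lit 0, nat_lit 30), (nat_lit 0, nat_lit 0, nat_lit 31), (nat_lit 0, nat_lit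 0, nat_lit 21), (nat_lit 0, nat_lit 0, nat_lit 33), (nat_lit 0, nat_lit 0, nat_lit 23), (nat_lit 0, nat_lit 0, nat_lit 24), (nat_lit 0, nat_lit 0, nat_lit 36), (nat_lit 0, nat_lit 24, nat_lit 25), (nat_lit 0, nat_lit 0, nat_lit 1), (nat_lit 1, nat_lit 10, nat_lit 0), (nat_lit 1, nat_lit 1, nat_lit 0), (nat_lit 0, nat_lit 12, nat_lit 2), (nat_lit 0, nat_lit 0, nat_lit 13), (nat_lit 0, nat_lit 0, nat_lit 4), (nat_lit 0, nat_lit 0, nat_lit 15), (nat_lit 0, nat_lit 0, nat_lit 6), (nat_lit 0, nat_lit 0, nat_lit 26), (nat_lit 0, nat_lit 0, nat_lit 18), (nat_lit 0, nat_lit 8, nat_lit 8), (nat_lit 0, nat_lit 0, nat_lit 1), (nat_lit 0, nat_lit 30, nat_lit 11), (nat_lit 0, nat_lit 2, nat_lit 10), (nat_lit 0, nat_lit 1, nat_lit 23), (nat_lit 0, nat_lit 0, nat_lit 14), (nat_lit 0, nat_lit 0, nat_lit 25), (nat_lit 0, nat_lit 0, nat_lit 26), (nat_lit 0, nat_lit 0, nat_lit 27), (nat_lit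 0, nat_lit 0, nat_lit 18), (nat_lit 0, nat_lit 0, nat_lit 19), (nat_lit 0, nat_lit 0, nat_lit 20), (nat_lit 0, nat_lit 8, nat_lit 0)]
def m11_G_s0 : Nat := nat_lit 0xb9a4d1b221424e4750af5597580a60
def m11_G_s1 : Nat := nat_lit 0x61a2580ab24d9c4551075b5f3b8c20
def m11_G_s2 : Nat := nat_lit 0x1a22bbd590b29f2a24cd2b8f320820
def m11_G_s3 : Nat := nat_lit 0xaa62525e4c551d3322c77adb018820
def m11_G_s4 : Nat := nat_lit 0x22e6894195a1df7b38cd2a55118820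
noncomputable def m11_G_lev0 : Core.Lev := Core.mkLev m11_n m11_w m11_mask m11_L m11_maskL m11_idc (nat_lit 1) [m11_G_s3, m11_G_s4, m11_G_s2, m11_G_s1, m11_G_s0] [(nat_lit 19, m11_G_s0, nat_lit 1), (nat_lit 4, m11_G_s3, nat_lit 19), (nat_lit 18, m11_G_s4, nat_lit 19), (nat_lit 23, m11_G_s2, nat_lit 19), (nat_lit 16, m11_G_s1, nat_lit 19), (nat_lit 3, m11_G_s0, nat_lit 19), (nat_lit 17, m11_G_s4, nat_lit 4), (nat_lit 21, m11_G_s0, nat_lit 4), (nat_lit 2, m11_G_s1, nat_lit 18), (nat_lit 12, m11_G_s0, nat_lit 18)]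
noncomputable def m11_G_lev1 : Core.Lev := Core.mkLev m11_n m11_w m11_mask m11_L m11_maskL m11_idc (nat_lit 2) [m11_G_s3, m11_G_s4, m11_G_s2, m11_G_s1] [(nat_lit 3, m11_G_s1, nat_lit 2), (nat_lit 4, m11_G_s2, nat_lit 3), (nat_lit 23, m11_G_s1, nat_lit 3), (nat_lit 16, m11_G_s3, nat_lit 4), (nat_lit 17, m11_G_s4, nat_lit 4), (nat_lit 19, m11_G_s2, nat_lit 4), (nat_lit 21, m11_G_s3, nat_lit 23), (nat_lit 12, m11_G_s1, nat_lit 23), (nat_lit 18, m11_G_s1, nat_lit 16)]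
noncomputable def m11_G_lev2 : Core.Lev := Core.mkLev m11_n m11_w m11_mask m11_L m11_maskL m11_idc (nat_lit 3) [m11_G_s3, m11_G_s4, m11_G_s2] [(nat_lit 4, m11_G_s2, nat_lit 3), (nat_lit 16, m11_G_s3, nat_lit 4), (nat_lit 17, m11_G_s4, nat_lit 4), (nat_lit 19, m11_G_s2, nat_lit 4), (nat_lit 12, m11_G_s3, nat_lit 16), (nat_lit 21, m11_G_s4, nat_lit 16), (nat_lit 18, m11_G_s3, nat_lit 17), (nat_lit 23, m11_G_s2, nat_lit 19)]
noncomputable def m11_G_lev3 : Core.Lev := Core.mkLev m11_n m11_w m11_mask m11_L m11_maskL m11_idc (nat_lit 4) [m11_G_s3, m11_G_s4] [(nat_lit 16, m11_G_s3, nat_lit 4), (nat_lit 17, m11_G_s4, nat_lit 4), (nat_lit 12, m11_G_s3, nat_lit 16), (nat_lit 21, m11_G_s4, nat_lit 16), (nat_lit 18, m11_G_s3, nat_lit 17), (nat_lit 19, m11_G_s3, nat_lit 12), (nat_lit 23, m11_G_s4, nat_lit 12)]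
noncomputable def m11_G_levels : List Core.Lev := [m11_G_lev0, m11_G_lev1, m11_G_lev2, m11_G_lev3]

def m11_R0_T : List Nat := [nat_lit 0xbb82813230559b24bd74398a324ea0, nat_lit 0xbda1410c3573cac3a8c85a5a494e20, nat_lit 0x8b86f14af0a58ec5a12a698a1acc80, nat_lit 0x25ab488e70325ac3a1ca5bcb790440]
def m11_R0_prog : List (Nat × Nat × Nat) := [(nat_lit 1, nat_lit 3, nat_lit 0), (nat_lit 1, nat_lit 3, nat_lit 0), (nat_lit 1, nat_lit 3, nat_lit 0), (nat_lit 1, nat_lit 3, nat_lit 0), (nat_lit 0, nat_lit 4, nat_lit 6), (nat_lit 0, nat_lit 0, nat_lit 7), (nat_lit 0, nat_lit 0, nat_lit 9), (nat_lit 0, nat_lit 6, nat_lit 0), (nat_lit 0, nat_lit 8, nat_lit 8), (nat_lit 0, nat_lit 0, nat_lit 12), (nat_lit 0, nat_lit 0, nat_lit 12), (nat_lit 0, nat_lit 0, nat_lit 13), (nat_lit 0, nat_lit 0, nat_lit 14), (nat_lit 0, nat_lit 0, nat_lit 14), (nat_lit 0, nat_lit 0, nat_lit 16), (nat_lit 0,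 nat_lit 0, nat_lit 18), (nat_lit 0, nat_lit 0, nat_lit 19), (nat_lit 0, nat_lit 15, nat_lit 14), (nat_lit 0, nat_lit 0, nat_lit 1), (nat_lit 0, nat_lit 20, nat_lit 21), (nat_lit 0, nat_lit 0, nat_lit 23), (nat_lit 0, nat_lit 0, nat_lit 21), (nat_lit 0, nat_lit 0, nat_lit 22), (nat_lit 0, nat_lit 0, nat_lit 26), (nat_lit 0, nat_lit 0, nat_lit 27), (nat_lit 0, nat_lit 0, nat_lit 26), (nat_lit 0, nat_lit 0, nat_lit 29), (nat_lit 0, nat_lit 0, nat_lit 30), (nat_lit 0, nat_lit 0, nat_lit 28), (nat_lit 0, nat_lit 25, nat_lit 0), (nat_lit 1, nat_lit 22, nat_lit 0), (nat_lit 1, nat_lit 1, nat_lit 0), (nat_lit 1, nat_lit 13, nat_lit 0), (nat_lit 0, nat_lit 3, nat_lit 25), (nat_lit 0, nat_lit 0, nat_lit 15), (nat_lit 0, nat_lit 0, nat_lit 27), (nat_lit 0, nat_lit 0, nat_lit 6), (nat_lit 0, nat_lit 0, nat_lit 18), (nat_lit 0, nat_lit 0, nat_lit 19), (nat_lit 0, nat_lit 0, nat_lit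 31), (nat_lit 0, nat_lit 0, nat_lit 10), (nat_lit 0, nat_lit 0, nat_lit 11), (nat_lit 0, nat_lit 0, nat_lit 34), (nat_lit 0, nat_lit 11, nat_lit 11), (nat_lit 0, nat_lit 0, nat_lit 13), (nat_lit 0, nat_lit 0, nat_lit 2), (nat_lit 0, nat_lit 27, nat_lit 27), (nat_lit 0, nat_lit 0, nat_lit 17), (nat_lit 0, nat_lit 0, nat_lit 40), (nat_lit 0, nat_lit 0, nat_lit 30), (nat_lit 0, nat_lit 0, nat_lit 42), (nat_lit 0, nat_lit 0, nat_lit 21), (nat_lit 0, nat_lit 0, nat_lit 22), (nat_lit 0, nat_lit 0, nat_lit 23), (nat_lit 0, nat_lit 0, nat_lit 35), (nat_lit 0, nat_lit 25, nat_lit 36), (nat_lit 0, nat_lit 0, nat_lit 37), (nat_lit 0, nat_lit 0, nat_lit 49), (nat_lit 0, nat_lit 0, nat_lit 50), (nat_lit 0, nat_lit 0, nat_lit 29), (nat_lit 0, nat_lit 0, nat_lit 30), (nat_lit 0, nat_lit 30, nat_lit 0), (nat_lit 0, nat_lit 32, nat_lit 32), (nat_lit 0, nat_lit 0, nat_lit 33), (nat_lit 0,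 nat_lit 0, nat_lit 45), (nat_lit 0, nat_lit 0, nat_lit 46), (nat_lit 0, nat_lit 0, nat_lit 36), (nat_lit 0, nat_lit 0, nat_lit 48), (nat_lit 0, nat_lit 0, nat_lit 60), (nat_lit 0, nat_lit 38, nat_lit 36), (nat_lit 0, nat_lit 0, nat_lit 38), (nat_lit 0, nat_lit 0, nat_lit 2), (nat_lit 1, nat_lit 17, nat_lit 0), (nat_lit 1, nat_lit 11, nat_lit 0), (nat_lit 0, nat_lit 19, nat_lit 28), (nat_lit 0, nat_lit 0, nat_lit 29), (nat_lit 0, nat_lit 0, nat_lit 30), (nat_lit 0, nat_lit 0, nat_lit 31), (nat_lit 0, nat_lit 0, nat_lit 23), (nat_lit 0, nat_lit 0, nat_lit 33), (nat_lit 0, nat_lit 0, nat_lit 8), (nat_lit 0, nat_lit 0, nat_lit 26), (nat_lit 0, nat_lit 9, nat_lit 9), (nat_lit 0, nat_lit 0, nat_lit 1), (nat_lit 0, nat_lit 22, nat_lit 22), (nat_lit 0, nat_lit 0, nat_lit 30), (nat_lit 0, nat_lit 0, nat_lit 14), (nat_lit 0, nat_lit 0, nat_lit 15), (nat_lit 0, nat_lit 15, nat_lit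 14), (nat_lit 0, nat_lit 0, nat_lit 16), (nat_lit 0, nat_lit 0, nat_lit 2)]
def m11_R0_s0 : Nat := nat_lit 0xbb82813230559b24bd74398a324ea0
def m11_R0_s1 : Nat := nat_lit 0x1ae6fac850a39a4b18e84a8acbc420
def m11_R0_s2 : Nat := nat_lit 0x9daadb8c8c5a6907a9c831cb190820
def m11_R0_s3 : Nat := nat_lit 0xaa62525e4c551d3322c77adb018820
def m11_R0_s4 : Nat := nat_lit 0x81887bb2712bd554d16e6d91218820
noncomputable def m11_R0_lev0 : Core.Lev := Core.mkLev m11_n m11_w m11_mask m11_L m11_maskL m11_idc (nat_lit 1) [m11_R0_s3, m11_R0_s4, m11_R0_s2, m11_R0_s1, m11_R0_s0] [(nat_lit 21, m11_R0_s0, nat_lit 1), (nat_lit 17, m11_R0_s3, nat_lit 21), (nat_lit 4, m11_R0_s4, nat_lit 21), (nat_lit 19, m11_R0_s1, nat_lit 21), (nat_lit 18, m11_R0_s3, nat_lit 17), (nat_lit 2, m11_R0_s1, nat_lit 17), (nat_lit 16, m11_R0_s3, nat_lit 4), (nat_lit 12, m11_R0_s1, nat_lit 4), (nat_lit 3, m11_R0_s0, nat_lit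 4), (nat_lit 23, m11_R0_s4, nat_lit 19)]
noncomputable def m11_R0_lev1 : Core.Lev := Core.mkLev m11_n m11_w m11_mask m11_L m11_maskL m11_idc (nat_lit 2) [m11_R0_s3, m11_R0_s4, m11_R0_s2, m11_R0_s1] [(nat_lit 17, m11_R0_s1, nat_lit 2), (nat_lit 18, m11_R0_s3, nat_lit 17), (nat_lit 19, m11_R0_s4, nat_lit 17), (nat_lit 4, m11_R0_s2, nat_lit 17), (nat_lit 23, m11_R0_s3, nat_lit 18), (nat_lit 12, m11_R0_s4, nat_lit 18), (nat_lit 3, m11_R0_s2, nat_lit 18), (nat_lit 21, m11_R0_s1, nat_lit 19), (nat_lit 16, m11_R0_s3, nat_lit 4)]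
noncomputable def m11_R0_lev2 : Core.Lev := Core.mkLev m11_n m11_w m11_mask m11_L m11_maskL m11_idc (nat_lit 3) [m11_R0_s3, m11_R0_s4, m11_R0_s2] [(nat_lit 18, m11_R0_s2, nat_lit 3), (nat_lit 23, m11_R0_s3, nat_lit 18), (nat_lit 12, m11_R0_s4, nat_lit 18), (nat_lit 21, m11_R0_s3, nat_lit 23), (nat_lit 16, m11_R0_s4, nat_lit 23), (nat_lit 19, m11_R0_s2, nat_lit 23), (nat_lit 17, m11_R0_s3, nat_lit 21), (nat_lit 4, m11_R0_s4, nat_lit 21)]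
noncomputable def m11_R0_lev3 : Core.Lev := Core.mkLev m11_n m11_w m11_mask m11_L m11_maskL m11_idc (nat_lit 4) [m11_R0_s3, m11_R0_s4] [(nat_lit 16, m11_R0_s3, nat_lit 4), (nat_lit 18, m11_R0_s4, nat_lit 4), (nat_lit 12, m11_R0_s3, nat_lit 16), (nat_lit 17, m11_R0_s4, nat_lit 16), (nat_lit 23, m11_R0_s3, nat_lit 18), (nat_lit 19, m11_R0_s3, nat_lit 12), (nat_lit 21, m11_R0_s4, nat_lit 12)]
noncomputable def m11_R0_levels : List Core.Lev := [m11_R0_lev0, m11_R0_lev1, m11_R0_lev2, m11_R0_lev3]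

noncomputable def m11_R0_cert : Simple.RepCert := ⟨nat_lit 0x1aa349caac7a0f05d8ae69921b8880, [(nat_lit 0, nat_lit 0, nat_lit 0), (nat_lit 0, nat_lit 0, nat_lit 1), (nat_lit 0, nat_lit 0, nat_lit 3), (nat_lit 0, nat_lit 0, nat_lit 3), (nat_lit 0, nat_lit 0, nat_lit 5), (nat_lit 0, nat_lit 0, nat_lit 5), (nat_lit 0, nat_lit 0, nat_lit 6), (nat_lit 0, nat_lit 0, nat_lit 8), (nat_lit 0, nat_lit 0, nat_lit 9), (nat_lit 0, nat_lit 0, nat_lit 9), (nat_lit 0, nat_lit 0, nat_lit 11), (nat_lit 0, nat_lit 8, nat_lit 12), (nat_lit 0, nat_lit 0, nat_lit 13), (nat_lit 0, nat_lit 0, nat_lit 14), (nat_lit 0, nat_lit 0, nat_lit 14), (nat_lit 0, nat_lit 15, nat_lit 16), (nat_lit 0, nat_lit 0, nat_lit 17), (nat_lit 0, nat_lit 0, nat_lit 18), (nat_lit 0, nat_lit 0, nat_lit 18), (nat_lit 0, nat_lit 0, nat_lit 20), (nat_lit 0, nat_lit 0, nat_lit 20), (nat_lit 0, nat_lit 0, nat_lit 22), (nat_lit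 0, nat_lit 0, nat_lit 23), (nat_lit 0, nat_lit 0, nat_lit 24), (nat_lit 0, nat_lit 0, nat_lit 24), (nat_lit 0, nat_lit 0, nat_lit 25), (nat_lit 0, nat_lit 0, nat_lit 27), (nat_lit 0, nat_lit 0, nat_lit 28), (nat_lit 0, nat_lit 9, nat_lit 28), (nat_lit 0, nat_lit 0, nat_lit 30), (nat_lit 0, nat_lit 0, nat_lit 30), (nat_lit 0, nat_lit 0, nat_lit 31), (nat_lit 0, nat_lit 0, nat_lit 32)], [(nat_lit 0xbb82813230559b24bd74398a324ea0, nat_lit 0x1be468dd813d9156a96ea152224260), (nat_lit 0xbda1410c3573cac3a8c85a5a494e20, nat_lit 0x9ba5465c70434f5b3d255a8c111220), (nat_lit 0x8b86f14af0a58ec5a12a698a1acc80, nat_lit 0xbd88b830232bd554b8f4419a28ca60), (nat_lit 0x25ab488e70325ac3a1ca5bcb790440, nat_lit 0xb9c45ac023a2512b2dee534d323220)], m11_R0_prog, m11_R0_levels⟩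

def m11_R1_T : List Nat := [nat_lit 0xb94679419372ac1a3d28599a415620, nat_lit 0xa49498e5031dd7b296f6a0a28d580]
def m11_R1_prog : List (Nat × Nat × Nat) := [(nat_lit 1, nat_lit 1, nat_lit 0), (nat_lit 1, nat_lit 1, nat_lit 0), (nat_lit 0, nat_lit 3, nat_lit 2), (nat_lit 0, nat_lit 0, nat_lit 3), (nat_lit 0, nat_lit 0, nat_lit 4), (nat_lit 0, nat_lit 0, nat_lit 5), (nat_lit 0, nat_lit 0, nat_lit 6), (nat_lit 0, nat_lit 0, nat_lit 7), (nat_lit 0, nat_lit 0, nat_lit 8), (nat_lit 0, nat_lit 0, nat_lit 10), (nat_lit 0, nat_lit 0, nat_lit 11), (nat_lit 0, nat_lit 0, nat_lit 11), (nat_lit 0, nat_lit 0, nat_lit 13), (nat_lit 0, nat_lit 12, nat_lit 11), (nat_lit 0, nat_lit 0, nat_lit 1), (nat_lit 0, nat_lit 16, nat_lit 16), (nat_lit 0, nat_lit 0, nat_lit 16), (nat_lit 0, nat_lit 0, nat_lit 17), (nat_lit 0, nat_lit 0, nat_lit 19), (nat_lit 0, nat_lit 0, nat_lit 20), (nat_lit 0, nat_lit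 0, nat_lit 20), (nat_lit 0, nat_lit 0, nat_lit 21), (nat_lit 0, nat_lit 0, nat_lit 23), (nat_lit 0, nat_lit 0, nat_lit 24), (nat_lit 0, nat_lit 0, nat_lit 24), (nat_lit 0, nat_lit 11, nat_lit 23), (nat_lit 0, nat_lit 0, nat_lit 1), (nat_lit 0, nat_lit 27, nat_lit 27), (nat_lit 0, nat_lit 0, nat_lit 29), (nat_lit 0, nat_lit 0, nat_lit 29), (nat_lit 0, nat_lit 0, nat_lit 30), (nat_lit 0, nat_lit 0, nat_lit 31), (nat_lit 0, nat_lit 0, nat_lit 33), (nat_lit 0, nat_lit 0, nat_lit 33), (nat_lit 0, nat_lit 0, nat_lit 35), (nat_lit 0, nat_lit 0, nat_lit 35), (nat_lit 0, nat_lit 10, nat_lit 0), (nat_lit 0, nat_lit 8, nat_lit 38), (nat_lit 0, nat_lit 0, nat_lit 39), (nat_lit 0, nat_lit 0, nat_lit 40), (nat_lit 0, nat_lit 0, nat_lit 40), (nat_lit 0, nat_lit 0, nat_lit 41), (nat_lit 0, nat_lit 0, nat_lit 42), (nat_lit 0, nat_lit 0, nat_lit 44), (nat_lit 1, nat_lit 29, nat_lit 0), (nat_lit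 1, nat_lit 8, nat_lit 0), (nat_lit 1, nat_lit 2, nat_lit 0), (nat_lit 1, nat_lit 20, nat_lit 0), (nat_lit 0, nat_lit 11, nat_lit 11), (nat_lit 0, nat_lit 0, nat_lit 12), (nat_lit 0, nat_lit 0, nat_lit 13), (nat_lit 0, nat_lit 0, nat_lit 7), (nat_lit 0, nat_lit 0, nat_lit 8), (nat_lit 0, nat_lit 0, nat_lit 38), (nat_lit 0, nat_lit 0, nat_lit 27), (nat_lit 0, nat_lit 0, nat_lit 11), (nat_lit 0, nat_lit 0, nat_lit 12), (nat_lit 0, nat_lit 11, nat_lit 9), (nat_lit 0, nat_lit 0, nat_lit 11), (nat_lit 0, nat_lit 0, nat_lit 2), (nat_lit 0, nat_lit 33, nat_lit 33), (nat_lit 0, nat_lit 0, nat_lit 17), (nat_lit 0, nat_lit 0, nat_lit 18), (nat_lit 0, nat_lit 0, nat_lit 48), (nat_lit 0, nat_lit 0, nat_lit 20), (nat_lit 0, nat_lit 0, nat_lit 21), (nat_lit 0, nat_lit 0, nat_lit 51), (nat_lit 0, nat_lit 0, nat_lit 40), (nat_lit 0, nat_lit 0, nat_lit 41), (nat_lit 0, nat_lit 22, nat_lit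 21), (nat_lit 0, nat_lit 0, nat_lit 1), (nat_lit 0, nat_lit 34, nat_lit 27), (nat_lit 0, nat_lit 0, nat_lit 57), (nat_lit 0, nat_lit 0, nat_lit 58), (nat_lit 0, nat_lit 0, nat_lit 30), (nat_lit 0, nat_lit 0, nat_lit 31), (nat_lit 0, nat_lit 0, nat_lit 61), (nat_lit 0, nat_lit 0, nat_lit 33), (nat_lit 0, nat_lit 0, nat_lit 51), (nat_lit 0, nat_lit 64, nat_lit 64), (nat_lit 0, nat_lit 0, nat_lit 65), (nat_lit 0, nat_lit 0, nat_lit 37), (nat_lit 0, nat_lit 0, nat_lit 38), (nat_lit 0, nat_lit 0, nat_lit 68), (nat_lit 0, nat_lit 0, nat_lit 57), (nat_lit 0, nat_lit 0, nat_lit 41), (nat_lit 0, nat_lit 0, nat_lit 59), (nat_lit 0, nat_lit 0, nat_lit 72), (nat_lit 0, nat_lit 0, nat_lit 51), (nat_lit 0, nat_lit 44, nat_lit 0), (nat_lit 1, nat_lit 30, nat_lit 0), (nat_lit 1, nat_lit 20, nat_lit 0), (nat_lit 0, nat_lit 2, nat_lit 21), (nat_lit 0, nat_lit 0, nat_lit 14), (nat_lit 0,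 nat_lit 0, nat_lit 15), (nat_lit 0, nat_lit 0, nat_lit 16), (nat_lit 0, nat_lit 0, nat_lit 6), (nat_lit 0, nat_lit 0, nat_lit 37), (nat_lit 0, nat_lit 7, nat_lit 0), (nat_lit 0, nat_lit 39, nat_lit 39), (nat_lit 0, nat_lit 0, nat_lit 10), (nat_lit 0, nat_lit 0, nat_lit 22), (nat_lit 0, nat_lit 0, nat_lit 42), (nat_lit 0, nat_lit 0, nat_lit 24), (nat_lit 0, nat_lit 0, nat_lit 33), (nat_lit 0, nat_lit 14, nat_lit 13), (nat_lit 0, nat_lit 0, nat_lit 1)]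
def m11_R1_s0 : Nat := nat_lit 0xb94679419372ac1a3d28599a415620
def m11_R1_s1 : Nat := nat_lit 0x8b6f4112b07a572b18e87154c98c20
def m11_R1_s2 : Nat := nat_lit 0x21e06bcaa373d534d105b356c88820
def m11_R1_s3 : Nat := nat_lit 0x81887bb2712bd554d16e6d91218820
def m11_R1_s4 : Nat := nat_lit 0x926ee646a43b4b033eca42e9318820
noncomputable def m11_R1_lev0 : Core.Lev := Core.mkLev m11_n m11_w m11_mask m11_L m11_maskL m11_idc (nat_lit 1) [m11_R1_s3, m11_R1_s4, m11_R1_s2, m11_R1_s1, m11_R1_s0] [(nat_lit 17, m11_R1_s0, nat_lit 1), (nat_lit 19, m11_R1_s3, nat_lit 17), (nat_lit 21, m11_R1_s4, nat_lit 17), (nat_lit 12, m11_R1_s0, nat_lit 17), (nat_lit 23, m11_R1_s3, nat_lit 19), (nat_lit 2, m11_R1_s1, nat_lit 19), (nat_lit 18, m11_R1_s0, nat_lit 19), (nat_lit 4, m11_R1_s3, nat_lit 21), (nat_lit 16, m11_R1_s2, nat_lit 21), (nat_lit 3, m11_R1_s0, nat_lit 21)]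
noncomputable def m11_R1_lev1 : Core.Lev := Core.mkLev m11_n m11_w m11_mask m11_L m11_maskL m11_idc (nat_lit 2) [m11_R1_s3, m11_R1_s4, m11_R1_s2, m11_R1_s1] [(nat_lit 3, m11_R1_s1, nat_lit 2), (nat_lit 17, m11_R1_s2, nat_lit 3), (nat_lit 19, m11_R1_s1, nat_lit 3), (nat_lit 21, m11_R1_s4, nat_lit 17), (nat_lit 23, m11_R1_s3, nat_lit 19), (nat_lit 12, m11_R1_s4, nat_lit 19), (nat_lit 4, m11_R1_s3, nat_lit 21), (nat_lit 16, m11_R1_s2, nat_lit 21), (nat_lit 18, m11_R1_s4, nat_lit 23)]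
noncomputable def m11_R1_lev2 : Core.Lev := Core.mkLev m11_n m11_w m11_mask m11_L m11_maskL m11_idc (nat_lit 3) [m11_R1_s3, m11_R1_s4, m11_R1_s2] [(nat_lit 17, m11_R1_s2, nat_lit 3), (nat_lit 19, m11_R1_s3, nat_lit 17), (nat_lit 21, m11_R1_s4, nat_lit 17), (nat_lit 23, m11_R1_s3, nat_lit 19), (nat_lit 12, m11_R1_s4, nat_lit 19), (nat_lit 4, m11_R1_s3, nat_lit 21), (nat_lit 16, m11_R1_s2, nat_lit 21), (nat_lit 18, m11_R1_s4, nat_lit 23)]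
noncomputable def m11_R1_lev3 : Core.Lev := Core.mkLev m11_n m11_w m11_mask m11_L m11_maskL m11_idc (nat_lit 4) [m11_R1_s3, m11_R1_s4] [(nat_lit 18, m11_R1_s3, nat_lit 4), (nat_lit 19, m11_R1_s4, nat_lit 4), (nat_lit 12, m11_R1_s3, nat_lit 18), (nat_lit 17, m11_R1_s4, nat_lit 18), (nat_lit 23, m11_R1_s3, nat_lit 19), (nat_lit 21, m11_R1_s3, nat_lit 12), (nat_lit 16, m11_R1_s4, nat_lit 12)]
noncomputable def m11_R1_levels : List Core.Lev := [m11_R1_lev0, m11_R1_lev1, m11_R1_lev2, m11_R1_lev3]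

noncomputable def m11_R1_cert : Simple.RepCert := ⟨nat_lit 0xbd866142517b8ac3b68b42553092a0, [(nat_lit 0, nat_lit 1, nat_lit 1), (nat_lit 0, nat_lit 0, nat_lit 2), (nat_lit 0, nat_lit 0, nat_lit 3), (nat_lit 0, nat_lit 0, nat_lit 4), (nat_lit 0, nat_lit 4, nat_lit 5), (nat_lit 0, nat_lit 0, nat_lit 6), (nat_lit 0, nat_lit 0, nat_lit 6), (nat_lit 0, nat_lit 0, nat_lit 8), (nat_lit 0, nat_lit 0, nat_lit 9), (nat_lit 0, nat_lit 0, nat_lit 10), (nat_lit 0, nat_lit 0, nat_lit 11), (nat_lit 0, nat_lit 0, nat_lit 11), (nat_lit 0, nat_lit 0, nat_lit 13), (nat_lit 0, nat_lit 0, nat_lit 14)], [(nat_lit 0xb94679419372ac1a3d28599a415620, nat_lit 0xb9a4d1b221424e4750af5597580a60), (nat_lit 0xa49498e5031dd7b296f6a0a28d580, nat_lit 0x9d248b92a22aad03acce6bd2c18620)], m11_R1_prog, m11_R1_levels⟩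

def m11_R2_T : List Nat := [nat_lit 0x8ac85adc50525b339ac8751e190d80, nat_lit 0xa6f61d602338ac429ed5d0f28cc80]
def m11_R2_prog : List (Nat × Nat × Nat) := [(nat_lit 1, nat_lit 1, nat_lit 0), (nat_lit 1, nat_lit 1, nat_lit 0), (nat_lit 0, nat_lit 2, nat_lit 3), (nat_lit 0, nat_lit 0, nat_lit 3), (nat_lit 0, nat_lit 0, nat_lit 4), (nat_lit 0, nat_lit 0, nat_lit 5), (nat_lit 0, nat_lit 0, nat_lit 7), (nat_lit 0, nat_lit 0, nat_lit 7), (nat_lit 0, nat_lit 6, nat_lit 6), (nat_lit 0, nat_lit 0, nat_lit 1), (nat_lit 0, nat_lit 11, nat_lit 11), (nat_lit 0, nat_lit 0, nat_lit 12), (nat_lit 0, nat_lit 0, nat_lit 12), (nat_lit 0, nat_lit 0, nat_lit 14), (nat_lit 0, nat_lit 0, nat_lit 14), (nat_lit 0, nat_lit 0, nat_lit 16), (nat_lit 0, nat_lit 15, nat_lit 15), (nat_lit 0, nat_lit 0, nat_lit 15), (nat_lit 0, nat_lit 0, nat_lit 16), (nat_lit 0, nat_lit 0, nat_lit 3), (nat_lit 1, nat_lit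 10, nat_lit 0), (nat_lit 1, nat_lit 1, nat_lit 0), (nat_lit 0, nat_lit 12, nat_lit 2), (nat_lit 0, nat_lit 0, nat_lit 13), (nat_lit 0, nat_lit 0, nat_lit 4), (nat_lit 0, nat_lit 0, nat_lit 15), (nat_lit 0, nat_lit 0, nat_lit 16), (nat_lit 0, nat_lit 7, nat_lit 7), (nat_lit 0, nat_lit 0, nat_lit 18), (nat_lit 0, nat_lit 0, nat_lit 9), (nat_lit 0, nat_lit 0, nat_lit 20), (nat_lit 0, nat_lit 0, nat_lit 21), (nat_lit 0, nat_lit 0, nat_lit 12), (nat_lit 0, nat_lit 0, nat_lit 13), (nat_lit 0, nat_lit 0, nat_lit 14), (nat_lit 0, nat_lit 13, nat_lit 14), (nat_lit 0, nat_lit 0, nat_lit 1), (nat_lit 1, nat_lit 10, nat_lit 0), (nat_lit 0, nat_lit 1, nat_lit 11), (nat_lit 0, nat_lit 0, nat_lit 12), (nat_lit 0, nat_lit 0, nat_lit 3), (nat_lit 0, nat_lit 3, nat_lit 0), (nat_lit 0, nat_lit 3, nat_lit 5), (nat_lit 0, nat_lit 0, nat_lit 16), (nat_lit 0, nat_lit 0, nat_lit 17), (nat_lit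 0, nat_lit 0, nat_lit 18), (nat_lit 0, nat_lit 0, nat_lit 19), (nat_lit 0, nat_lit 0, nat_lit 20), (nat_lit 0, nat_lit 0, nat_lit 11), (nat_lit 0, nat_lit 11, nat_lit 11), (nat_lit 0, nat_lit 0, nat_lit 1)]
def m11_R2_s0 : Nat := nat_lit 0x8ac85adc50525b339ac8751e190d80
def m11_R2_s1 : Nat := nat_lit 0x11a4960c93534f1751e542ed585c20
def m11_R2_s2 : Nat := nat_lit 0xbac6f8c2aca1d046a5562b8d298820
def m11_R2_s3 : Nat := nat_lit 0x22e6894195a1df7b38cd2a55118820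
def m11_R2_s4 : Nat := nat_lit 0xaa62525e4c551d3322c77adb018820
noncomputable def m11_R2_lev0 : Core.Lev := Core.mkLev m11_n m11_w m11_mask m11_L m11_maskL m11_idc (nat_lit 1) [m11_R2_s3, m11_R2_s4, m11_R2_s2, m11_R2_s1, m11_R2_s0] [(nat_lit 12, m11_R2_s0, nat_lit 1), (nat_lit 23, m11_R2_s3, nat_lit 12), (nat_lit 19, m11_R2_s4, nat_lit 12), (nat_lit 4, m11_R2_s2, nat_lit 12), (nat_lit 17, m11_R2_s1, nat_lit 12), (nat_lit 21, m11_R2_s4, nat_lit 23), (nat_lit 2, m11_R2_s1, nat_lit 23), (nat_lit 18, m11_R2_s3, nat_lit 19), (nat_lit 16, m11_R2_s4, nat_lit 4), (nat_lit 3, m11_R2_s2, nat_lit 21)]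
noncomputable def m11_R2_lev1 : Core.Lev := Core.mkLev m11_n m11_w m11_mask m11_L m11_maskL m11_idc (nat_lit 2) [m11_R2_s3, m11_R2_s4, m11_R2_s2, m11_R2_s1] [(nat_lit 23, m11_R2_s1, nat_lit 2), (nat_lit 4, m11_R2_s3, nat_lit 23), (nat_lit 21, m11_R2_s4, nat_lit 23), (nat_lit 17, m11_R2_s3, nat_lit 4), (nat_lit 16, m11_R2_s4, nat_lit 4), (nat_lit 18, m11_R2_s2, nat_lit 4), (nat_lit 19, m11_R2_s3, nat_lit 21), (nat_lit 3, m11_R2_s2, nat_lit 21), (nat_lit 12, m11_R2_s3, nat_lit 17)]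
noncomputable def m11_R2_lev2 : Core.Lev := Core.mkLev m11_n m11_w m11_mask m11_L m11_maskL m11_idc (nat_lit 3) [m11_R2_s3, m11_R2_s4, m11_R2_s2] [(nat_lit 19, m11_R2_s2, nat_lit 3), (nat_lit 18, m11_R2_s3, nat_lit 19), (nat_lit 4, m11_R2_s4, nat_lit 19), (nat_lit 17, m11_R2_s2, nat_lit 19), (nat_lit 16, m11_R2_s3, nat_lit 18), (nat_lit 23, m11_R2_s4, nat_lit 18), (nat_lit 12, m11_R2_s3, nat_lit 17), (nat_lit 21, m11_R2_s2, nat_lit 17)]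
noncomputable def m11_R2_lev3 : Core.Lev := Core.mkLev m11_n m11_w m11_mask m11_L m11_maskL m11_idc (nat_lit 4) [m11_R2_s3, m11_R2_s4] [(nat_lit 17, m11_R2_s3, nat_lit 4), (nat_lit 16, m11_R2_s4, nat_lit 4), (nat_lit 12, m11_R2_s3, nat_lit 17), (nat_lit 18, m11_R2_s4, nat_lit 17), (nat_lit 21, m11_R2_s3, nat_lit 16), (nat_lit 23, m11_R2_s3, nat_lit 12), (nat_lit 19, m11_R2_s4, nat_lit 12)]
noncomputable def m11_R2_levels : List Core.Lev := [m11_R2_lev0, m11_R2_lev1, m11_R2_lev2, m11_R2_lev3]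

noncomputable def m11_R2_cert : Simple.RepCert := ⟨nat_lit 0xd865888907b5773d1c64a91264ea0, [(nat_lit 0, nat_lit 1, nat_lit 1), (nat_lit 0, nat_lit 0, nat_lit 2), (nat_lit 0, nat_lit 0, nat_lit 2), (nat_lit 0, nat_lit 0, nat_lit 4), (nat_lit 0, nat_lit 0, nat_lit 4), (nat_lit 0, nat_lit 0, nat_lit 6), (nat_lit 0, nat_lit 0, nat_lit 7), (nat_lit 0, nat_lit 0, nat_lit 8), (nat_lit 0, nat_lit 9, nat_lit 8), (nat_lit 0, nat_lit 0, nat_lit 10), (nat_lit 0, nat_lit 0, nat_lit 11), (nat_lit 0, nat_lit 0, nat_lit 12), (nat_lit 0, nat_lit 0, nat_lit 12), (nat_lit 0, nat_lit 0, nat_lit 13), (nat_lit 0, nat_lit 0, nat_lit 14), (nat_lit 0, nat_lit 0, nat_lit 16), (nat_lit 0, nat_lit 0, nat_lit 16), (nat_lit 0, nat_lit 0, nat_lit 18)], [(nat_lit 0x8ac85adc50525b339ac8751e190d80, nat_lit 0xb66590af0459643d12a719f1a8d80), (nat_lit 0xa6f61d602338ac429ed5d0f28cc80, nat_lit 0x22aa680c4c71d6143cb66a693bc640)],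 m11_R2_prog, m11_R2_levels⟩

def m11_R3_T : List Nat := [nat_lit 0x6362ea92f2594e34a296799420ce00, nat_lit 0x9af6142a3495c4a29af5a0f38c980]
def m11_R3_prog : List (Nat × Nat × Nat) := [(nat_lit 1, nat_lit 1, nat_lit 0), (nat_lit 1, nat_lit 1, nat_lit 0), (nat_lit 0, nat_lit 3, nat_lit 3), (nat_lit 0, nat_lit 0, nat_lit 4), (nat_lit 0, nat_lit 0, nat_lit 4), (nat_lit 0, nat_lit 0, nat_lit 5), (nat_lit 0, nat_lit 0, nat_lit 6), (nat_lit 0, nat_lit 0, nat_lit 7), (nat_lit 0, nat_lit 7, nat_lit 6), (nat_lit 0, nat_lit 0, nat_lit 7), (nat_lit 0, nat_lit 0, nat_lit 2), (nat_lit 0, nat_lit 8, nat_lit 11), (nat_lit 0, nat_lit 0, nat_lit 13), (nat_lit 0, nat_lit 0, nat_lit 14), (nat_lit 0, nat_lit 0, nat_lit 14), (nat_lit 0, nat_lit 0, nat_lit 16), (nat_lit 0, nat_lit 0, nat_lit 16), (nat_lit 0, nat_lit 15, nat_lit 15), (nat_lit 0, nat_lit 0, nat_lit 16), (nat_lit 0, nat_lit 0,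 nat_lit 2), (nat_lit 1, nat_lit 9, nat_lit 0), (nat_lit 0, nat_lit 1, nat_lit 1), (nat_lit 0, nat_lit 0, nat_lit 2), (nat_lit 0, nat_lit 0, nat_lit 12), (nat_lit 0, nat_lit 0, nat_lit 13), (nat_lit 0, nat_lit 0, nat_lit 14), (nat_lit 0, nat_lit 5, nat_lit 5), (nat_lit 0, nat_lit 0, nat_lit 1), (nat_lit 0, nat_lit 17, nat_lit 8), (nat_lit 0, nat_lit 0, nat_lit 18), (nat_lit 0, nat_lit 0, nat_lit 10), (nat_lit 0, nat_lit 0, nat_lit 20), (nat_lit 0, nat_lit 0, nat_lit 12), (nat_lit 0, nat_lit 6, nat_lit 0), (nat_lit 1, nat_lit 6, nat_lit 0), (nat_lit 1, nat_lit 1, nat_lit 0), (nat_lit 0, nat_lit 2, nat_lit 2), (nat_lit 0, nat_lit 0, nat_lit 9), (nat_lit 0, nat_lit 0, nat_lit 10), (nat_lit 0, nat_lit 0, nat_lit 5), (nat_lit 0, nat_lit 0, nat_lit 6), (nat_lit 0, nat_lit 0, nat_lit 13), (nat_lit 0, nat_lit 0, nat_lit 8), (nat_lit 0, nat_lit 0, nat_lit 15), (nat_lit 0, nat_lit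 0, nat_lit 16), (nat_lit 0, nat_lit 10, nat_lit 10), (nat_lit 0, nat_lit 0, nat_lit 1), (nat_lit 0, nat_lit 19, nat_lit 19), (nat_lit 0, nat_lit 0, nat_lit 20), (nat_lit 0, nat_lit 0, nat_lit 15), (nat_lit 0, nat_lit 0, nat_lit 16), (nat_lit 0, nat_lit 0, nat_lit 23), (nat_lit 0, nat_lit 0, nat_lit 18), (nat_lit 0, nat_lit 0, nat_lit 19), (nat_lit 0, nat_lit 0, nat_lit 20), (nat_lit 0, nat_lit 0, nat_lit 21), (nat_lit 0, nat_lit 0, nat_lit 28), (nat_lit 0, nat_lit 22, nat_lit 21), (nat_lit 0, nat_lit 0, nat_lit 23), (nat_lit 0, nat_lit 0, nat_lit 24), (nat_lit 0, nat_lit 0, nat_lit 3)]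
def m11_R3_s0 : Nat := nat_lit 0x6362ea92f2594e34a296799420ce00
def m11_R3_s1 : Nat := nat_lit 0xad98d1449379577a1d484b8d21c020
def m11_R3_s2 : Nat := nat_lit 0x19e46ac66c4a1572d96e6d1e480820
def m11_R3_s3 : Nat := nat_lit 0x62e0facc926a911b14d4724f718820
def m11_R3_s4 : Nat := nat_lit 0x926ee646a43b4b033eca42e9318820
noncomputable def m11_R3_lev0 : Core.Lev := Core.mkLev m11_n m11_w m11_mask m11_L m11_maskL m11_idc (nat_lit 1) [m11_R3_s3, m11_R3_s4, m11_R3_s2, m11_R3_s1, m11_R3_s0] [(nat_lit 16, m11_R3_s0, nat_lit 1), (nat_lit 18, m11_R3_s3, nat_lit 16), (nat_lit 4, m11_R3_s4, nat_lit 16), (nat_lit 12, m11_R3_s2, nat_lit 16), (nat_lit 19, m11_R3_s1, nat_lit 16), (nat_lit 17, m11_R3_s4, nat_lit 18), (nat_lit 23, m11_R3_s3, nat_lit 4), (nat_lit 2, m11_R3_s0, nat_lit 4), (nat_lit 3, m11_R3_s0, nat_lit 12), (nat_lit 21, m11_R3_s3, nat_lit 19)]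
noncomputable def m11_R3_lev1 : Core.Lev := Core.mkLev m11_n m11_w m11_mask m11_L m11_maskL m11_idc (nat_lit 2) [m11_R3_s3, m11_R3_s4, m11_R3_s2, m11_R3_s1] [(nat_lit 16, m11_R3_s1, nat_lit 2), (nat_lit 18, m11_R3_s3, nat_lit 16), (nat_lit 4, m11_R3_s4, nat_lit 16), (nat_lit 12, m11_R3_s2, nat_lit 16), (nat_lit 19, m11_R3_s1, nat_lit 16), (nat_lit 17, m11_R3_s4, nat_lit 18), (nat_lit 23, m11_R3_s3, nat_lit 4), (nat_lit 21, m11_R3_s3, nat_lit 19), (nat_lit 3, m11_R3_s2, nat_lit 23)]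
noncomputable def m11_R3_lev2 : Core.Lev := Core.mkLev m11_n m11_w m11_mask m11_L m11_maskL m11_idc (nat_lit 3) [m11_R3_s3, m11_R3_s4, m11_R3_s2] [(nat_lit 16, m11_R3_s2, nat_lit 3), (nat_lit 18, m11_R3_s3, nat_lit 16), (nat_lit 4, m11_R3_s4, nat_lit 16), (nat_lit 12, m11_R3_s2, nat_lit 16), (nat_lit 19, m11_R3_s3, nat_lit 18), (nat_lit 17, m11_R3_s4, nat_lit 18), (nat_lit 23, m11_R3_s3, nat_lit 4), (nat_lit 21, m11_R3_s3, nat_lit 19)]
noncomputable def m11_R3_lev3 : Core.Lev := Core.mkLev m11_n m11_w m11_mask m11_L m11_maskL m11_idc (nat_lit 4) [m11_R3_s3, m11_R3_s4] [(nat_lit 23, m11_R3_s3, nat_lit 4), (nat_lit 19, m11_R3_s4, nat_lit 4), (nat_lit 12, m11_R3_s3, nat_lit 23), (nat_lit 18, m11_R3_s4, nat_lit 23), (nat_lit 21, m11_R3_s3, nat_lit 19), (nat_lit 17, m11_R3_s3, nat_lit 12), (nat_lit 16, m11_R3_s4, nat_lit 12)]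
noncomputable def m11_R3_levels : List Core.Lev := [m11_R3_lev0, m11_R3_lev1, m11_R3_lev2, m11_R3_lev3]

noncomputable def m11_R3_cert : Simple.RepCert := ⟨nat_lit 0x1aa2508a727d91731dd45b53523200, [(nat_lit 0, nat_lit 0, nat_lit 0), (nat_lit 0, nat_lit 0, nat_lit 1), (nat_lit 0, nat_lit 0, nat_lit 2), (nat_lit 0, nat_lit 0, nat_lit 3), (nat_lit 0, nat_lit 0, nat_lit 5), (nat_lit 0, nat_lit 0, nat_lit 6), (nat_lit 0, nat_lit 0, nat_lit 6), (nat_lit 0, nat_lit 0, nat_lit 7), (nat_lit 0, nat_lit 8, nat_lit 9), (nat_lit 0, nat_lit 0, nat_lit 10), (nat_lit 0, nat_lit 0, nat_lit 10), (nat_lit 0, nat_lit 0, nat_lit 12), (nat_lit 0, nat_lit 0, nat_lit 13), (nat_lit 0, nat_lit 0, nat_lit 14)], [(nat_lit 0x6362ea92f2594e34a296799420ce00, nat_lit 0x6520725653326d75396d2a1e11c440), (nat_lit 0x9af6142a3495c4a29af5a0f38c980, nat_lit 0x15865ab221551b37996e424f0912e0)], m11_R3_prog, m11_R3_levels⟩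

def m11_P0_T : List Nat := [nat_lit 0xbae369920c31d15550ae6bd2218640, nat_lit 0x1aa349caac7a0f05d8ae69921b8880, nat_lit 0x1a04d9c4324d94471cd4595f0bb2a0]
def m11_P0_prog : List (Nat × Nat × Nat) := [(nat_lit 1, nat_lit 1, nat_lit 0), (nat_lit 1, nat_lit 1, nat_lit 0), (nat_lit 0, nat_lit 2, nat_lit 3), (nat_lit 0, nat_lit 0, nat_lit 4), (nat_lit 0, nat_lit 0, nat_lit 5), (nat_lit 0, nat_lit 0, nat_lit 5), (nat_lit 0, nat_lit 0, nat_lit 8), (nat_lit 0, nat_lit 0, nat_lit 9), (nat_lit 0, nat_lit 0, nat_lit 10), (nat_lit 0, nat_lit 0, nat_lit 9), (nat_lit 0, nat_lit 0, nat_lit 12), (nat_lit 0, nat_lit 0, nat_lit 12), (nat_lit 0, nat_lit 0, nat_lit 14), (nat_lit 0, nat_lit 12, nat_lit 11), (nat_lit 0, nat_lit 0, nat_lit 1)]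
def m11_P0_s0 : Nat := nat_lit 0x1a04d9c4324d94471cd4595f0bb2a0
def m11_P0_s1 : Nat := nat_lit 0x1d98b98a1179d15a28ad71924bc820
noncomputable def m11_P0_lev0 : Core.Lev := Core.mkLev m11_n m11_w m11_mask m11_L m11_maskL m11_idc (nat_lit 1) [m11_P0_s1, m11_P0_s0] [(nat_lit 21, m11_P0_s0, nat_lit 1), (nat_lit 12, m11_P0_s1, nat_lit 21), (nat_lit 2, m11_P0_s0, nat_lit 21), (nat_lit 4, m11_P0_s0, nat_lit 12), (nat_lit 18, m11_P0_s1, nat_lit 2), (nat_lit 16, m11_P0_s0, nat_lit 4), (nat_lit 17, m11_P0_s0, nat_lit 18)]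
noncomputable def m11_P0_lev1 : Core.Lev := Core.mkLev m11_n m11_w m11_mask m11_L m11_maskL m11_idc (nat_lit 2) [m11_P0_s1] [(nat_lit 18, m11_P0_s1, nat_lit 2)]
noncomputable def m11_P0_levels : List Core.Lev := [m11_P0_lev0, m11_P0_lev1]

noncomputable def m11_P0_cert : Simple.SylCert := ⟨nat_lit 2, nat_lit 16, m11_P0_T, m11_P0_prog, m11_P0_levels, [nat_lit 0xbdab49ca307b9ac5a928398a418820, nat_lit 0xbae369920c31d15550ae6bd2218640, nat_lit 0x1a04d9c4324d94471cd4595f0bb2a0, nat_lit 0x1b8289c2442ae823b5f6524ccbd620, nat_lit 0xb9c2d9c4444d172721f6514d51b200, nat_lit 0xbb8479d4922aac1434d45a5ec1c220, nat_lit 0xbd18a986b1320f0b2cad73d3219040, nat_lit 0x19e4e9b0824aac16a0cba15f5bc600, nat_lit 0xba08e9b2414ae8269deab14d01c6a0, nat_lit 0xbb6489c0222d9443b8cba25f11d580, nat_lit 0x1b4879d4412d172439eab24d1bc180], [(nat_lit 0x1aa349caac7a0f05d8ae69921b8880, nat_lit 0xbdab49ca307b9ac5a928398a418820,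 nat_lit 1, nat_lit 0x1aa349caac7a0f05d8ae69921b8880), (nat_lit 0xbaa0b989957b5d1a5927418a11c880, nat_lit 0x9b625942f53390349e9652de113080, nat_lit 1, nat_lit 0x1aa349caac7a0f05d8ae69921b8880), (nat_lit 0x1aeaa98590335d1b51283bca2b9240, nat_lit 0x9e76132b2715316aa8b7a0d720e00, nat_lit 1, nat_lit 0x1aa349caac7a0f05d8ae69921b8880), (nat_lit 0x1d21699235339ac52d2743cb2b8440, nat_lit 0x1b8289c2442ae823b5f6524ccbd620, nat_lit 1, nat_lit 0x1aa349caac7a0f05d8ae69921b8880), (nat_lit 0x1d98b98a1179d15a28ad71924bc820, nat_lit 0x252e5932355b9434bdb6418e20c260, nat_lit 1, nat_lit 0x1aa349caac7a0f05d8ae69921b8880)], [(nat_lit 1, nat_lit 1, nat_lit 0), (nat_lit 0, nat_lit 2, nat_lit 0), (nat_lit 1, nat_lit 2, nat_lit 0), (nat_lit 0, nat_lit 0, nat_lit 2), (nat_lit 0, nat_lit 1, nat_lit 0), (nat_lit 0, nat_lit 4, nat_lit 0), (nat_lit 0, nat_lit 3, nat_lit 0), (nat_lit 0, nat_lit 6, nat_lit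 0), (nat_lit 0, nat_lit 7, nat_lit 0), (nat_lit 0, nat_lit 6, nat_lit 0), (nat_lit 0, nat_lit 9, nat_lit 9), (nat_lit 0, nat_lit 8, nat_lit 0), (nat_lit 0, nat_lit 9, nat_lit 0), (nat_lit 0, nat_lit 10, nat_lit 0), (nat_lit 0, nat_lit 13, nat_lit 0), (nat_lit 0, nat_lit 12, nat_lit 0), (nat_lit 0, nat_lit 15, nat_lit 13), (nat_lit 0, nat_lit 14, nat_lit 0), (nat_lit 0, nat_lit 17, nat_lit 0), (nat_lit 0, nat_lit 18, nat_lit 0), (nat_lit 0, nat_lit 17, nat_lit 0), (nat_lit 0, nat_lit 20, nat_lit 17), (nat_lit 0, nat_lit 21, nat_lit 0), (nat_lit 0, nat_lit 20, nat_lit 0), (nat_lit 0, nat_lit 23, nat_lit 0), (nat_lit 0, nat_lit 22, nat_lit 0), (nat_lit 0, nat_lit 25, nat_lit 0), (nat_lit 0, nat_lit 26, nat_lit 0), (nat_lit 0, nat_lit 25, nat_lit 0)]⟩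

def m11_P1_T : List Nat := [nat_lit 0xbd866142517b8ac3b68b42553092a0, nat_lit 0xbba2909053b3dac3a8cb450a395600]
def m11_P1_prog : List (Nat × Nat × Nat) := []
def m11_P1_s0 : Nat := nat_lit 0xbd866142517b8ac3b68b42553092a0
def m11_P1_s1 : Nat := nat_lit 0xbba2909053b3dac3a8cb450a395600
noncomputable def m11_P1_lev0 : Core.Lev := Core.mkLev m11_n m11_w m11_mask m11_L m11_maskL m11_idc (nat_lit 1) [m11_P1_s0, m11_P1_s1] [(nat_lit 21, m11_P1_s0, nat_lit 1), (nat_lit 16, m11_P1_s1, nat_lit 1), (nat_lit 3, m11_P1_s0, nat_lit 21), (nat_lit 17, m11_P1_s1, nat_lit 21), (nat_lit 19, m11_P1_s1, nat_lit 16), (nat_lit 18, m11_P1_s1, nat_lit 3), (nat_lit 2, m11_P1_s1, nat_lit 17), (nat_lit 4, m11_P1_s1, nat_lit 18)]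
noncomputable def m11_P1_levels : List Core.Lev := [m11_P1_lev0]

noncomputable def m11_P1_cert : Simple.SylCert := ⟨nat_lit 3, nat_lit 9, m11_P1_T, m11_P1_prog, m11_P1_levels, [nat_lit 0xbdab49ca307b9ac5a928398a418820], [(nat_lit 0xbd866142517b8ac3b68b42553092a0, nat_lit 0xbdab49ca307b9ac5a928398a418820, nat_lit 1, nat_lit 0xbd866142517b8ac3b68b42553092a0), (nat_lit 0xbba2909053b3dac3a8cb450a395600, nat_lit 0x6184890491a25f75396569ed51ce00, nat_lit 1, nat_lit 0xbd866142517b8ac3b68b42553092a0), (nat_lit 0xbd829246127b94c414c75d1a2acc60, nat_lit 0x63a4d19262b3d375d0a7428c18d600, nat_lit 1, nat_lit 0xbd866142517b8ac3b68b42553092a0), (nat_lit 0xbba54acc82b3cac435275994180e20, nat_lit 0xba48e14eb2350ec2adea6d9038c020, nat_lit 1, nat_lit 0xbd866142517b8ac3b68b42553092a0), (nat_lit 0xbbc4680ea1759ac42a875a4b224660, nat_lit 0x6520725653326d75396d2a1e11c440, nat_lit 1, nat_lit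 0xbd866142517b8ac3b68b42553092a0), (nat_lit 0xbba0618a64b3d4c596883a5b588640, nat_lit 0x6206680a413adb77968eb255589260, nat_lit 1, nat_lit 0xbd866142517b8ac3b68b42553092a0), (nat_lit 0xbbc8988475758ac5b4c83d1509c840, nat_lit 0xb9e650c2a442e8c725567b4c21ca20, nat_lit 1, nat_lit 0xbd866142517b8ac3b68b42553092a0), (nat_lit 0xbbe74954237594c3952b419b114080, nat_lit 0x63656844552a9174adc6a3cf318480, nat_lit 1, nat_lit 0xbd866142517b8ac3b68b42553092a0)], [(nat_lit 1, nat_lit 1, nat_lit 0), (nat_lit 0, nat_lit 2, nat_lit 0), (nat_lit 1, nat_lit 2, nat_lit 0), (nat_lit 0, nat_lit 2, nat_lit 0), (nat_lit 0, nat_lit 3, nat_lit 0), (nat_lit 0, nat_lit 2, nat_lit 0), (nat_lit 0, nat_lit 3, nat_lit 0), (nat_lit 0, nat_lit 6, nat_lit 0), (nat_lit 0, nat_lit 5, nat_lit 0), (nat_lit 0, nat_lit 6, nat_lit 0), (nat_lit 0, nat_lit 9, nat_lit 0), (nat_lit 0, nat_lit 8, nat_lit 10), (nat_lit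 0, nat_lit 9, nat_lit 0), (nat_lit 0, nat_lit 10, nat_lit 0), (nat_lit 0, nat_lit 13, nat_lit 0), (nat_lit 0, nat_lit 12, nat_lit 0), (nat_lit 0, nat_lit 13, nat_lit 0), (nat_lit 0, nat_lit 14, nat_lit 0), (nat_lit 0, nat_lit 17, nat_lit 0), (nat_lit 0, nat_lit 16, nat_lit 0), (nat_lit 0, nat_lit 19, nat_lit 7), (nat_lit 0, nat_lit 20, nat_lit 0), (nat_lit 0, nat_lit 19, nat_lit 0), (nat_lit 0, nat_lit 22, nat_lit 0), (nat_lit 0, nat_lit 21, nat_lit 0), (nat_lit 0, nat_lit 22, nat_lit 0), (nat_lit 0, nat_lit 25, nat_lit 0), (nat_lit 0, nat_lit 24, nat_lit 24), (nat_lit 0, nat_lit 25, nat_lit 0), (nat_lit 0, nat_lit 28, nat_lit 0), (nat_lit 0, nat_lit 29, nat_lit 0), (nat_lit 0, nat_lit 30, nat_lit 3), (nat_lit 0, nat_lit 29, nat_lit 0), (nat_lit 0, nat_lit 32, nat_lit 0), (nat_lit 0, nat_lit 31, nat_lit 0), (nat_lit 0, nat_lit 32, nat_lit 0), (nat_lit 0, nat_lit 33, nat_lit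 5), (nat_lit 0, nat_lit 34, nat_lit 0), (nat_lit 0, nat_lit 35, nat_lit 0), (nat_lit 0, nat_lit 38, nat_lit 0), (nat_lit 0, nat_lit 39, nat_lit 0), (nat_lit 0, nat_lit 40, nat_lit 40), (nat_lit 0, nat_lit 39, nat_lit 0), (nat_lit 0, nat_lit 40, nat_lit 0)]⟩

def m11_P2_T : List Nat := [nat_lit 0xd865888907b5773d1c64a91264ea0]
def m11_P2_prog : List (Nat × Nat × Nat) := []
def m11_P2_s0 : Nat := nat_lit 0xd865888907b5773d1c64a91264ea0
noncomputable def m11_P2_lev0 : Core.Lev := Core.mkLev m11_n m11_w m11_mask m11_L m11_maskL m11_idc (nat_lit 1) [m11_P2_s0] [(nat_lit 21, m11_P2_s0, nat_lit 1), (nat_lit 3, m11_P2_s0, nat_lit 21), (nat_lit 12, m11_P2_s0, nat_lit 3), (nat_lit 23, m11_P2_s0, nat_lit 12)]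
noncomputable def m11_P2_levels : List Core.Lev := [m11_P2_lev0]

noncomputable def m11_P2_cert : Simple.SylCert := ⟨nat_lit 5, nat_lit 5, m11_P2_T, m11_P2_prog, m11_P2_levels, [nat_lit 0xbdab49ca307b9ac5a928398a418820], [(nat_lit 0xd865888907b5773d1c64a91264ea0, nat_lit 0xbdab49ca307b9ac5a928398a418820, nat_lit 1, nat_lit 0xd865888907b5773d1c64a91264ea0), (nat_lit 0xad98824e507ace1495aa750c2bc460, nat_lit 0x1bd8d91230b2917a1cab33922acc20, nat_lit 1, nat_lit 0xd865888907b5773d1c64a91264ea0), (nat_lit 0x1dae69445079d35721746955309180, nat_lit 0xabc2e24850b14d7a1d49435711cd80, nat_lit 1, nat_lit 0xd865888907b5773d1c64a91264ea0), (nat_lit 0x6582a112707a5c3698e55a291acae0, nat_lit 0xadae820a3079d6369934728b364820, nat_lit 1, nat_lit 0xd865888907b5773d1c64a91264ea0)], [(nat_lit 1, nat_lit 1, nat_lit 0), (nat_lit 0, nat_lit 2, nat_lit 0), (nat_lit 1, nat_lit 2, nat_lit 0), (nat_lit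 0, nat_lit 0, nat_lit 2), (nat_lit 0, nat_lit 1, nat_lit 0), (nat_lit 0, nat_lit 4, nat_lit 0), (nat_lit 0, nat_lit 3, nat_lit 0), (nat_lit 0, nat_lit 6, nat_lit 0), (nat_lit 0, nat_lit 7, nat_lit 0), (nat_lit 0, nat_lit 6, nat_lit 0), (nat_lit 0, nat_lit 9, nat_lit 0), (nat_lit 0, nat_lit 8, nat_lit 0), (nat_lit 0, nat_lit 11, nat_lit 0), (nat_lit 0, nat_lit 10, nat_lit 0), (nat_lit 0, nat_lit 13, nat_lit 10), (nat_lit 0, nat_lit 14, nat_lit 0), (nat_lit 0, nat_lit 15, nat_lit 0), (nat_lit 0, nat_lit 14, nat_lit 0), (nat_lit 0, nat_lit 15, nat_lit 0), (nat_lit 0, nat_lit 18, nat_lit 0), (nat_lit 0, nat_lit 17, nat_lit 0), (nat_lit 0, nat_lit 20, nat_lit 18), (nat_lit 0, nat_lit 21, nat_lit 0), (nat_lit 0, nat_lit 22, nat_lit 0), (nat_lit 0, nat_lit 21, nat_lit 0), (nat_lit 0, nat_lit 24, nat_lit 0), (nat_lit 0, nat_lit 25, nat_lit 0), (nat_lit 0, nat_lit 26, nat_lit 0),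 (nat_lit 0, nat_lit 25, nat_lit 0), (nat_lit 0, nat_lit 28, nat_lit 0), (nat_lit 0, nat_lit 29, nat_lit 0), (nat_lit 0, nat_lit 30, nat_lit 0)]⟩

def m11_P3_T : List Nat := [nat_lit 0x1aa2508a727d91731dd45b53523200]
def m11_P3_prog : List (Nat × Nat × Nat) := []
def m11_P3_s0 : Nat := nat_lit 0x1aa2508a727d91731dd45b53523200
noncomputable def m11_P3_lev0 : Core.Lev := Core.mkLev m11_n m11_w m11_mask m11_L m11_maskL m11_idc (nat_lit 1) [m11_P3_s0] [(nat_lit 16, m11_P3_s0, nat_lit 1), (nat_lit 18, m11_P3_s0, nat_lit 16), (nat_lit 2, m11_P3_s0, nat_lit 18), (nat_lit 12, m11_P3_s0, nat_lit 2), (nat_lit 23, m11_P3_s0, nat_lit 12), (nat_lit 3, m11_P3_s0, nat_lit 23), (nat_lit 4, m11_P3_s0, nat_lit 3), (nat_lit 21, m11_P3_s0, nat_lit 4), (nat_lit 17, m11_P3_s0, nat_lit 21), (nat_lit 19, m11_P3_s0, nat_lit 17)]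
noncomputable def m11_P3_levels : List Core.Lev := [m11_P3_lev0]

noncomputable def m11_P3_cert : Simple.SylCert := ⟨nat_lit 11, nat_lit 11, m11_P3_T, m11_P3_prog, m11_P3_levels, [nat_lit 0xbdab49ca307b9ac5a928398a418820], [(nat_lit 0x1aa2508a727d91731dd45b53523200, nat_lit 0xbdab49ca307b9ac5a928398a418820, nat_lit 1, nat_lit 0x1aa2508a727d91731dd45b53523200), (nat_lit 0x21e69830227aa836aec5321d1ade40, nat_lit 0x8a896906757a5a371905a1d6c80ae0, nat_lit 2, nat_lit 0x1aa2508a727d91731dd45b53523200), (nat_lit 0xaac2e95e0c79ca4419496d2d388c40, nat_lit 0x65ae890a337d121519672b5d0a9060, nat_lit 1, nat_lit 0x1aa2508a727d91731dd45b53523200), (nat_lit 0x89a1610e577ad35a34ee4154199180, nat_lit 0x8a896906757a5a371905a1d6c80ae0, nat_lit 1, nat_lit 0x1aa2508a727d91731dd45b53523200), (nat_lit 0x9b64a61043799d12a176a24f00d6e0, nat_lit 0xa9e4e8883779973a590a4b4ac1c080, nat_lit 1, nat_lit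 0x1aa2508a727d91731dd45b53523200), (nat_lit 0xa047bd5847b6d34d0ca2b97284460, nat_lit 0xbdab49ca307b9ac5a928398a418820, nat_lit 2, nat_lit 0x1aa2508a727d91731dd45b53523200), (nat_lit 0x8518b1c6f57a141715a74d8c294c80, nat_lit 0x65ae890a337d121519672b5d0a9060, nat_lit 2, nat_lit 0x1aa2508a727d91731dd45b53523200), (nat_lit 0x916e624c717d0f0b250b729ac106a0, nat_lit 0xa9e4e8883779973a590a4b4ac1c080, nat_lit 2, nat_lit 0x1aa2508a727d91731dd45b53523200), (nat_lit 0x1246da84937957253a86b1d1764220, nat_lit 0xd987112327a1633354572693bc2a0, nat_lit 1, nat_lit 0x1aa2508a727d91731dd45b53523200), (nat_lit 0x638888c2a17a4c23d8ad52e83bca60, nat_lit 0xd987112327a1633354572693bc2a0, nat_lit 2, nat_lit 0x1aa2508a727d91731dd45b53523200)], [(nat_lit 1, nat_lit 1, nat_lit 0), (nat_lit 0, nat_lit 2, nat_lit 0), (nat_lit 1, nat_lit 2, nat_lit 0), (nat_lit 0, nat_lit 0, nat_lit 2), (nat_lit 0, nat_lit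 3, nat_lit 0), (nat_lit 0, nat_lit 2, nat_lit 0), (nat_lit 0, nat_lit 5, nat_lit 0), (nat_lit 0, nat_lit 4, nat_lit 0), (nat_lit 0, nat_lit 7, nat_lit 0), (nat_lit 0, nat_lit 8, nat_lit 0), (nat_lit 0, nat_lit 7, nat_lit 0), (nat_lit 0, nat_lit 10, nat_lit 8), (nat_lit 0, nat_lit 11, nat_lit 0), (nat_lit 0, nat_lit 12, nat_lit 0), (nat_lit 0, nat_lit 11, nat_lit 0), (nat_lit 0, nat_lit 14, nat_lit 0), (nat_lit 0, nat_lit 15, nat_lit 0), (nat_lit 0, nat_lit 16, nat_lit 0), (nat_lit 0, nat_lit 15, nat_lit 0), (nat_lit 0, nat_lit 18, nat_lit 0), (nat_lit 0, nat_lit 19, nat_lit 15), (nat_lit 0, nat_lit 18, nat_lit 0), (nat_lit 0, nat_lit 21, nat_lit 0), (nat_lit 0, nat_lit 22, nat_lit 0), (nat_lit 0, nat_lit 21, nat_lit 0), (nat_lit 0, nat_lit 24, nat_lit 0), (nat_lit 0, nat_lit 25, nat_lit 0), (nat_lit 0, nat_lit 24, nat_lit 23), (nat_lit 0, nat_lit 27, nat_lit 0), (nat_lit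 0, nat_lit 28, nat_lit 0), (nat_lit 0, nat_lit 27, nat_lit 0), (nat_lit 0, nat_lit 28, nat_lit 0), (nat_lit 0, nat_lit 29, nat_lit 0), (nat_lit 0, nat_lit 32, nat_lit 0)]⟩

noncomputable def m11_reps : List Simple.RepCert := [m11_R0_cert, m11_R1_cert, m11_R2_cert, m11_R3_cert]
noncomputable def m11_syls : List Simple.SylCert := [m11_P0_cert, m11_P1_cert, m11_P2_cert, m11_P3_cert]

set_option maxRecDepth 1000000 in
theorem m11_G_ok : Core.checkAll m11_n m11_w m11_mask m11_L m11_maskL m11_idc m11_G_T m11_G_prog m11_G_levels = true := by decide +kernel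

theorem m11_order : Core.orderC m11_G_levels = 7920 := by decide +kernel

set_option maxRecDepth 1000000 in
theorem m11_reps_ok : Core.allL (Simple.repCheck m11_n m11_w m11_mask m11_L m11_maskL m11_idc m11_G_T m11_G_levels 7920) m11_reps = true := by decide +kernel

set_option maxRecDepth 1000000 in
theorem m11_syls_ok : Core.allL (Simple.sylCheck m11_n m11_w m11_mask m11_L m11_maskL m11_idc m11_G_T m11_G_levels 7920 (m11_reps.map (·.r))) m11_syls = true := by decide +kernel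

theorem m11_prod : (m11_syls.map (·.pk)).prod = 7920 := by decide +kernel

end Cfsg.Agent.Lib.PermComp.Mathieu.CertM11
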