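import Cfsg.Agent.Lib.PermComp.Simple

/-!
# Certificate of simplicity for the Mathieu group M12

Generated by `tools/gen_m1x.py`: a stabilizer chain of the group generated by the codes
`m12_G_T`, and the Sylow and normal closure data.
-/

namespace Cfsg.Agent.Lib.PermComp.Mathieu.CertM12

open Cfsg.Agent.Lib.PermComp

def m12_n : Nat := nat_lit 24
def m12_w : Nat := nat_lit 5
def m12_mask : Nat := nat_lit 31
def m12_L : Nat := nat_lit 120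
def m12_maskL : Nat := nat_lit 0xffffffffffffffffffffffffffffff
def m12_idc : Nat := nat_lit 0xbdab49ca307b9ac5a928398a418820

def m12_G_T : List Nat := [nat_lit 0x264d642f12ad42458ef71a9520c33, nat_lit 0x22076aca60718b751e897b57108990]
def m12_G_prog : List (Nat × Nat × Nat) := [(nat_lit 1, nat_lit 1, nat_lit 0), (nat_lit 1, nat_lit 1, nat_lit 0), (nat_lit 0, nat_lit 3, nat_lit 2), (nat_lit 0, nat_lit 0, nat_lit 4), (nat_lit 0, nat_lit 0, nat_lit 4), (nat_lit 0, nat_lit 0, nat_lit 5), (nat_lit 0, nat_lit 5, nat_lit 4), (nat_lit 0, nat_lit 0, nat_lit 6), (nat_lit 0, nat_lit 0, nat_lit 2), (nat_lit 0, nat_lit 9, nat_lit 10), (nat_lit 0, nat_lit 0, nat_lit 11), (nat_lit 0, nat_lit 0, nat_lit 11), (nat_lit 0, nat_lit 0, nat_lit 13), (nat_lit 0, nat_lit 0, nat_lit 13), (nat_lit 0, nat_lit 0, nat_lit 14), (nat_lit 0, nat_lit 0, nat_lit 16), (nat_lit 0, nat_lit 0, nat_lit 16),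 (nat_lit 0, nat_lit 0, nat_lit 17), (nat_lit 0, nat_lit 16, nat_lit 0), (nat_lit 1, nat_lit 10, nat_lit 0), (nat_lit 0, nat_lit 11, nat_lit 1), (nat_lit 0, nat_lit 0, nat_lit 12), (nat_lit 0, nat_lit 0, nat_lit 13), (nat_lit 0, nat_lit 0, nat_lit 14), (nat_lit 0, nat_lit 4, nat_lit 4), (nat_lit 0, nat_lit 0, nat_lit 1), (nat_lit 0, nat_lit 17, nat_lit 17), (nat_lit 0, nat_lit 0, nat_lit 8), (nat_lit 0, nat_lit 0, nat_lit 19), (nat_lit 0, nat_lit 0, nat_lit 20), (nat_lit 0, nat_lit 0, nat_lit 11), (nat_lit 0, nat_lit 0, nat_lit 12), (nat_lit 0, nat_lit 0, nat_lit 23), (nat_lit 0, nat_lit 0, nat_lit 14), (nat_lit 0, nat_lit 0, nat_lit 25), (nat_lit 0, nat_lit 10, nat_lit 0), (nat_lit 1, nat_lit 10, nat_lit 0), (nat_lit 1, nat_lit 1, nat_lit 0), (nat_lit 0, nat_lit 12, nat_lit 2), (nat_lit 0, nat_lit 0, nat_lit 13), (nat_lit 0, nat_lit 0, nat_lit 4), (nat_lit 0, nat_lit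 0, nat_lit 15), (nat_lit 0, nat_lit 0, nat_lit 16), (nat_lit 0, nat_lit 0, nat_lit 7), (nat_lit 0, nat_lit 0, nat_lit 18), (nat_lit 0, nat_lit 0, nat_lit 9), (nat_lit 0, nat_lit 0, nat_lit 10), (nat_lit 0, nat_lit 0, nat_lit 21), (nat_lit 0, nat_lit 11, nat_lit 10), (nat_lit 0, nat_lit 0, nat_lit 12), (nat_lit 0, nat_lit 0, nat_lit 2), (nat_lit 0, nat_lit 15, nat_lit 15), (nat_lit 0, nat_lit 0, nat_lit 16), (nat_lit 0, nat_lit 0, nat_lit 27), (nat_lit 0, nat_lit 0, nat_lit 18), (nat_lit 0, nat_lit 0, nat_lit 29), (nat_lit 0, nat_lit 0, nat_lit 20), (nat_lit 0, nat_lit 0, nat_lit 21), (nat_lit 0, nat_lit 20, nat_lit 21), (nat_lit 0, nat_lit 0, nat_lit 1), (nat_lit 0, nat_lit 16, nat_lit 24), (nat_lit 0, nat_lit 0, nat_lit 25), (nat_lit 0, nat_lit 12, nat_lit 0), (nat_lit 0, nat_lit 37, nat_lit 37), (nat_lit 0, nat_lit 0, nat_lit 28), (nat_lit 0, nat_lit 0, nat_lit 29),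 (nat_lit 0, nat_lit 0, nat_lit 40), (nat_lit 0, nat_lit 0, nat_lit 41), (nat_lit 0, nat_lit 0, nat_lit 42), (nat_lit 0, nat_lit 0, nat_lit 43), (nat_lit 0, nat_lit 0, nat_lit 44), (nat_lit 0, nat_lit 0, nat_lit 45), (nat_lit 0, nat_lit 0, nat_lit 36), (nat_lit 0, nat_lit 36, nat_lit 36), (nat_lit 0, nat_lit 0, nat_lit 1), (nat_lit 1, nat_lit 24, nat_lit 0), (nat_lit 1, nat_lit 16, nat_lit 0), (nat_lit 1, nat_lit 14, nat_lit 0), (nat_lit 0, nat_lit 15, nat_lit 3), (nat_lit 0, nat_lit 0, nat_lit 16), (nat_lit 0, nat_lit 0, nat_lit 29), (nat_lit 0, nat_lit 0, nat_lit 6), (nat_lit 0, nat_lit 0, nat_lit 22), (nat_lit 0, nat_lit 0, nat_lit 23), (nat_lit 0, nat_lit 0, nat_lit 9), (nat_lit 0, nat_lit 0, nat_lit 34), (nat_lit 0, nat_lit 8, nat_lit 9), (nat_lit 0, nat_lit 0, nat_lit 1), (nat_lit 0, nat_lit 13, nat_lit 28), (nat_lit 0, nat_lit 0, nat_lit 14), (nat_lit 0, nat_lit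 0, nat_lit 15), (nat_lit 0, nat_lit 0, nat_lit 28), (nat_lit 0, nat_lit 0, nat_lit 17), (nat_lit 0, nat_lit 0, nat_lit 30), (nat_lit 0, nat_lit 0, nat_lit 43), (nat_lit 0, nat_lit 0, nat_lit 32), (nat_lit 0, nat_lit 20, nat_lit 18), (nat_lit 0, nat_lit 0, nat_lit 1)]
def m12_G_s0 : Nat := nat_lit 0x264d642f12ad42458ef71a9520c33
def m12_G_s1 : Nat := nat_lit 0x8a4281cab0335643bed47155360ae0
def m12_G_s2 : Nat := nat_lit 0x8146788a5733d55722c96ae9323020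
def m12_G_s3 : Nat := nat_lit 0x1beeb8c893b1d156a4d47155060820
def m12_G_s4 : Nat := nat_lit 0x9998a89217720f24b565a59f518820
def m12_G_s5 : Nat := nat_lit 0x62e0facc926a911b14d4724f718820
noncomputable def m12_G_lev0 : Core.Lev := Core.mkLev m12_n m12_w m12_mask m12_L m12_maskL m12_idc (nat_lit 0) [m12_G_s4, m12_G_s5, m12_G_s3, m12_G_s2, m12_G_s1, m12_G_s0] [(nat_lit 19, m12_G_s0, nat_lit 0), (nat_lit 17, m12_G_s4, nat_lit 19), (nat_lit 21, m12_G_s5, nat_lit 19), (nat_lit 3, m12_G_s1, nat_lit 19), (nat_lit 12, m12_G_s0, nat_lit 19), (nat_lit 16, m12_G_s4, nat_lit 17), (nat_lit 4, m12_G_s5, nat_lit 17), (nat_lit 18, m12_G_s2, nat_lit 17), (nat_lit 23, m12_G_s0, nat_lit 17), (nat_lit 1, m12_G_s1, nat_lit 21), (nat_lit 2, m12_G_s0, nat_lit 12)]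
noncomputable def m12_G_lev1 : Core.Lev := Core.mkLev m12_n m12_w m12_mask m12_L m12_maskL m12_idc (nat_lit 1) [m12_G_s4, m12_G_s5, m12_G_s3, m12_G_s2, m12_G_s1] [(nat_lit 23, m12_G_s1, nat_lit 1), (nat_lit 19, m12_G_s4, nat_lit 23), (nat_lit 12, m12_G_s5, nat_lit 23), (nat_lit 3, m12_G_s3, nat_lit 23), (nat_lit 16, m12_G_s2, nat_lit 23), (nat_lit 17, m12_G_s1, nat_lit 23), (nat_lit 21, m12_G_s5, nat_lit 19), (nat_lit 18, m12_G_s4, nat_lit 12), (nat_lit 4, m12_G_s1, nat_lit 12), (nat_lit 2, m12_G_s2, nat_lit 18)]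
noncomputable def m12_G_lev2 : Core.Lev := Core.mkLev m12_n m12_w m12_mask m12_L m12_maskL m12_idc (nat_lit 2) [m12_G_s4, m12_G_s5, m12_G_s3, m12_G_s2] [(nat_lit 12, m12_G_s2, nat_lit 2), (nat_lit 18, m12_G_s4, nat_lit 12), (nat_lit 17, m12_G_s5, nat_lit 12), (nat_lit 21, m12_G_s3, nat_lit 12), (nat_lit 4, m12_G_s4, nat_lit 18), (nat_lit 19, m12_G_s5, nat_lit 18), (nat_lit 16, m12_G_s4, nat_lit 17), (nat_lit 23, m12_G_s3, nat_lit 21), (nat_lit 3, m12_G_s2, nat_lit 21)]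
noncomputable def m12_G_lev3 : Core.Lev := Core.mkLev m12_n m12_w m12_mask m12_L m12_maskL m12_idc (nat_lit 3) [m12_G_s4, m12_G_s5, m12_G_s3] [(nat_lit 12, m12_G_s3, nat_lit 3), (nat_lit 18, m12_G_s4, nat_lit 12), (nat_lit 17, m12_G_s5, nat_lit 12), (nat_lit 21, m12_G_s3, nat_lit 12), (nat_lit 4, m12_G_s4, nat_lit 18), (nat_lit 19, m12_G_s5, nat_lit 18), (nat_lit 16, m12_G_s4, nat_lit 17), (nat_lit 23, m12_G_s3, nat_lit 21)]
noncomputable def m12_G_lev4 : Core.Lev := Core.mkLev m12_n m12_w m12_mask m12_L m12_maskL m12_idc (nat_lit 4) [m12_G_s4, m12_G_s5] [(nat_lit 21, m12_G_s4, nat_lit 4), (nat_lit 23, m12_G_s5, nat_lit 4), (nat_lit 12, m12_G_s4, nat_lit 21), (nat_lit 16, m12_G_s5, nat_lit 21), (nat_lit 19, m12_G_s4, nat_lit 23), (nat_lit 18, m12_G_s4, nat_lit 12), (nat_lit 17, m12_G_s5, nat_lit 12)]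
noncomputable def m12_G_levels : List Core.Lev := [m12_G_lev0, m12_G_lev1, m12_G_lev2, m12_G_lev3, m12_G_lev4]

def m12_R0_T : List Nat := [nat_lit 0x250769c03273cec2a92869977a8a20, nat_lit 0x1220764a357b93352db6a18a40dc60, nat_lit 0x95a2e9deb0450a43292f3adac00823]
def m12_R0_prog : List (Nat × Nat × Nat) := [(nat_lit 1, nat_lit 1, nat_lit 0), (nat_lit 0, nat_lit 3, nat_lit 1), (nat_lit 0, nat_lit 0, nat_lit 4), (nat_lit 0, nat_lit 0, nat_lit 3), (nat_lit 0, nat_lit 0, nat_lit 4), (nat_lit 0, nat_lit 0, nat_lit 7), (nat_lit 0, nat_lit 0, nat_lit 6), (nat_lit 0, nat_lit 0, nat_lit 7), (nat_lit 0, nat_lit 0, nat_lit 10), (nat_lit 0, nat_lit 0, nat_lit 9), (nat_lit 0, nat_lit 0, nat_lit 10), (nat_lit 0, nat_lit 0, nat_lit 11), (nat_lit 0, nat_lit 11, nat_lit 0), (nat_lit 0, nat_lit 15, nat_lit 14), (nat_lit 0, nat_lit 0, nat_lit 16), (nat_lit 0, nat_lit 0, nat_lit 16), (nat_lit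 0, nat_lit 0, nat_lit 16), (nat_lit 0, nat_lit 0, nat_lit 17), (nat_lit 0, nat_lit 0, nat_lit 19), (nat_lit 0, nat_lit 0, nat_lit 19), (nat_lit 1, nat_lit 7, nat_lit 0), (nat_lit 1, nat_lit 1, nat_lit 0), (nat_lit 0, nat_lit 9, nat_lit 9), (nat_lit 0, nat_lit 0, nat_lit 10), (nat_lit 0, nat_lit 0, nat_lit 4), (nat_lit 0, nat_lit 0, nat_lit 5), (nat_lit 0, nat_lit 0, nat_lit 6), (nat_lit 0, nat_lit 0, nat_lit 7), (nat_lit 0, nat_lit 0, nat_lit 8), (nat_lit 0, nat_lit 0, nat_lit 9), (nat_lit 0, nat_lit 0, nat_lit 17), (nat_lit 0, nat_lit 0, nat_lit 18), (nat_lit 0, nat_lit 0, nat_lit 12), (nat_lit 0, nat_lit 11, nat_lit 0), (nat_lit 0, nat_lit 14, nat_lit 21), (nat_lit 0, nat_lit 0, nat_lit 22), (nat_lit 0, nat_lit 0, nat_lit 23), (nat_lit 0, nat_lit 15, nat_lit 16), (nat_lit 0, nat_lit 0, nat_lit 1), (nat_lit 1, nat_lit 5, nat_lit 0), (nat_lit 0, nat_lit 1, nat_lit 6),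 (nat_lit 0, nat_lit 0, nat_lit 2), (nat_lit 0, nat_lit 0, nat_lit 3), (nat_lit 0, nat_lit 0, nat_lit 9), (nat_lit 0, nat_lit 0, nat_lit 5), (nat_lit 0, nat_lit 0, nat_lit 11), (nat_lit 0, nat_lit 0, nat_lit 12), (nat_lit 0, nat_lit 0, nat_lit 8), (nat_lit 0, nat_lit 0, nat_lit 9), (nat_lit 0, nat_lit 8, nat_lit 15), (nat_lit 0, nat_lit 0, nat_lit 11), (nat_lit 0, nat_lit 0, nat_lit 12), (nat_lit 0, nat_lit 0, nat_lit 18), (nat_lit 0, nat_lit 0, nat_lit 14), (nat_lit 0, nat_lit 0, nat_lit 15), (nat_lit 0, nat_lit 21, nat_lit 16), (nat_lit 0, nat_lit 0, nat_lit 22), (nat_lit 0, nat_lit 0, nat_lit 23), (nat_lit 0, nat_lit 0, nat_lit 19), (nat_lit 0, nat_lit 0, nat_lit 20), (nat_lit 0, nat_lit 0, nat_lit 21), (nat_lit 0, nat_lit 0, nat_lit 27), (nat_lit 0, nat_lit 0, nat_lit 28), (nat_lit 0, nat_lit 0, nat_lit 29), (nat_lit 0, nat_lit 24, nat_lit 24), (nat_lit 0, nat_lit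 0, nat_lit 1), (nat_lit 0, nat_lit 24, nat_lit 32), (nat_lit 0, nat_lit 0, nat_lit 33), (nat_lit 0, nat_lit 0, nat_lit 34), (nat_lit 0, nat_lit 0, nat_lit 30), (nat_lit 0, nat_lit 0, nat_lit 31), (nat_lit 0, nat_lit 6, nat_lit 0), (nat_lit 0, nat_lit 38, nat_lit 38), (nat_lit 0, nat_lit 0, nat_lit 34), (nat_lit 0, nat_lit 0, nat_lit 35), (nat_lit 0, nat_lit 0, nat_lit 36), (nat_lit 0, nat_lit 0, nat_lit 37), (nat_lit 0, nat_lit 0, nat_lit 38), (nat_lit 0, nat_lit 0, nat_lit 44), (nat_lit 0, nat_lit 0, nat_lit 40), (nat_lit 0, nat_lit 0, nat_lit 41), (nat_lit 0, nat_lit 0, nat_lit 47), (nat_lit 1, nat_lit 33, nat_lit 0), (nat_lit 0, nat_lit 28, nat_lit 28), (nat_lit 0, nat_lit 0, nat_lit 29), (nat_lit 0, nat_lit 0, nat_lit 30), (nat_lit 0, nat_lit 0, nat_lit 14), (nat_lit 0, nat_lit 0, nat_lit 21), (nat_lit 0, nat_lit 5, nat_lit 0), (nat_lit 0, nat_lit 17, nat_lit 7),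 (nat_lit 0, nat_lit 0, nat_lit 18), (nat_lit 0, nat_lit 0, nat_lit 36), (nat_lit 0, nat_lit 0, nat_lit 43), (nat_lit 0, nat_lit 0, nat_lit 21), (nat_lit 0, nat_lit 0, nat_lit 28), (nat_lit 0, nat_lit 0, nat_lit 46), (nat_lit 0, nat_lit 0, nat_lit 14), (nat_lit 0, nat_lit 0, nat_lit 15), (nat_lit 0, nat_lit 0, nat_lit 49), (nat_lit 0, nat_lit 0, nat_lit 50), (nat_lit 0, nat_lit 17, nat_lit 0)]
def m12_R0_s0 : Nat := nat_lit 0x250769c03273cec2a92869977a8a20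
def m12_R0_s1 : Nat := nat_lit 0x93e3664c0471cd52ada85512285c23
def m12_R0_s2 : Nat := nat_lit 0x1ba69812b1350ac3aeca43db790820
def m12_R0_s3 : Nat := nat_lit 0x252f68d4505a9f3438ad324f21b020
def m12_R0_s4 : Nat := nat_lit 0x22e6894195a1df7b38cd2a55118820
def m12_R0_s5 : Nat := nat_lit 0x926ee646a43b4b033eca42e9318820
noncomputable def m12_R0_lev0 : Core.Lev := Core.mkLev m12_n m12_w m12_mask m12_L m12_maskL m12_idc (nat_lit 1) [m12_R0_s4, m12_R0_s5, m12_R0_s3, m12_R0_s2, m12_R0_s1, m12_R0_s0] [(nat_lit 17, m12_R0_s0, nat_lit 1), (nat_lit 12, m12_R0_s4, nat_lit 17), (nat_lit 21, m12_R0_s5, nat_lit 17), (nat_lit 2, m12_R0_s3, nat_lit 17), (nat_lit 0, m12_R0_s1, nat_lit 17), (nat_lit 23, m12_R0_s4, nat_lit 12), (nat_lit 16, m12_R0_s5, nat_lit 12), (nat_lit 19, m12_R0_s3, nat_lit 12), (nat_lit 3, m12_R0_s0, nat_lit 21), (nat_lit 4, m12_R0_s4, nat_lit 23), (nat_lit 18, m12_R0_s5,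 nat_lit 23)]
noncomputable def m12_R0_lev1 : Core.Lev := Core.mkLev m12_n m12_w m12_mask m12_L m12_maskL m12_idc (nat_lit 0) [m12_R0_s4, m12_R0_s5, m12_R0_s3, m12_R0_s2, m12_R0_s1] [(nat_lit 3, m12_R0_s1, nat_lit 0), (nat_lit 18, m12_R0_s2, nat_lit 3), (nat_lit 16, m12_R0_s1, nat_lit 3), (nat_lit 17, m12_R0_s5, nat_lit 18), (nat_lit 21, m12_R0_s3, nat_lit 18), (nat_lit 4, m12_R0_s2, nat_lit 18), (nat_lit 19, m12_R0_s1, nat_lit 18), (nat_lit 12, m12_R0_s4, nat_lit 17), (nat_lit 2, m12_R0_s3, nat_lit 17), (nat_lit 23, m12_R0_s5, nat_lit 21)]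
noncomputable def m12_R0_lev2 : Core.Lev := Core.mkLev m12_n m12_w m12_mask m12_L m12_maskL m12_idc (nat_lit 3) [m12_R0_s4, m12_R0_s5, m12_R0_s3, m12_R0_s2] [(nat_lit 18, m12_R0_s2, nat_lit 3), (nat_lit 16, m12_R0_s4, nat_lit 18), (nat_lit 17, m12_R0_s5, nat_lit 18), (nat_lit 21, m12_R0_s3, nat_lit 18), (nat_lit 4, m12_R0_s2, nat_lit 18), (nat_lit 12, m12_R0_s4, nat_lit 17), (nat_lit 2, m12_R0_s3, nat_lit 17), (nat_lit 19, m12_R0_s4, nat_lit 21), (nat_lit 23, m12_R0_s5, nat_lit 21)]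
noncomputable def m12_R0_lev3 : Core.Lev := Core.mkLev m12_n m12_w m12_mask m12_L m12_maskL m12_idc (nat_lit 2) [m12_R0_s4, m12_R0_s5, m12_R0_s3] [(nat_lit 12, m12_R0_s3, nat_lit 2), (nat_lit 23, m12_R0_s4, nat_lit 12), (nat_lit 16, m12_R0_s5, nat_lit 12), (nat_lit 19, m12_R0_s3, nat_lit 12), (nat_lit 4, m12_R0_s4, nat_lit 23), (nat_lit 18, m12_R0_s5, nat_lit 23), (nat_lit 21, m12_R0_s4, nat_lit 16), (nat_lit 17, m12_R0_s3, nat_lit 19)]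
noncomputable def m12_R0_lev4 : Core.Lev := Core.mkLev m12_n m12_w m12_mask m12_L m12_maskL m12_idc (nat_lit 4) [m12_R0_s4, m12_R0_s5] [(nat_lit 17, m12_R0_s4, nat_lit 4), (nat_lit 19, m12_R0_s5, nat_lit 4), (nat_lit 12, m12_R0_s4, nat_lit 17), (nat_lit 21, m12_R0_s5, nat_lit 17), (nat_lit 18, m12_R0_s4, nat_lit 19), (nat_lit 23, m12_R0_s4, nat_lit 12), (nat_lit 16, m12_R0_s5, nat_lit 12)]
noncomputable def m12_R0_levels : List Core.Lev := [m12_R0_lev0, m12_R0_lev1, m12_R0_lev2, m12_R0_lev3, m12_R0_lev4]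

noncomputable def m12_R0_cert : Simple.RepCert := ⟨nat_lit 0x91eae0de227d1a432548b2cac1c260, [(nat_lit 0, nat_lit 1, nat_lit 1), (nat_lit 0, nat_lit 0, nat_lit 1), (nat_lit 0, nat_lit 0, nat_lit 2), (nat_lit 0, nat_lit 0, nat_lit 4), (nat_lit 0, nat_lit 0, nat_lit 5), (nat_lit 0, nat_lit 0, nat_lit 6), (nat_lit 0, nat_lit 0, nat_lit 6), (nat_lit 0, nat_lit 0, nat_lit 8), (nat_lit 0, nat_lit 0, nat_lit 9), (nat_lit 0, nat_lit 0, nat_lit 10), (nat_lit 0, nat_lit 0, nat_lit 10), (nat_lit 0, nat_lit 12, nat_lit 11), (nat_lit 0, nat_lit 0, nat_lit 12), (nat_lit 0, nat_lit 0, nat_lit 14), (nat_lit 0, nat_lit 0, nat_lit 14), (nat_lit 0, nat_lit 0, nat_lit 16), (nat_lit 0, nat_lit 0, nat_lit 17), (nat_lit 0, nat_lit 0, nat_lit 17), (nat_lit 0, nat_lit 0, nat_lit 18), (nat_lit 0, nat_lit 0, nat_lit 20), (nat_lit 0, nat_lit 0, nat_lit 20), (nat_lit 0, nat_lit 0, nat_lit 22), (nat_lit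 0, nat_lit 0, nat_lit 22), (nat_lit 0, nat_lit 0, nat_lit 23), (nat_lit 0, nat_lit 0, nat_lit 24), (nat_lit 0, nat_lit 24, nat_lit 26), (nat_lit 0, nat_lit 0, nat_lit 26), (nat_lit 0, nat_lit 0, nat_lit 28), (nat_lit 0, nat_lit 0, nat_lit 29), (nat_lit 0, nat_lit 0, nat_lit 29), (nat_lit 0, nat_lit 0, nat_lit 31), (nat_lit 0, nat_lit 0, nat_lit 31), (nat_lit 0, nat_lit 0, nat_lit 33), (nat_lit 0, nat_lit 0, nat_lit 34), (nat_lit 0, nat_lit 0, nat_lit 34), (nat_lit 0, nat_lit 0, nat_lit 35)], [(nat_lit 0x250769c03273cec2a92869977a8a20, nat_lit 0x2580d1de6131d527aca8a3930146ac), (nat_lit 0x1220764a357b93352db6a18a40dc60, nat_lit 0x9b408bb255358a3550ee4ade124051), (nat_lit 0x95a2e9deb0450a43292f3adac00823, nat_lit 0xad266044523aecc2a1e9735440dc70)], m12_R0_prog, m12_R0_levels⟩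

def m12_R1_T : List Nat := [nat_lit 0x9ba2ab8aa33d8c42d1097b56c84801, nat_lit 0x8bc4908ee0b28c443a8b2b4ec95670, nat_lit 0xaaeee2464c550b0b3cc7425b308062]
def m12_R1_prog : List (Nat × Nat × Nat) := [(nat_lit 1, nat_lit 2, nat_lit 0), (nat_lit 1, nat_lit 1, nat_lit 0), (nat_lit 0, nat_lit 4, nat_lit 2), (nat_lit 0, nat_lit 0, nat_lit 5), (nat_lit 0, nat_lit 0, nat_lit 4), (nat_lit 0, nat_lit 0, nat_lit 6), (nat_lit 0, nat_lit 0, nat_lit 7), (nat_lit 0, nat_lit 0, nat_lit 8), (nat_lit 0, nat_lit 0, nat_lit 8), (nat_lit 0, nat_lit 0, nat_lit 10), (nat_lit 0, nat_lit 0, nat_lit 12), (nat_lit 0, nat_lit 0, nat_lit 12), (nat_lit 0, nat_lit 0, nat_lit 13), (nat_lit 0, nat_lit 13, nat_lit 15), (nat_lit 0, nat_lit 0, nat_lit 14), (nat_lit 0, nat_lit 0, nat_lit 15), (nat_lit 0, nat_lit 0, nat_lit 16), (nat_lit 0, nat_lit 0, nat_lit 19), (nat_lit 0, nat_lit 0, nat_lit 18), (nat_lit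 0, nat_lit 0, nat_lit 21), (nat_lit 0, nat_lit 0, nat_lit 20), (nat_lit 0, nat_lit 0, nat_lit 22), (nat_lit 0, nat_lit 20, nat_lit 21), (nat_lit 0, nat_lit 0, nat_lit 1), (nat_lit 1, nat_lit 11, nat_lit 0), (nat_lit 1, nat_lit 1, nat_lit 0), (nat_lit 0, nat_lit 2, nat_lit 13), (nat_lit 0, nat_lit 0, nat_lit 14), (nat_lit 0, nat_lit 0, nat_lit 4), (nat_lit 0, nat_lit 0, nat_lit 5), (nat_lit 0, nat_lit 0, nat_lit 6), (nat_lit 0, nat_lit 0, nat_lit 18), (nat_lit 0, nat_lit 0, nat_lit 8), (nat_lit 0, nat_lit 0, nat_lit 9), (nat_lit 0, nat_lit 0, nat_lit 21), (nat_lit 0, nat_lit 0, nat_lit 22), (nat_lit 0, nat_lit 0, nat_lit 23), (nat_lit 0, nat_lit 12, nat_lit 11), (nat_lit 0, nat_lit 0, nat_lit 1), (nat_lit 0, nat_lit 15, nat_lit 15), (nat_lit 0, nat_lit 0, nat_lit 16), (nat_lit 0, nat_lit 0, nat_lit 28), (nat_lit 0, nat_lit 0, nat_lit 29), (nat_lit 0, nat_lit 0, nat_lit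 19), (nat_lit 0, nat_lit 0, nat_lit 20), (nat_lit 0, nat_lit 0, nat_lit 32), (nat_lit 0, nat_lit 0, nat_lit 22), (nat_lit 0, nat_lit 0, nat_lit 23), (nat_lit 0, nat_lit 10, nat_lit 23), (nat_lit 0, nat_lit 0, nat_lit 24), (nat_lit 0, nat_lit 0, nat_lit 25), (nat_lit 0, nat_lit 0, nat_lit 3), (nat_lit 1, nat_lit 13, nat_lit 0), (nat_lit 1, nat_lit 1, nat_lit 0), (nat_lit 0, nat_lit 2, nat_lit 2), (nat_lit 0, nat_lit 0, nat_lit 16), (nat_lit 0, nat_lit 0, nat_lit 17), (nat_lit 0, nat_lit 0, nat_lit 18), (nat_lit 0, nat_lit 5, nat_lit 5), (nat_lit 0, nat_lit 0, nat_lit 6), (nat_lit 0, nat_lit 0, nat_lit 2), (nat_lit 0, nat_lit 22, nat_lit 22), (nat_lit 0, nat_lit 0, nat_lit 10), (nat_lit 0, nat_lit 0, nat_lit 24), (nat_lit 0, nat_lit 0, nat_lit 25), (nat_lit 0, nat_lit 0, nat_lit 26), (nat_lit 0, nat_lit 0, nat_lit 27), (nat_lit 0, nat_lit 0, nat_lit 15), (nat_lit 0, nat_lit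 0, nat_lit 16), (nat_lit 0, nat_lit 0, nat_lit 30), (nat_lit 0, nat_lit 0, nat_lit 18), (nat_lit 0, nat_lit 0, nat_lit 19), (nat_lit 0, nat_lit 33, nat_lit 20), (nat_lit 0, nat_lit 0, nat_lit 21), (nat_lit 0, nat_lit 0, nat_lit 35), (nat_lit 0, nat_lit 0, nat_lit 23), (nat_lit 0, nat_lit 0, nat_lit 24), (nat_lit 0, nat_lit 0, nat_lit 25), (nat_lit 0, nat_lit 0, nat_lit 26), (nat_lit 0, nat_lit 0, nat_lit 27), (nat_lit 0, nat_lit 0, nat_lit 41), (nat_lit 0, nat_lit 0, nat_lit 42), (nat_lit 0, nat_lit 22, nat_lit 0), (nat_lit 0, nat_lit 10, nat_lit 44), (nat_lit 0, nat_lit 0, nat_lit 45), (nat_lit 0, nat_lit 0, nat_lit 46), (nat_lit 0, nat_lit 0, nat_lit 34), (nat_lit 0, nat_lit 0, nat_lit 48), (nat_lit 0, nat_lit 0, nat_lit 49), (nat_lit 0, nat_lit 0, nat_lit 50), (nat_lit 0, nat_lit 31, nat_lit 36), (nat_lit 0, nat_lit 0, nat_lit 38), (nat_lit 0, nat_lit 0, nat_lit 2),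 (nat_lit 1, nat_lit 32, nat_lit 0), (nat_lit 0, nat_lit 22, nat_lit 22), (nat_lit 0, nat_lit 0, nat_lit 34), (nat_lit 0, nat_lit 0, nat_lit 3), (nat_lit 0, nat_lit 0, nat_lit 14), (nat_lit 0, nat_lit 0, nat_lit 37), (nat_lit 0, nat_lit 0, nat_lit 38), (nat_lit 0, nat_lit 0, nat_lit 39), (nat_lit 0, nat_lit 0, nat_lit 29), (nat_lit 0, nat_lit 0, nat_lit 19), (nat_lit 0, nat_lit 9, nat_lit 0), (nat_lit 0, nat_lit 11, nat_lit 32), (nat_lit 0, nat_lit 0, nat_lit 22), (nat_lit 0, nat_lit 0, nat_lit 13), (nat_lit 0, nat_lit 0, nat_lit 24), (nat_lit 0, nat_lit 0, nat_lit 36), (nat_lit 0, nat_lit 0, nat_lit 37), (nat_lit 0, nat_lit 0, nat_lit 38), (nat_lit 0, nat_lit 0, nat_lit 18), (nat_lit 0, nat_lit 0, nat_lit 51), (nat_lit 0, nat_lit 0, nat_lit 52), (nat_lit 0, nat_lit 0, nat_lit 53), (nat_lit 0, nat_lit 21, nat_lit 0)]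
def m12_R1_s0 : Nat := nat_lit 0x9ba2ab8aa33d8c42d1097b56c84801
def m12_R1_s1 : Nat := nat_lit 0x99a0b906e279db553ac9a150460e20
def m12_R1_s2 : Nat := nat_lit 0x81887bb2712bd554d16e6d91218820
def m12_R1_s3 : Nat := nat_lit 0x8da6fac2f2a390c59ccd524a410c20
def m12_R1_s4 : Nat := nat_lit 0x19e46ac66c4a1572d96e6d1e480820
def m12_R1_s5 : Nat := nat_lit 0x9a46e85d92550b53ada67a2c488820
noncomputable def m12_R1_lev0 : Core.Lev := Core.mkLev m12_n m12_w m12_mask m12_L m12_maskL m12_idc (nat_lit 0) [m12_R1_s4, m12_R1_s5, m12_R1_s3, m12_R1_s2, m12_R1_s1, m12_R1_s0] [(nat_lit 1, m12_R1_s0, nat_lit 0), (nat_lit 17, m12_R1_s1, nat_lit 1), (nat_lit 19, m12_R1_s4, nat_lit 17), (nat_lit 12, m12_R1_s5, nat_lit 17), (nat_lit 23, m12_R1_s3, nat_lit 17), (nat_lit 21, m12_R1_s0, nat_lit 17), (nat_lit 16, m12_R1_s5, nat_lit 19), (nat_lit 18, m12_R1_s1, nat_lit 19), (nat_lit 4, m12_R1_s0,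 nat_lit 12), (nat_lit 3, m12_R1_s4, nat_lit 23), (nat_lit 2, m12_R1_s1, nat_lit 16)]
noncomputable def m12_R1_lev1 : Core.Lev := Core.mkLev m12_n m12_w m12_mask m12_L m12_maskL m12_idc (nat_lit 1) [m12_R1_s4, m12_R1_s5, m12_R1_s3, m12_R1_s2, m12_R1_s1] [(nat_lit 17, m12_R1_s1, nat_lit 1), (nat_lit 19, m12_R1_s4, nat_lit 17), (nat_lit 12, m12_R1_s5, nat_lit 17), (nat_lit 23, m12_R1_s3, nat_lit 17), (nat_lit 21, m12_R1_s4, nat_lit 19), (nat_lit 16, m12_R1_s5, nat_lit 19), (nat_lit 18, m12_R1_s1, nat_lit 19), (nat_lit 3, m12_R1_s4, nat_lit 23), (nat_lit 4, m12_R1_s2, nat_lit 21), (nat_lit 2, m12_R1_s1, nat_lit 16)]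
noncomputable def m12_R1_lev2 : Core.Lev := Core.mkLev m12_n m12_w m12_mask m12_L m12_maskL m12_idc (nat_lit 4) [m12_R1_s4, m12_R1_s5, m12_R1_s3, m12_R1_s2] [(nat_lit 18, m12_R1_s2, nat_lit 4), (nat_lit 17, m12_R1_s4, nat_lit 18), (nat_lit 23, m12_R1_s5, nat_lit 18), (nat_lit 16, m12_R1_s3, nat_lit 18), (nat_lit 12, m12_R1_s2, nat_lit 18), (nat_lit 19, m12_R1_s4, nat_lit 17), (nat_lit 3, m12_R1_s4, nat_lit 23), (nat_lit 21, m12_R1_s5, nat_lit 12), (nat_lit 2, m12_R1_s3, nat_lit 3)]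
noncomputable def m12_R1_lev3 : Core.Lev := Core.mkLev m12_n m12_w m12_mask m12_L m12_maskL m12_idc (nat_lit 2) [m12_R1_s4, m12_R1_s5, m12_R1_s3] [(nat_lit 3, m12_R1_s3, nat_lit 2), (nat_lit 16, m12_R1_s4, nat_lit 3), (nat_lit 17, m12_R1_s5, nat_lit 3), (nat_lit 12, m12_R1_s4, nat_lit 16), (nat_lit 18, m12_R1_s5, nat_lit 16), (nat_lit 19, m12_R1_s4, nat_lit 17), (nat_lit 23, m12_R1_s3, nat_lit 17), (nat_lit 21, m12_R1_s5, nat_lit 12)]
noncomputable def m12_R1_lev4 : Core.Lev := Core.mkLev m12_n m12_w m12_mask m12_L m12_maskL m12_idc (nat_lit 3) [m12_R1_s4, m12_R1_s5] [(nat_lit 16, m12_R1_s4, nat_lit 3), (nat_lit 17, m12_R1_s5, nat_lit 3), (nat_lit 12, m12_R1_s4, nat_lit 16), (nat_lit 18, m12_R1_s5, nat_lit 16), (nat_lit 19, m12_R1_s4, nat_lit 17), (nat_lit 23, m12_R1_s4, nat_lit 12), (nat_lit 21, m12_R1_s5, nat_lit 12)]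
noncomputable def m12_R1_levels : List Core.Lev := [m12_R1_lev0, m12_R1_lev1, m12_R1_lev2, m12_R1_lev3, m12_R1_lev4]

noncomputable def m12_R1_cert : Simple.RepCert := ⟨nat_lit 0xa9eee00c2c5513043dabb14c291233, [(nat_lit 0, nat_lit 1, nat_lit 1), (nat_lit 0, nat_lit 0, nat_lit 2), (nat_lit 0, nat_lit 0, nat_lit 2), (nat_lit 0, nat_lit 0, nat_lit 3), (nat_lit 0, nat_lit 0, nat_lit 4), (nat_lit 0, nat_lit 0, nat_lit 6), (nat_lit 0, nat_lit 0, nat_lit 7), (nat_lit 0, nat_lit 0, nat_lit 7), (nat_lit 0, nat_lit 0, nat_lit 9), (nat_lit 0, nat_lit 0, nat_lit 9), (nat_lit 0, nat_lit 0, nat_lit 11), (nat_lit 0, nat_lit 0, nat_lit 12), (nat_lit 0, nat_lit 13, nat_lit 12), (nat_lit 0, nat_lit 0, nat_lit 13), (nat_lit 0, nat_lit 0, nat_lit 14), (nat_lit 0, nat_lit 0, nat_lit 16), (nat_lit 0, nat_lit 0, nat_lit 17), (nat_lit 0, nat_lit 0, nat_lit 17), (nat_lit 0, nat_lit 0, nat_lit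 19), (nat_lit 0, nat_lit 17, nat_lit 20), (nat_lit 0, nat_lit 0, nat_lit 20), (nat_lit 0, nat_lit 0, nat_lit 21), (nat_lit 0, nat_lit 0, nat_lit 22), (nat_lit 0, nat_lit 0, nat_lit 24), (nat_lit 0, nat_lit 0, nat_lit 24), (nat_lit 0, nat_lit 0, nat_lit 25), (nat_lit 0, nat_lit 0, nat_lit 27)], [(nat_lit 0x9ba2ab8aa33d8c42d1097b56c84801, nat_lit 0x92445806a47adcca1eca434d305e23), (nat_lit 0x8bc4908ee0b28c443a8b2b4ec95670, nat_lit 0x62c960de0353cb2a38e9434c28d413), (nat_lit 0xaaeee2464c550b0b3cc7425b308062, nat_lit 0xb46bac0804d9e2719542a0f164a77)], m12_R1_prog, m12_R1_levels⟩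

def m12_R2_T : List Nat := [nat_lit 0xbd86a0ca005b8ac4268f3b4d315491, nat_lit 0x93aa798e0252da0b25e8350acbc424]
def m12_R2_prog : List (Nat × Nat × Nat) := [(nat_lit 1, nat_lit 1, nat_lit 0), (nat_lit 1, nat_lit 1, nat_lit 0), (nat_lit 0, nat_lit 3, nat_lit 2), (nat_lit 0, nat_lit 0, nat_lit 4), (nat_lit 0, nat_lit 0, nat_lit 4), (nat_lit 0, nat_lit 3, nat_lit 4), (nat_lit 0, nat_lit 0, nat_lit 5), (nat_lit 0, nat_lit 0, nat_lit 2), (nat_lit 0, nat_lit 8, nat_lit 9), (nat_lit 0, nat_lit 0, nat_lit 10), (nat_lit 0, nat_lit 0, nat_lit 11), (nat_lit 0, nat_lit 0, nat_lit 12), (nat_lit 0, nat_lit 0, nat_lit 12), (nat_lit 0, nat_lit 0, nat_lit 14), (nat_lit 0, nat_lit 0, nat_lit 15), (nat_lit 0, nat_lit 0, nat_lit 16), (nat_lit 0, nat_lit 0, nat_lit 17), (nat_lit 0, nat_lit 15, nat_lit 0), (nat_lit 1, nat_lit 10, nat_lit 0), (nat_lit 1, nat_lit 1, nat_lit 0), (nat_lit 0,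 nat_lit 2, nat_lit 2), (nat_lit 0, nat_lit 0, nat_lit 3), (nat_lit 0, nat_lit 0, nat_lit 4), (nat_lit 0, nat_lit 0, nat_lit 5), (nat_lit 0, nat_lit 0, nat_lit 16), (nat_lit 0, nat_lit 0, nat_lit 7), (nat_lit 0, nat_lit 0, nat_lit 18), (nat_lit 0, nat_lit 0, nat_lit 19), (nat_lit 0, nat_lit 0, nat_lit 20), (nat_lit 0, nat_lit 21, nat_lit 11), (nat_lit 0, nat_lit 0, nat_lit 22), (nat_lit 0, nat_lit 0, nat_lit 23), (nat_lit 0, nat_lit 0, nat_lit 24), (nat_lit 0, nat_lit 0, nat_lit 15), (nat_lit 0, nat_lit 0, nat_lit 26), (nat_lit 0, nat_lit 0, nat_lit 27), (nat_lit 0, nat_lit 17, nat_lit 17), (nat_lit 0, nat_lit 0, nat_lit 17), (nat_lit 0, nat_lit 0, nat_lit 2), (nat_lit 1, nat_lit 10, nat_lit 0), (nat_lit 1, nat_lit 1, nat_lit 0), (nat_lit 0, nat_lit 2, nat_lit 12), (nat_lit 0, nat_lit 0, nat_lit 3), (nat_lit 0, nat_lit 0, nat_lit 14), (nat_lit 0, nat_lit 3, nat_lit 4),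 (nat_lit 0, nat_lit 0, nat_lit 1), (nat_lit 0, nat_lit 4, nat_lit 17), (nat_lit 0, nat_lit 0, nat_lit 8), (nat_lit 0, nat_lit 0, nat_lit 9), (nat_lit 0, nat_lit 0, nat_lit 10), (nat_lit 0, nat_lit 11, nat_lit 11), (nat_lit 0, nat_lit 0, nat_lit 22), (nat_lit 0, nat_lit 0, nat_lit 23), (nat_lit 0, nat_lit 0, nat_lit 14), (nat_lit 1, nat_lit 4, nat_lit 0), (nat_lit 1, nat_lit 1, nat_lit 0), (nat_lit 0, nat_lit 10, nat_lit 2), (nat_lit 0, nat_lit 0, nat_lit 3), (nat_lit 0, nat_lit 0, nat_lit 8), (nat_lit 0, nat_lit 3, nat_lit 4), (nat_lit 0, nat_lit 0, nat_lit 1), (nat_lit 0, nat_lit 11, nat_lit 15), (nat_lit 0, nat_lit 0, nat_lit 8), (nat_lit 0, nat_lit 0, nat_lit 17), (nat_lit 0, nat_lit 0, nat_lit 18), (nat_lit 0, nat_lit 0, nat_lit 11), (nat_lit 0, nat_lit 0, nat_lit 20), (nat_lit 0, nat_lit 7, nat_lit 0)]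
def m12_R2_s0 : Nat := nat_lit 0xbd86a0ca005b8ac4268f3b4d315491
def m12_R2_s1 : Nat := nat_lit 0xaa4659b030439a2b51663bd51bc880
def m12_R2_s2 : Nat := nat_lit 0x11a0e19195558f22b5697a2978cc20
def m12_R2_s3 : Nat := nat_lit 0x62e0facc926a911b14d4724f718820
def m12_R2_s4 : Nat := nat_lit 0x9a46e85d92550b53ada67a2c488820
def m12_R2_s5 : Nat := nat_lit 0x19e46ac66c4a1572d96e6d1e480820
noncomputable def m12_R2_lev0 : Core.Lev := Core.mkLev m12_n m12_w m12_mask m12_L m12_maskL m12_idc (nat_lit 0) [m12_R2_s4, m12_R2_s5, m12_R2_s3, m12_R2_s2, m12_R2_s1, m12_R2_s0] [(nat_lit 17, m12_R2_s0, nat_lit 0), (nat_lit 12, m12_R2_s4, nat_lit 17), (nat_lit 19, m12_R2_s5, nat_lit 17), (nat_lit 4, m12_R2_s3, nat_lit 17), (nat_lit 1, m12_R2_s1, nat_lit 17), (nat_lit 16, m12_R2_s0, nat_lit 17), (nat_lit 21, m12_R2_s4, nat_lit 12), (nat_lit 23, m12_R2_s5, nat_lit 12), (nat_lit 18, m12_R2_s2,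 nat_lit 12), (nat_lit 2, m12_R2_s1, nat_lit 12), (nat_lit 3, m12_R2_s2, nat_lit 19)]
noncomputable def m12_R2_lev1 : Core.Lev := Core.mkLev m12_n m12_w m12_mask m12_L m12_maskL m12_idc (nat_lit 1) [m12_R2_s4, m12_R2_s5, m12_R2_s3, m12_R2_s2, m12_R2_s1] [(nat_lit 4, m12_R2_s1, nat_lit 1), (nat_lit 23, m12_R2_s3, nat_lit 4), (nat_lit 17, m12_R2_s1, nat_lit 4), (nat_lit 19, m12_R2_s4, nat_lit 23), (nat_lit 3, m12_R2_s5, nat_lit 23), (nat_lit 12, m12_R2_s3, nat_lit 23), (nat_lit 2, m12_R2_s2, nat_lit 23), (nat_lit 21, m12_R2_s1, nat_lit 23), (nat_lit 16, m12_R2_s4, nat_lit 19), (nat_lit 18, m12_R2_s2, nat_lit 12)]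
noncomputable def m12_R2_lev2 : Core.Lev := Core.mkLev m12_n m12_w m12_mask m12_L m12_maskL m12_idc (nat_lit 2) [m12_R2_s4, m12_R2_s5, m12_R2_s3, m12_R2_s2] [(nat_lit 19, m12_R2_s2, nat_lit 2), (nat_lit 16, m12_R2_s4, nat_lit 19), (nat_lit 21, m12_R2_s5, nat_lit 19), (nat_lit 3, m12_R2_s2, nat_lit 19), (nat_lit 18, m12_R2_s4, nat_lit 16), (nat_lit 12, m12_R2_s5, nat_lit 16), (nat_lit 17, m12_R2_s4, nat_lit 3), (nat_lit 23, m12_R2_s4, nat_lit 18), (nat_lit 4, m12_R2_s2, nat_lit 18)]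
noncomputable def m12_R2_lev3 : Core.Lev := Core.mkLev m12_n m12_w m12_mask m12_L m12_maskL m12_idc (nat_lit 4) [m12_R2_s4, m12_R2_s5, m12_R2_s3] [(nat_lit 23, m12_R2_s3, nat_lit 4), (nat_lit 19, m12_R2_s4, nat_lit 23), (nat_lit 3, m12_R2_s5, nat_lit 23), (nat_lit 12, m12_R2_s3, nat_lit 23), (nat_lit 16, m12_R2_s4, nat_lit 19), (nat_lit 21, m12_R2_s5, nat_lit 19), (nat_lit 17, m12_R2_s4, nat_lit 3), (nat_lit 18, m12_R2_s4, nat_lit 16)]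
noncomputable def m12_R2_lev4 : Core.Lev := Core.mkLev m12_n m12_w m12_mask m12_L m12_maskL m12_idc (nat_lit 3) [m12_R2_s4, m12_R2_s5] [(nat_lit 17, m12_R2_s4, nat_lit 3), (nat_lit 16, m12_R2_s5, nat_lit 3), (nat_lit 12, m12_R2_s4, nat_lit 17), (nat_lit 19, m12_R2_s5, nat_lit 17), (nat_lit 18, m12_R2_s4, nat_lit 16), (nat_lit 21, m12_R2_s4, nat_lit 12), (nat_lit 23, m12_R2_s5, nat_lit 12)]
noncomputable def m12_R2_levels : List Core.Lev := [m12_R2_lev0, m12_R2_lev1, m12_R2_lev2, m12_R2_lev3, m12_R2_lev4]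

noncomputable def m12_R2_cert : Simple.RepCert := ⟨nat_lit 0xb984e612503a2c05a9f44b4b1a8c33, [(nat_lit 0, nat_lit 1, nat_lit 1), (nat_lit 0, nat_lit 0, nat_lit 2), (nat_lit 0, nat_lit 0, nat_lit 2), (nat_lit 0, nat_lit 0, nat_lit 3), (nat_lit 0, nat_lit 1, nat_lit 5), (nat_lit 0, nat_lit 0, nat_lit 6), (nat_lit 0, nat_lit 0, nat_lit 7), (nat_lit 0, nat_lit 0, nat_lit 8), (nat_lit 0, nat_lit 0, nat_lit 9), (nat_lit 0, nat_lit 0, nat_lit 10), (nat_lit 0, nat_lit 0, nat_lit 11), (nat_lit 0, nat_lit 0, nat_lit 11), (nat_lit 0, nat_lit 0, nat_lit 12), (nat_lit 0, nat_lit 0, nat_lit 14), (nat_lit 0, nat_lit 10, nat_lit 15), (nat_lit 0, nat_lit 0, nat_lit 16), (nat_lit 0, nat_lit 0, nat_lit 16), (nat_lit 0, nat_lit 0, nat_lit 17), (nat_lit 0, nat_lit 0, nat_lit 18), (nat_lit 0, nat_lit 0, nat_lit 20), (nat_lit 0, nat_lit 0, nat_lit 20), (nat_lit 0, nat_lit 0, nat_lit 21)],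 [(nat_lit 0xbd86a0ca005b8ac4268f3b4d315491, nat_lit 0xb96b48866c7a9b03b90959ac410e40), (nat_lit 0x93aa798e0252da0b25e8350acbc424, nat_lit 0xaaaeb04221359e42a0eea25a21ca6c)], m12_R2_prog, m12_R2_levels⟩

def m12_R3_T : List Nat := [nat_lit 0x22e4988c016d0d73a1c5b3d4cac053, nat_lit 0x19e260c044415f7752cd4a97265413]
def m12_R3_prog : List (Nat × Nat × Nat) := [(nat_lit 1, nat_lit 1, nat_lit 0), (nat_lit 1, nat_lit 1, nat_lit 0), (nat_lit 0, nat_lit 3, nat_lit 2), (nat_lit 0, nat_lit 0, nat_lit 3), (nat_lit 0, nat_lit 0, nat_lit 5), (nat_lit 0, nat_lit 0, nat_lit 5), (nat_lit 0, nat_lit 0, nat_lit 6), (nat_lit 0, nat_lit 0, nat_lit 7), (nat_lit 0, nat_lit 0, nat_lit 8), (nat_lit 0, nat_lit 0, nat_lit 9), (nat_lit 0, nat_lit 11, nat_lit 11), (nat_lit 0, nat_lit 0, nat_lit 12), (nat_lit 0, nat_lit 0, nat_lit 12), (nat_lit 0, nat_lit 0, nat_lit 14), (nat_lit 0, nat_lit 0, nat_lit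 14), (nat_lit 0, nat_lit 0, nat_lit 16), (nat_lit 0, nat_lit 15, nat_lit 15), (nat_lit 0, nat_lit 0, nat_lit 15), (nat_lit 0, nat_lit 0, nat_lit 16), (nat_lit 0, nat_lit 0, nat_lit 3), (nat_lit 1, nat_lit 10, nat_lit 0), (nat_lit 1, nat_lit 1, nat_lit 0), (nat_lit 0, nat_lit 12, nat_lit 2), (nat_lit 0, nat_lit 0, nat_lit 13), (nat_lit 0, nat_lit 0, nat_lit 14), (nat_lit 0, nat_lit 0, nat_lit 5), (nat_lit 0, nat_lit 0, nat_lit 16), (nat_lit 0, nat_lit 0, nat_lit 7), (nat_lit 0, nat_lit 4, nat_lit 8), (nat_lit 0, nat_lit 0, nat_lit 19), (nat_lit 0, nat_lit 9, nat_lit 9), (nat_lit 0, nat_lit 0, nat_lit 9), (nat_lit 0, nat_lit 0, nat_lit 2), (nat_lit 0, nat_lit 13, nat_lit 13), (nat_lit 0, nat_lit 0, nat_lit 14), (nat_lit 0, nat_lit 0, nat_lit 15), (nat_lit 0, nat_lit 0, nat_lit 26), (nat_lit 0, nat_lit 15, nat_lit 0), (nat_lit 1, nat_lit 10, nat_lit 0), (nat_lit 1, nat_lit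 6, nat_lit 0), (nat_lit 0, nat_lit 12, nat_lit 12), (nat_lit 0, nat_lit 0, nat_lit 13), (nat_lit 0, nat_lit 0, nat_lit 9), (nat_lit 0, nat_lit 0, nat_lit 10), (nat_lit 0, nat_lit 0, nat_lit 6), (nat_lit 0, nat_lit 5, nat_lit 5), (nat_lit 0, nat_lit 0, nat_lit 1), (nat_lit 0, nat_lit 9, nat_lit 14), (nat_lit 0, nat_lit 0, nat_lit 10), (nat_lit 0, nat_lit 0, nat_lit 16), (nat_lit 0, nat_lit 0, nat_lit 12), (nat_lit 0, nat_lit 0, nat_lit 23), (nat_lit 0, nat_lit 0, nat_lit 19), (nat_lit 0, nat_lit 0, nat_lit 15), (nat_lit 0, nat_lit 0, nat_lit 21), (nat_lit 0, nat_lit 16, nat_lit 15), (nat_lit 0, nat_lit 0, nat_lit 1), (nat_lit 0, nat_lit 16, nat_lit 24), (nat_lit 0, nat_lit 0, nat_lit 25), (nat_lit 0, nat_lit 0, nat_lit 26), (nat_lit 0, nat_lit 0, nat_lit 27), (nat_lit 0, nat_lit 0, nat_lit 23), (nat_lit 0, nat_lit 0, nat_lit 24), (nat_lit 0, nat_lit 0, nat_lit 35), (nat_lit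 0, nat_lit 24, nat_lit 25), (nat_lit 0, nat_lit 0, nat_lit 1), (nat_lit 1, nat_lit 19, nat_lit 0), (nat_lit 1, nat_lit 10, nat_lit 0), (nat_lit 1, nat_lit 2, nat_lit 0), (nat_lit 0, nat_lit 22, nat_lit 12), (nat_lit 0, nat_lit 0, nat_lit 4), (nat_lit 0, nat_lit 0, nat_lit 14), (nat_lit 0, nat_lit 0, nat_lit 6), (nat_lit 0, nat_lit 0, nat_lit 16), (nat_lit 0, nat_lit 0, nat_lit 17), (nat_lit 0, nat_lit 0, nat_lit 9), (nat_lit 0, nat_lit 0, nat_lit 10), (nat_lit 0, nat_lit 0, nat_lit 30), (nat_lit 0, nat_lit 0, nat_lit 21), (nat_lit 0, nat_lit 0, nat_lit 13), (nat_lit 0, nat_lit 13, nat_lit 12), (nat_lit 0, nat_lit 0, nat_lit 1), (nat_lit 0, nat_lit 25, nat_lit 25), (nat_lit 0, nat_lit 0, nat_lit 26), (nat_lit 0, nat_lit 0, nat_lit 18), (nat_lit 0, nat_lit 16, nat_lit 0)]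
def m12_R3_s0 : Nat := nat_lit 0x22e4988c016d0d73a1c5b3d4cac053
def m12_R3_s1 : Nat := nat_lit 0xb9c6d9d5844ae90799c55591108a40
def m12_R3_s2 : Nat := nat_lit 0x13aa6912774bcac52ec76d11180c20
def m12_R3_s3 : Nat := nat_lit 0x63a45b92353512353da742ed098820
def m12_R3_s4 : Nat := nat_lit 0x81887bb2712bd554d16e6d91218820
def m12_R3_s5 : Nat := nat_lit 0x62e0facc926a911b14d4724f718820
noncomputable def m12_R3_lev0 : Core.Lev := Core.mkLev m12_n m12_w m12_mask m12_L m12_maskL m12_idc (nat_lit 0) [m12_R3_s4, m12_R3_s5, m12_R3_s3, m12_R3_s2, m12_R3_s1, m12_R3_s0] [(nat_lit 19, m12_R3_s0, nat_lit 0), (nat_lit 23, m12_R3_s4, nat_lit 19), (nat_lit 21, m12_R3_s5, nat_lit 19), (nat_lit 18, m12_R3_s2, nat_lit 19), (nat_lit 17, m12_R3_s0, nat_lit 19), (nat_lit 16, m12_R3_s4, nat_lit 23), (nat_lit 12, m12_R3_s5, nat_lit 23), (nat_lit 2, m12_R3_s2, nat_lit 23), (nat_lit 4, m12_R3_s0,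 nat_lit 23), (nat_lit 3, m12_R3_s1, nat_lit 21), (nat_lit 1, m12_R3_s0, nat_lit 16)]
noncomputable def m12_R3_lev1 : Core.Lev := Core.mkLev m12_n m12_w m12_mask m12_L m12_maskL m12_idc (nat_lit 1) [m12_R3_s4, m12_R3_s5, m12_R3_s3, m12_R3_s2, m12_R3_s1] [(nat_lit 18, m12_R3_s1, nat_lit 1), (nat_lit 12, m12_R3_s4, nat_lit 18), (nat_lit 19, m12_R3_s5, nat_lit 18), (nat_lit 4, m12_R3_s3, nat_lit 18), (nat_lit 21, m12_R3_s1, nat_lit 18), (nat_lit 17, m12_R3_s5, nat_lit 12), (nat_lit 3, m12_R3_s3, nat_lit 12), (nat_lit 16, m12_R3_s1, nat_lit 12), (nat_lit 23, m12_R3_s4, nat_lit 19), (nat_lit 2, m12_R3_s2, nat_lit 23)]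
noncomputable def m12_R3_lev2 : Core.Lev := Core.mkLev m12_n m12_w m12_mask m12_L m12_maskL m12_idc (nat_lit 2) [m12_R3_s4, m12_R3_s5, m12_R3_s3, m12_R3_s2] [(nat_lit 3, m12_R3_s2, nat_lit 2), (nat_lit 19, m12_R3_s3, nat_lit 3), (nat_lit 16, m12_R3_s2, nat_lit 3), (nat_lit 23, m12_R3_s4, nat_lit 19), (nat_lit 21, m12_R3_s5, nat_lit 19), (nat_lit 18, m12_R3_s2, nat_lit 19), (nat_lit 17, m12_R3_s4, nat_lit 16), (nat_lit 12, m12_R3_s5, nat_lit 23), (nat_lit 4, m12_R3_s4, nat_lit 21)]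
noncomputable def m12_R3_lev3 : Core.Lev := Core.mkLev m12_n m12_w m12_mask m12_L m12_maskL m12_idc (nat_lit 3) [m12_R3_s4, m12_R3_s5, m12_R3_s3] [(nat_lit 19, m12_R3_s3, nat_lit 3), (nat_lit 23, m12_R3_s4, nat_lit 19), (nat_lit 21, m12_R3_s5, nat_lit 19), (nat_lit 16, m12_R3_s4, nat_lit 23), (nat_lit 12, m12_R3_s5, nat_lit 23), (nat_lit 4, m12_R3_s4, nat_lit 21), (nat_lit 18, m12_R3_s3, nat_lit 21), (nat_lit 17, m12_R3_s4, nat_lit 16)]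
noncomputable def m12_R3_lev4 : Core.Lev := Core.mkLev m12_n m12_w m12_mask m12_L m12_maskL m12_idc (nat_lit 4) [m12_R3_s4, m12_R3_s5] [(nat_lit 18, m12_R3_s4, nat_lit 4), (nat_lit 23, m12_R3_s5, nat_lit 4), (nat_lit 12, m12_R3_s4, nat_lit 18), (nat_lit 19, m12_R3_s5, nat_lit 18), (nat_lit 16, m12_R3_s4, nat_lit 23), (nat_lit 21, m12_R3_s4, nat_lit 12), (nat_lit 17, m12_R3_s5, nat_lit 12)]
noncomputable def m12_R3_levels : List Core.Lev := [m12_R3_lev0, m12_R3_lev1, m12_R3_lev2, m12_R3_lev3, m12_R3_lev4]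

noncomputable def m12_R3_cert : Simple.RepCert := ⟨nat_lit 0xb66900c9729cd17514f5d90c14a15, [(nat_lit 0, nat_lit 0, nat_lit 0), (nat_lit 0, nat_lit 0, nat_lit 1), (nat_lit 0, nat_lit 0, nat_lit 3), (nat_lit 0, nat_lit 0, nat_lit 3), (nat_lit 0, nat_lit 0, nat_lit 5), (nat_lit 0, nat_lit 0, nat_lit 5), (nat_lit 0, nat_lit 0, nat_lit 6), (nat_lit 0, nat_lit 0, nat_lit 8), (nat_lit 0, nat_lit 0, nat_lit 9), (nat_lit 0, nat_lit 0, nat_lit 9), (nat_lit 0, nat_lit 0, nat_lit 11), (nat_lit 0, nat_lit 8, nat_lit 12), (nat_lit 0, nat_lit 0, nat_lit 13), (nat_lit 0, nat_lit 0, nat_lit 14), (nat_lit 0, nat_lit 0, nat_lit 14)], [(nat_lit 0x22e4988c016d0d73a1c5b3d4cac053, nat_lit 0x658069d424729702b5e941e8290ef1), (nat_lit 0x19e260c044415f7752cd4a97265413, nat_lit 0x1a80f9c2b73ae822b5167193124981)], m12_R3_prog, m12_R3_levels⟩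

def m12_R4_T : List Nat := [nat_lit 0x2e161ce323a9047952ea19a1a8aec, nat_lit 0xaaa471cc50752c0699e84acb1bb024]
def m12_R4_prog : List (Nat × Nat × Nat) := [(nat_lit 1, nat_lit 1, nat_lit 0), (nat_lit 1, nat_lit 1, nat_lit 0), (nat_lit 0, nat_lit 2, nat_lit 3), (nat_lit 0, nat_lit 0, nat_lit 4), (nat_lit 0, nat_lit 0, nat_lit 5), (nat_lit 0, nat_lit 0, nat_lit 5), (nat_lit 0, nat_lit 0, nat_lit 6), (nat_lit 0, nat_lit 0, nat_lit 7), (nat_lit 0, nat_lit 0, nat_lit 9), (nat_lit 0, nat_lit 0, nat_lit 10), (nat_lit 0, nat_lit 8, nat_lit 9), (nat_lit 0, nat_lit 0, nat_lit 10), (nat_lit 0, nat_lit 0, nat_lit 10), (nat_lit 0, nat_lit 0, nat_lit 3), (nat_lit 0, nat_lit 14, nat_lit 14), (nat_lit 0, nat_lit 0, nat_lit 15), (nat_lit 0, nat_lit 0, nat_lit 17), (nat_lit 0, nat_lit 0, nat_lit 17), (nat_lit 0, nat_lit 0, nat_lit 18), (nat_lit 0, nat_lit 0, nat_lit 20), (nat_lit 0, nat_lit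 0, nat_lit 21), (nat_lit 0, nat_lit 19, nat_lit 0), (nat_lit 1, nat_lit 0, nat_lit 0), (nat_lit 0, nat_lit 1, nat_lit 9), (nat_lit 0, nat_lit 0, nat_lit 10), (nat_lit 0, nat_lit 0, nat_lit 11), (nat_lit 0, nat_lit 0, nat_lit 4), (nat_lit 0, nat_lit 0, nat_lit 5), (nat_lit 0, nat_lit 0, nat_lit 14), (nat_lit 0, nat_lit 0, nat_lit 7), (nat_lit 0, nat_lit 0, nat_lit 8), (nat_lit 0, nat_lit 0, nat_lit 17), (nat_lit 0, nat_lit 0, nat_lit 18), (nat_lit 0, nat_lit 10, nat_lit 0), (nat_lit 0, nat_lit 12, nat_lit 12), (nat_lit 0, nat_lit 0, nat_lit 21), (nat_lit 0, nat_lit 0, nat_lit 22), (nat_lit 0, nat_lit 0, nat_lit 15), (nat_lit 0, nat_lit 0, nat_lit 24), (nat_lit 0, nat_lit 0, nat_lit 17), (nat_lit 0, nat_lit 17, nat_lit 17), (nat_lit 0, nat_lit 0, nat_lit 18), (nat_lit 0, nat_lit 0, nat_lit 2), (nat_lit 1, nat_lit 9, nat_lit 0), (nat_lit 1, nat_lit 1, nat_lit 0), (nat_lit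 0, nat_lit 2, nat_lit 2), (nat_lit 0, nat_lit 0, nat_lit 3), (nat_lit 0, nat_lit 0, nat_lit 13), (nat_lit 0, nat_lit 0, nat_lit 5), (nat_lit 0, nat_lit 0, nat_lit 15), (nat_lit 0, nat_lit 0, nat_lit 16), (nat_lit 0, nat_lit 0, nat_lit 17), (nat_lit 0, nat_lit 0, nat_lit 18), (nat_lit 0, nat_lit 0, nat_lit 10), (nat_lit 0, nat_lit 0, nat_lit 20), (nat_lit 0, nat_lit 0, nat_lit 12), (nat_lit 0, nat_lit 12, nat_lit 11), (nat_lit 0, nat_lit 0, nat_lit 12), (nat_lit 0, nat_lit 0, nat_lit 14), (nat_lit 0, nat_lit 0, nat_lit 3), (nat_lit 0, nat_lit 1, nat_lit 12), (nat_lit 0, nat_lit 27, nat_lit 18), (nat_lit 0, nat_lit 0, nat_lit 28), (nat_lit 0, nat_lit 0, nat_lit 20), (nat_lit 0, nat_lit 0, nat_lit 30), (nat_lit 0, nat_lit 0, nat_lit 31), (nat_lit 0, nat_lit 0, nat_lit 23), (nat_lit 0, nat_lit 0, nat_lit 33), (nat_lit 0, nat_lit 0, nat_lit 25), (nat_lit 0, nat_lit 0, nat_lit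 26), (nat_lit 0, nat_lit 0, nat_lit 36), (nat_lit 0, nat_lit 0, nat_lit 37), (nat_lit 0, nat_lit 15, nat_lit 28), (nat_lit 0, nat_lit 0, nat_lit 1), (nat_lit 1, nat_lit 14, nat_lit 0), (nat_lit 1, nat_lit 14, nat_lit 0), (nat_lit 1, nat_lit 2, nat_lit 0), (nat_lit 0, nat_lit 3, nat_lit 16), (nat_lit 0, nat_lit 0, nat_lit 18), (nat_lit 0, nat_lit 0, nat_lit 18), (nat_lit 0, nat_lit 0, nat_lit 6), (nat_lit 0, nat_lit 0, nat_lit 21), (nat_lit 0, nat_lit 6, nat_lit 0), (nat_lit 0, nat_lit 5, nat_lit 9), (nat_lit 0, nat_lit 0, nat_lit 10), (nat_lit 0, nat_lit 0, nat_lit 25), (nat_lit 0, nat_lit 0, nat_lit 26), (nat_lit 0, nat_lit 0, nat_lit 26), (nat_lit 0, nat_lit 0, nat_lit 27), (nat_lit 0, nat_lit 0, nat_lit 15), (nat_lit 0, nat_lit 15, nat_lit 15), (nat_lit 0, nat_lit 0, nat_lit 14), (nat_lit 0, nat_lit 0, nat_lit 2)]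
def m12_R4_s0 : Nat := nat_lit 0x2e161ce323a9047952ea19a1a8aec
def m12_R4_s1 : Nat := nat_lit 0x23985bc850a2ce3b29a8499f3a8620
def m12_R4_s2 : Nat := nat_lit 0x63aa725e324d8d053d654368314c20
def m12_R4_s3 : Nat := nat_lit 0xab676bc612426847a8ab399c360820
def m12_R4_s4 : Nat := nat_lit 0x22e6894195a1df7b38cd2a55118820
def m12_R4_s5 : Nat := nat_lit 0x926ee646a43b4b033eca42e9318820
noncomputable def m12_R4_lev0 : Core.Lev := Core.mkLev m12_n m12_w m12_mask m12_L m12_maskL m12_idc (nat_lit 0) [m12_R4_s4, m12_R4_s5, m12_R4_s3, m12_R4_s2, m12_R4_s1, m12_R4_s0] [(nat_lit 12, m12_R4_s0, nat_lit 0), (nat_lit 23, m12_R4_s4, nat_lit 12), (nat_lit 16, m12_R4_s5, nat_lit 12), (nat_lit 4, m12_R4_s3, nat_lit 12), (nat_lit 3, m12_R4_s1, nat_lit 12), (nat_lit 18, m12_R4_s5, nat_lit 23), (nat_lit 21, m12_R4_s3, nat_lit 23), (nat_lit 17, m12_R4_s4, nat_lit 4), (nat_lit 19, m12_R4_s5, nat_lit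 4), (nat_lit 1, m12_R4_s0, nat_lit 4), (nat_lit 2, m12_R4_s2, nat_lit 3)]
noncomputable def m12_R4_lev1 : Core.Lev := Core.mkLev m12_n m12_w m12_mask m12_L m12_maskL m12_idc (nat_lit 1) [m12_R4_s4, m12_R4_s5, m12_R4_s3, m12_R4_s2, m12_R4_s1] [(nat_lit 17, m12_R4_s1, nat_lit 1), (nat_lit 12, m12_R4_s4, nat_lit 17), (nat_lit 21, m12_R4_s5, nat_lit 17), (nat_lit 16, m12_R4_s3, nat_lit 17), (nat_lit 2, m12_R4_s1, nat_lit 17), (nat_lit 23, m12_R4_s4, nat_lit 12), (nat_lit 4, m12_R4_s3, nat_lit 12), (nat_lit 3, m12_R4_s1, nat_lit 12), (nat_lit 19, m12_R4_s4, nat_lit 21), (nat_lit 18, m12_R4_s3, nat_lit 16)]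
noncomputable def m12_R4_lev2 : Core.Lev := Core.mkLev m12_n m12_w m12_mask m12_L m12_maskL m12_idc (nat_lit 2) [m12_R4_s4, m12_R4_s5, m12_R4_s3, m12_R4_s2] [(nat_lit 19, m12_R4_s2, nat_lit 2), (nat_lit 18, m12_R4_s4, nat_lit 19), (nat_lit 12, m12_R4_s5, nat_lit 19), (nat_lit 23, m12_R4_s3, nat_lit 19), (nat_lit 4, m12_R4_s2, nat_lit 19), (nat_lit 16, m12_R4_s4, nat_lit 18), (nat_lit 17, m12_R4_s5, nat_lit 18), (nat_lit 21, m12_R4_s3, nat_lit 23), (nat_lit 3, m12_R4_s3, nat_lit 4)]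
noncomputable def m12_R4_lev3 : Core.Lev := Core.mkLev m12_n m12_w m12_mask m12_L m12_maskL m12_idc (nat_lit 3) [m12_R4_s4, m12_R4_s5, m12_R4_s3] [(nat_lit 12, m12_R4_s3, nat_lit 3), (nat_lit 23, m12_R4_s4, nat_lit 12), (nat_lit 16, m12_R4_s5, nat_lit 12), (nat_lit 4, m12_R4_s3, nat_lit 12), (nat_lit 18, m12_R4_s5, nat_lit 23), (nat_lit 21, m12_R4_s3, nat_lit 23), (nat_lit 17, m12_R4_s4, nat_lit 4), (nat_lit 19, m12_R4_s5, nat_lit 4)]
noncomputable def m12_R4_lev4 : Core.Lev := Core.mkLev m12_n m12_w m12_mask m12_L m12_maskL m12_idc (nat_lit 4) [m12_R4_s4, m12_R4_s5] [(nat_lit 17, m12_R4_s4, nat_lit 4), (nat_lit 19, m12_R4_s5, nat_lit 4), (nat_lit 12, m12_R4_s4, nat_lit 17), (nat_lit 21, m12_R4_s5, nat_lit 17), (nat_lit 18, m12_R4_s4, nat_lit 19), (nat_lit 23, m12_R4_s4, nat_lit 12), (nat_lit 16, m12_R4_s5, nat_lit 12)]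
noncomputable def m12_R4_levels : List Core.Lev := [m12_R4_lev0, m12_R4_lev1, m12_R4_lev2, m12_R4_lev3, m12_R4_lev4]

noncomputable def m12_R4_cert : Simple.RepCert := ⟨nat_lit 0xbd22f04e02538b2b2da74991519181, [(nat_lit 0, nat_lit 0, nat_lit 1), (nat_lit 0, nat_lit 0, nat_lit 2), (nat_lit 0, nat_lit 0, nat_lit 2), (nat_lit 0, nat_lit 0, nat_lit 3), (nat_lit 0, nat_lit 0, nat_lit 4), (nat_lit 0, nat_lit 0, nat_lit 6), (nat_lit 0, nat_lit 0, nat_lit 6), (nat_lit 0, nat_lit 0, nat_lit 7), (nat_lit 0, nat_lit 8, nat_lit 8), (nat_lit 0, nat_lit 0, nat_lit 10), (nat_lit 0, nat_lit 0, nat_lit 10), (nat_lit 0, nat_lit 0, nat_lit 11), (nat_lit 0, nat_lit 0, nat_lit 13), (nat_lit 0, nat_lit 0, nat_lit 14), (nat_lit 0, nat_lit 0, nat_lit 15)], [(nat_lit 0x2e161ce323a9047952ea19a1a8aec, nat_lit 0x1364805e63725e12a974b18f08d48c), (nat_lit 0xaaa471cc50752c0699e84acb1bb024, nat_lit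 0xbe4e14663a16c449da65a15585c0c)], m12_R4_prog, m12_R4_levels⟩

def m12_R5_T : List Nat := [nat_lit 0xbd26b112034d95541daf299c104592, nat_lit 0x1a42b14ae453ad1298f47a1acac013]
def m12_R5_prog : List (Nat × Nat × Nat) := [(nat_lit 1, nat_lit 1, nat_lit 0), (nat_lit 1, nat_lit 1, nat_lit 0), (nat_lit 0, nat_lit 3, nat_lit 2), (nat_lit 0, nat_lit 0, nat_lit 3), (nat_lit 0, nat_lit 0, nat_lit 5), (nat_lit 0, nat_lit 4, nat_lit 4), (nat_lit 0, nat_lit 0, nat_lit 1), (nat_lit 0, nat_lit 7, nat_lit 8), (nat_lit 0, nat_lit 0, nat_lit 9), (nat_lit 0, nat_lit 0, nat_lit 10), (nat_lit 0, nat_lit 0, nat_lit 11), (nat_lit 0, nat_lit 0, nat_lit 12), (nat_lit 0, nat_lit 0, nat_lit 12), (nat_lit 0, nat_lit 0, nat_lit 14), (nat_lit 0, nat_lit 12, nat_lit 13), (nat_lit 0, nat_lit 0, nat_lit 1), (nat_lit 0, nat_lit 13, nat_lit 17), (nat_lit 0, nat_lit 0, nat_lit 17), (nat_lit 0, nat_lit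 0, nat_lit 18), (nat_lit 0, nat_lit 0, nat_lit 19), (nat_lit 0, nat_lit 0, nat_lit 20), (nat_lit 0, nat_lit 20, nat_lit 0), (nat_lit 1, nat_lit 15, nat_lit 0), (nat_lit 1, nat_lit 7, nat_lit 0), (nat_lit 0, nat_lit 8, nat_lit 17), (nat_lit 0, nat_lit 0, nat_lit 9), (nat_lit 0, nat_lit 0, nat_lit 10), (nat_lit 0, nat_lit 0, nat_lit 5), (nat_lit 0, nat_lit 0, nat_lit 12), (nat_lit 0, nat_lit 0, nat_lit 22), (nat_lit 0, nat_lit 0, nat_lit 14), (nat_lit 0, nat_lit 0, nat_lit 15), (nat_lit 0, nat_lit 0, nat_lit 25), (nat_lit 0, nat_lit 0, nat_lit 11), (nat_lit 0, nat_lit 10, nat_lit 11), (nat_lit 0, nat_lit 0, nat_lit 1), (nat_lit 0, nat_lit 11, nat_lit 14), (nat_lit 0, nat_lit 0, nat_lit 15), (nat_lit 0, nat_lit 0, nat_lit 31), (nat_lit 0, nat_lit 0, nat_lit 32), (nat_lit 0, nat_lit 0, nat_lit 18), (nat_lit 0, nat_lit 0, nat_lit 25), (nat_lit 0, nat_lit 19, nat_lit 0), (nat_lit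 1, nat_lit 7, nat_lit 0), (nat_lit 1, nat_lit 1, nat_lit 0), (nat_lit 0, nat_lit 9, nat_lit 2), (nat_lit 0, nat_lit 0, nat_lit 10), (nat_lit 0, nat_lit 0, nat_lit 11), (nat_lit 0, nat_lit 0, nat_lit 5), (nat_lit 0, nat_lit 13, nat_lit 13), (nat_lit 0, nat_lit 0, nat_lit 14), (nat_lit 0, nat_lit 0, nat_lit 15), (nat_lit 0, nat_lit 0, nat_lit 16), (nat_lit 0, nat_lit 0, nat_lit 10), (nat_lit 0, nat_lit 0, nat_lit 18), (nat_lit 0, nat_lit 0, nat_lit 19), (nat_lit 0, nat_lit 0, nat_lit 20), (nat_lit 0, nat_lit 0, nat_lit 14), (nat_lit 0, nat_lit 0, nat_lit 22), (nat_lit 0, nat_lit 0, nat_lit 23), (nat_lit 0, nat_lit 16, nat_lit 15), (nat_lit 0, nat_lit 0, nat_lit 17), (nat_lit 0, nat_lit 0, nat_lit 2), (nat_lit 0, nat_lit 19, nat_lit 19), (nat_lit 0, nat_lit 0, nat_lit 20), (nat_lit 0, nat_lit 22, nat_lit 29), (nat_lit 0, nat_lit 0, nat_lit 30), (nat_lit 0, nat_lit 0, nat_lit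 24), (nat_lit 0, nat_lit 0, nat_lit 25), (nat_lit 0, nat_lit 0, nat_lit 26), (nat_lit 0, nat_lit 0, nat_lit 27), (nat_lit 0, nat_lit 0, nat_lit 35), (nat_lit 0, nat_lit 0, nat_lit 36), (nat_lit 0, nat_lit 0, nat_lit 37), (nat_lit 0, nat_lit 0, nat_lit 38), (nat_lit 0, nat_lit 11, nat_lit 0), (nat_lit 0, nat_lit 28, nat_lit 40), (nat_lit 0, nat_lit 0, nat_lit 41), (nat_lit 0, nat_lit 0, nat_lit 42), (nat_lit 0, nat_lit 0, nat_lit 43), (nat_lit 0, nat_lit 15, nat_lit 0), (nat_lit 0, nat_lit 35, nat_lit 38), (nat_lit 0, nat_lit 0, nat_lit 39), (nat_lit 0, nat_lit 0, nat_lit 47), (nat_lit 0, nat_lit 0, nat_lit 41), (nat_lit 0, nat_lit 0, nat_lit 49), (nat_lit 0, nat_lit 0, nat_lit 50), (nat_lit 0, nat_lit 0, nat_lit 44), (nat_lit 0, nat_lit 27, nat_lit 0), (nat_lit 1, nat_lit 40, nat_lit 0), (nat_lit 0, nat_lit 1, nat_lit 1), (nat_lit 0, nat_lit 0, nat_lit 15), (nat_lit 0,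 nat_lit 0, nat_lit 3), (nat_lit 0, nat_lit 0, nat_lit 12), (nat_lit 0, nat_lit 0, nat_lit 45), (nat_lit 0, nat_lit 0, nat_lit 6), (nat_lit 0, nat_lit 0, nat_lit 47), (nat_lit 0, nat_lit 0, nat_lit 21), (nat_lit 0, nat_lit 0, nat_lit 17), (nat_lit 0, nat_lit 9, nat_lit 9), (nat_lit 0, nat_lit 0, nat_lit 10), (nat_lit 0, nat_lit 0, nat_lit 2), (nat_lit 0, nat_lit 13, nat_lit 26), (nat_lit 0, nat_lit 0, nat_lit 40), (nat_lit 0, nat_lit 0, nat_lit 23), (nat_lit 0, nat_lit 0, nat_lit 42), (nat_lit 0, nat_lit 0, nat_lit 30), (nat_lit 0, nat_lit 0, nat_lit 44), (nat_lit 0, nat_lit 0, nat_lit 59), (nat_lit 0, nat_lit 0, nat_lit 20), (nat_lit 0, nat_lit 0, nat_lit 21), (nat_lit 0, nat_lit 0, nat_lit 48), (nat_lit 0, nat_lit 12, nat_lit 0)]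
def m12_R5_s0 : Nat := nat_lit 0xbd26b112034d95541daf299c104592
def m12_R5_s1 : Nat := nat_lit 0x61e299082442963a35e6758b59c2e0
def m12_R5_s2 : Nat := nat_lit 0xb9845848713ad35521ee6da8c99020
def m12_R5_s3 : Nat := nat_lit 0x2262ea8e13358ac522875bdb2b8820
def m12_R5_s4 : Nat := nat_lit 0xaa62525e4c551d3322c77adb018820
def m12_R5_s5 : Nat := nat_lit 0x81887bb2712bd554d16e6d91218820
noncomputable def m12_R5_lev0 : Core.Lev := Core.mkLev m12_n m12_w m12_mask m12_L m12_maskL m12_idc (nat_lit 0) [m12_R5_s4, m12_R5_s5, m12_R5_s3, m12_R5_s2, m12_R5_s1, m12_R5_s0] [(nat_lit 18, m12_R5_s0, nat_lit 0), (nat_lit 23, m12_R5_s4, nat_lit 18), (nat_lit 12, m12_R5_s5, nat_lit 18), (nat_lit 3, m12_R5_s3, nat_lit 18), (nat_lit 2, m12_R5_s1, nat_lit 18), (nat_lit 4, m12_R5_s0, nat_lit 18), (nat_lit 21, m12_R5_s4, nat_lit 23), (nat_lit 16, m12_R5_s5, nat_lit 23), (nat_lit 19, m12_R5_s4,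 nat_lit 12), (nat_lit 17, m12_R5_s0, nat_lit 2), (nat_lit 1, m12_R5_s0, nat_lit 4)]
noncomputable def m12_R5_lev1 : Core.Lev := Core.mkLev m12_n m12_w m12_mask m12_L m12_maskL m12_idc (nat_lit 1) [m12_R5_s4, m12_R5_s5, m12_R5_s3, m12_R5_s2, m12_R5_s1] [(nat_lit 23, m12_R5_s1, nat_lit 1), (nat_lit 21, m12_R5_s4, nat_lit 23), (nat_lit 16, m12_R5_s5, nat_lit 23), (nat_lit 4, m12_R5_s3, nat_lit 23), (nat_lit 12, m12_R5_s1, nat_lit 23), (nat_lit 17, m12_R5_s4, nat_lit 21), (nat_lit 2, m12_R5_s2, nat_lit 21), (nat_lit 19, m12_R5_s3, nat_lit 16), (nat_lit 18, m12_R5_s5, nat_lit 4), (nat_lit 3, m12_R5_s1, nat_lit 12)]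
noncomputable def m12_R5_lev2 : Core.Lev := Core.mkLev m12_n m12_w m12_mask m12_L m12_maskL m12_idc (nat_lit 2) [m12_R5_s4, m12_R5_s5, m12_R5_s3, m12_R5_s2] [(nat_lit 4, m12_R5_s2, nat_lit 2), (nat_lit 16, m12_R5_s4, nat_lit 4), (nat_lit 18, m12_R5_s5, nat_lit 4), (nat_lit 12, m12_R5_s2, nat_lit 4), (nat_lit 17, m12_R5_s5, nat_lit 16), (nat_lit 19, m12_R5_s3, nat_lit 16), (nat_lit 23, m12_R5_s4, nat_lit 18), (nat_lit 3, m12_R5_s3, nat_lit 18), (nat_lit 21, m12_R5_s5, nat_lit 12)]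
noncomputable def m12_R5_lev3 : Core.Lev := Core.mkLev m12_n m12_w m12_mask m12_L m12_maskL m12_idc (nat_lit 3) [m12_R5_s4, m12_R5_s5, m12_R5_s3] [(nat_lit 23, m12_R5_s3, nat_lit 3), (nat_lit 21, m12_R5_s4, nat_lit 23), (nat_lit 16, m12_R5_s5, nat_lit 23), (nat_lit 4, m12_R5_s3, nat_lit 23), (nat_lit 17, m12_R5_s4, nat_lit 21), (nat_lit 12, m12_R5_s4, nat_lit 16), (nat_lit 19, m12_R5_s3, nat_lit 16), (nat_lit 18, m12_R5_s5, nat_lit 4)]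
noncomputable def m12_R5_lev4 : Core.Lev := Core.mkLev m12_n m12_w m12_mask m12_L m12_maskL m12_idc (nat_lit 4) [m12_R5_s4, m12_R5_s5] [(nat_lit 16, m12_R5_s4, nat_lit 4), (nat_lit 18, m12_R5_s5, nat_lit 4), (nat_lit 12, m12_R5_s4, nat_lit 16), (nat_lit 17, m12_R5_s5, nat_lit 16), (nat_lit 23, m12_R5_s4, nat_lit 18), (nat_lit 19, m12_R5_s4, nat_lit 12), (nat_lit 21, m12_R5_s5, nat_lit 12)]
noncomputable def m12_R5_levels : List Core.Lev := [m12_R5_lev0, m12_R5_lev1, m12_R5_lev2, m12_R5_lev3, m12_R5_lev4]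

noncomputable def m12_R5_cert : Simple.RepCert := ⟨nat_lit 0x9e148d45349ac05350e2adec19257, [(nat_lit 0, nat_lit 1, nat_lit 0), (nat_lit 0, nat_lit 0, nat_lit 2), (nat_lit 0, nat_lit 0, nat_lit 2), (nat_lit 0, nat_lit 0, nat_lit 4), (nat_lit 0, nat_lit 0, nat_lit 5), (nat_lit 0, nat_lit 3, nat_lit 6), (nat_lit 0, nat_lit 0, nat_lit 7), (nat_lit 0, nat_lit 0, nat_lit 7), (nat_lit 0, nat_lit 0, nat_lit 9)], [(nat_lit 0xbd26b112034d95541daf299c104592, nat_lit 0x822460818469562b51477b933bd471), (nat_lit 0x1a42b14ae453ad1298f47a1acac013, nat_lit 0x8beae00e61414e4b268b534d090aec)], m12_R5_prog, m12_R5_levels⟩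

def m12_P0_T : List Nat := [nat_lit 0x8358f092353a5d245a865156315e60, nat_lit 0x91eae0de227d1a432548b2cac1c260, nat_lit 0x95ab405c2469dec2a9267217018a33]
def m12_P0_prog : List (Nat × Nat × Nat) := [(nat_lit 1, nat_lit 2, nat_lit 0), (nat_lit 1, nat_lit 1, nat_lit 0), (nat_lit 0, nat_lit 3, nat_lit 3), (nat_lit 0, nat_lit 2, nat_lit 1), (nat_lit 0, nat_lit 4, nat_lit 6), (nat_lit 0, nat_lit 0, nat_lit 6), (nat_lit 0, nat_lit 0, nat_lit 8), (nat_lit 0, nat_lit 0, nat_lit 9), (nat_lit 0, nat_lit 0, nat_lit 8), (nat_lit 0, nat_lit 0, nat_lit 9), (nat_lit 0, nat_lit 0, nat_lit 12), (nat_lit 0, nat_lit 7, nat_lit 0), (nat_lit 0, nat_lit 12, nat_lit 13), (nat_lit 0, nat_lit 0, nat_lit 15), (nat_lit 0, nat_lit 9, nat_lit 16), (nat_lit 0, nat_lit 0, nat_lit 16), (nat_lit 0, nat_lit 0, nat_lit 17), (nat_lit 0, nat_lit 0, nat_lit 17), (nat_lit 0, nat_lit 0, nat_lit 18), (nat_lit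 0, nat_lit 17, nat_lit 0), (nat_lit 0, nat_lit 17, nat_lit 20), (nat_lit 0, nat_lit 0, nat_lit 23), (nat_lit 0, nat_lit 0, nat_lit 23), (nat_lit 0, nat_lit 0, nat_lit 25), (nat_lit 0, nat_lit 20, nat_lit 0), (nat_lit 0, nat_lit 11, nat_lit 26), (nat_lit 0, nat_lit 22, nat_lit 0), (nat_lit 0, nat_lit 28, nat_lit 27), (nat_lit 0, nat_lit 0, nat_lit 28), (nat_lit 0, nat_lit 0, nat_lit 29), (nat_lit 0, nat_lit 0, nat_lit 30), (nat_lit 0, nat_lit 30, nat_lit 0), (nat_lit 0, nat_lit 34, nat_lit 32), (nat_lit 0, nat_lit 0, nat_lit 35), (nat_lit 0, nat_lit 0, nat_lit 34), (nat_lit 0, nat_lit 0, nat_lit 36), (nat_lit 0, nat_lit 0, nat_lit 38), (nat_lit 0, nat_lit 0, nat_lit 37), (nat_lit 0, nat_lit 0, nat_lit 40), (nat_lit 0, nat_lit 0, nat_lit 41), (nat_lit 0, nat_lit 0, nat_lit 41), (nat_lit 0, nat_lit 0, nat_lit 43), (nat_lit 0, nat_lit 38, nat_lit 0), (nat_lit 1, nat_lit 11,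 nat_lit 0), (nat_lit 0, nat_lit 1, nat_lit 12), (nat_lit 0, nat_lit 0, nat_lit 13), (nat_lit 0, nat_lit 0, nat_lit 21), (nat_lit 0, nat_lit 0, nat_lit 4), (nat_lit 0, nat_lit 0, nat_lit 5), (nat_lit 0, nat_lit 0, nat_lit 24), (nat_lit 0, nat_lit 0, nat_lit 23), (nat_lit 0, nat_lit 0, nat_lit 31), (nat_lit 0, nat_lit 8, nat_lit 0)]
def m12_P0_s0 : Nat := nat_lit 0x95ab405c2469dec2a9267217018a33
def m12_P0_s1 : Nat := nat_lit 0x229899c2373bdc32d2c66a17215420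
def m12_P0_s2 : Nat := nat_lit 0x1d2569d4045392c33da83acb0b8831
noncomputable def m12_P0_lev0 : Core.Lev := Core.mkLev m12_n m12_w m12_mask m12_L m12_maskL m12_idc (nat_lit 1) [m12_P0_s2, m12_P0_s1, m12_P0_s0] [(nat_lit 17, m12_P0_s0, nat_lit 1), (nat_lit 0, m12_P0_s2, nat_lit 17), (nat_lit 19, m12_P0_s0, nat_lit 0)]
noncomputable def m12_P0_lev1 : Core.Lev := Core.mkLev m12_n m12_w m12_mask m12_L m12_maskL m12_idc (nat_lit 2) [m12_P0_s2, m12_P0_s1] [(nat_lit 21, m12_P0_s1, nat_lit 2), (nat_lit 18, m12_P0_s2, nat_lit 21), (nat_lit 12, m12_P0_s1, nat_lit 21), (nat_lit 16, m12_P0_s1, nat_lit 18), (nat_lit 3, m12_P0_s1, nat_lit 12), (nat_lit 4, m12_P0_s2, nat_lit 16), (nat_lit 23, m12_P0_s1, nat_lit 16)]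
noncomputable def m12_P0_lev2 : Core.Lev := Core.mkLev m12_n m12_w m12_mask m12_L m12_maskL m12_idc (nat_lit 0) [m12_P0_s2] [(nat_lit 17, m12_P0_s2, nat_lit 0)]
noncomputable def m12_P0_levels : List Core.Lev := [m12_P0_lev0, m12_P0_lev1, m12_P0_lev2]

noncomputable def m12_P0_cert : Simple.SylCert := ⟨nat_lit 2, nat_lit 64, m12_P0_T, m12_P0_prog, m12_P0_levels, [nat_lit 0xbdab49ca307b9ac5a928398a418820, nat_lit 0x8358f092353a5d245a865156315e60, nat_lit 0xaba4798e2c55124335e5b2d02bc020, nat_lit 0x1348f9b235b2a9741dcb494c384820, nat_lit 0x23d8d8c035724f735a8852ca314813, nat_lit 0x229899c2373bdc32d2c66a17215420, nat_lit 0xbbaa78c8226d1f042546b156c19013, nat_lit 0x2358f04263728f25da854991515e21, nat_lit 0xb9eae04a6c6d9e42a54ba20c21c221, nat_lit 0x6248a08a32b3e832b8eb6a0d785660, nat_lit 0x63c8d88a75a2ad259dc8498a385c01, nat_lit 0x8298901032734e35d2c8798b715633, nat_lit 0x83d8d990033a9d72da8b4a0d514831,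 nat_lit 0x6260a88837b368359dc57991225413, nat_lit 0x63e0d98a23a26d2438eb514d525c20, nat_lit 0xad25688c3049d4c2bdab720c4b8813, nat_lit 0x62a0900a72b3e9531dc86acb720e21, nat_lit 0xada5400e644b94243da639570bb221, nat_lit 0x8244a99232734f52da867a17760c20, nat_lit 0x91c6e8dc2c7d9a442926a1562ac013, nat_lit 0x83c4d012753a5d75d2c55190364a21, nat_lit 0x128898b032a3ed55b8e56991780c13, nat_lit 0x1daf48d424539222b5eb3a0d093013, nat_lit 0x1bae70d40c4d1445bda8b18a294271, nat_lit 0x19eee9d6224d95033da5a2d0c91020, nat_lit 0x1248a03277a36c3338e87acb285621, nat_lit 0x1d2f60567051d2c435e67156490a21, nat_lit 0x9386705e627d1b02a92bb20cca9221, nat_lit 0xa9e4e08c02559305b5e8a18acb9271, nat_lit 0x23c4d0c223728f7452c64957564a60, nat_lit 0x2244a040373bdd55da88698b260e33, nat_lit 0x6288998817b3695438e67957280c31, nat_lit 0x12a090b237a36d529dcb7a0d220e60, nat_lit 0x2344f9c015724f22d2cb520c365c31,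 nat_lit 0x1360f8b263b26975b8e8518b524801, nat_lit 0x1260a9b012a3ec341dc66957725431, nat_lit 0x8344f890233a9d2352c84acb565c13], [(nat_lit 0x91eae0de227d1a432548b2cac1c260, nat_lit 0xbdab49ca307b9ac5a928398a418820, nat_lit 1, nat_lit 0x91eae0de227d1a432548b2cac1c260), (nat_lit 0x95ab405c2469dec2a9267217018a33, nat_lit 0x83468988975d8c0495ee3d1528d581, nat_lit 1, nat_lit 0x91eae0de227d1a432548b2cac1c260), (nat_lit 0xad2f608e244b94c5b5e53991090a60, nat_lit 0xba64a9c06cb14d542cf47b5c410031, nat_lit 1, nat_lit 0x91eae0de227d1a432548b2cac1c260), (nat_lit 0xa9eee00c2c5513043dabb14c291233, nat_lit 0xbdab49ca307b9ac5a928398a418820, nat_lit 1, nat_lit 0xa9eee00c2c5513043dabb14c291233), (nat_lit 0xbb8670ca2c6d9f032928a2ca2a9260, nat_lit 0x2c49646b771a92b35e851cb380483, nat_lit 1, nat_lit 0x91eae0de227d1a432548b2cac1c260), (nat_lit 0x13e0d03035b2a92338e54ad0325e33, nat_lit 0xbc4605e04524b5734ebb510394593,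 nat_lit 1, nat_lit 0xa9eee00c2c5513043dabb14c291233), (nat_lit 0x19e4e8d66c4d1502b5e6b2162b9001, nat_lit 0xbac8d08a333a5e032ad4438b2a8d90, nat_lit 1, nat_lit 0xa9eee00c2c5513043dabb14c291233), (nat_lit 0x1da540d63051d225bda571904bb260, nat_lit 0x820859b0603aa926d9c64bd7115c35, nat_lit 1, nat_lit 0x91eae0de227d1a432548b2cac1c260), (nat_lit 0x8258a8927773cf5352c56ad1210c01, nat_lit 0x63e6b8c830751a0b214649ca3bd444, nat_lit 1, nat_lit 0xa9eee00c2c5513043dabb14c291233), (nat_lit 0x952b68de706b9e24292b394c41b001, nat_lit 0x92ea60de63a3dcc515a941ec089050, nat_lit 1, nat_lit 0x91eae0de227d1a432548b2cac1c260), (nat_lit 0x1ba47054224d944435eba14ccbc233, nat_lit 0x89e4bb8e022d920734d443d5309195, nat_lit 1, nat_lit 0xa9eee00c2c5513043dabb14c291233), (nat_lit 0x6348f00823a26d731dc552d1584a33, nat_lit 0x9ad86906e42d10049dcab35f0146a3, nat_lit 1, nat_lit 0xa9eee00c2c5513043dabb14c291233),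 (nat_lit 0x93aa79dc0c7d9b05a545a190219031, nat_lit 0x62a36192506a4a27996e3a281acc17, nat_lit 1, nat_lit 0x91eae0de227d1a432548b2cac1c260), (nat_lit 0x950769de2469de25a548718b0ab020, nat_lit 0x958878dc73329622ba8f4b501642a0, nat_lit 1, nat_lit 0x91eae0de227d1a432548b2cac1c260), (nat_lit 0x6360f08815a2ad72b8e64a16324a71, nat_lit 0xa06524e1232571a35f651dd7a804c, nat_lit 1, nat_lit 0xa9eee00c2c5513043dabb14c291233), (nat_lit 0x2258a0c0123b5d5452cb794d710e71, nat_lit 0x19c4b646a12b5247a2ca351d298217, nat_lit 1, nat_lit 0xa9eee00c2c5513043dabb14c291233), (nat_lit 0xbd2b60c80479da23292572d101b271, nat_lit 0x262ab8d936d8b0721eb3d0c1a8a44, nat_lit 1, nat_lit 0x91eae0de227d1a432548b2cac1c260), (nat_lit 0x13c8d0b003b269229dc65217585e71, nat_lit 0x25a54042353a9cc5b5e649503b8a61, nat_lit 1, nat_lit 0xa9eee00c2c5513043dabb14c291233), (nat_lit 0xbd076048307b9a22a5463a164ab233, nat_lit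 0x2ee680e75415ec53a876d93191022, nat_lit 1, nat_lit 0x91eae0de227d1a432548b2cac1c260), (nat_lit 0x228498c2723b5c335a857ad1765401, nat_lit 0x89c8ea82f33216c7da892a9a180a43, nat_lit 1, nat_lit 0xa9eee00c2c5513043dabb14c291233), (nat_lit 0xabae788e62559242bda6a216c94001, nat_lit 0x8ac2f612153a0d34d8ae551a015e43, nat_lit 1, nat_lit 0xa9eee00c2c5513043dabb14c291233), (nat_lit 0xadaf498c1049d42335e872ca493031, nat_lit 0x9b42500af552ec4a1d28339f183072, nat_lit 1, nat_lit 0x91eae0de227d1a432548b2cac1c260), (nat_lit 0xbd8748ca6479dac4254b714d0a8801, nat_lit 0x8a2ed08e707acb5758f43254290184, nat_lit 1, nat_lit 0x91eae0de227d1a432548b2cac1c260), (nat_lit 0x1d2569d4045392c33da83acb0b8831, nat_lit 0x9c96ab05773d315d14d2991298c10, nat_lit 1, nat_lit 0x91eae0de227d1a432548b2cac1c260), (nat_lit 0xb9c6e9c8026d1e45a925b190cac031, nat_lit 0x1b84ba80325192c434a7a3ec485e33, nat_lit 1, nat_lit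 0x91eae0de227d1a432548b2cac1c260), (nat_lit 0x828490901773ce345a8b694d265671, nat_lit 0xa9c261819742d444d8ad7ba9314650, nat_lit 1, nat_lit 0xa9eee00c2c5513043dabb14c291233), (nat_lit 0x958740dc106b9ec325453ad04a8a71, nat_lit 0x9160f9dc80b34e351974425d51442c, nat_lit 1, nat_lit 0x91eae0de227d1a432548b2cac1c260)], [(nat_lit 1, nat_lit 1, nat_lit 0), (nat_lit 0, nat_lit 2, nat_lit 0), (nat_lit 1, nat_lit 2, nat_lit 0), (nat_lit 0, nat_lit 0, nat_lit 2), (nat_lit 0, nat_lit 1, nat_lit 0), (nat_lit 0, nat_lit 2, nat_lit 0), (nat_lit 0, nat_lit 5, nat_lit 0), (nat_lit 0, nat_lit 6, nat_lit 0), (nat_lit 0, nat_lit 5, nat_lit 0), (nat_lit 0, nat_lit 8, nat_lit 4), (nat_lit 0, nat_lit 7, nat_lit 0), (nat_lit 0, nat_lit 8, nat_lit 0), (nat_lit 0, nat_lit 9, nat_lit 0), (nat_lit 0, nat_lit 12, nat_lit 0), (nat_lit 0, nat_lit 13, nat_lit 0), (nat_lit 0, nat_lit 14, nat_lit 0), (nat_lit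 0, nat_lit 13, nat_lit 13), (nat_lit 0, nat_lit 14, nat_lit 0), (nat_lit 0, nat_lit 17, nat_lit 0), (nat_lit 0, nat_lit 16, nat_lit 0), (nat_lit 0, nat_lit 19, nat_lit 0), (nat_lit 0, nat_lit 20, nat_lit 0), (nat_lit 0, nat_lit 21, nat_lit 0), (nat_lit 0, nat_lit 22, nat_lit 4), (nat_lit 0, nat_lit 21, nat_lit 0), (nat_lit 0, nat_lit 24, nat_lit 24), (nat_lit 0, nat_lit 25, nat_lit 0), (nat_lit 0, nat_lit 26, nat_lit 0), (nat_lit 0, nat_lit 25, nat_lit 0), (nat_lit 0, nat_lit 28, nat_lit 0), (nat_lit 0, nat_lit 27, nat_lit 0), (nat_lit 0, nat_lit 28, nat_lit 0), (nat_lit 0, nat_lit 31, nat_lit 0), (nat_lit 0, nat_lit 32, nat_lit 29), (nat_lit 0, nat_lit 31, nat_lit 0), (nat_lit 0, nat_lit 32, nat_lit 0), (nat_lit 0, nat_lit 35, nat_lit 0), (nat_lit 0, nat_lit 34, nat_lit 0), (nat_lit 0, nat_lit 37, nat_lit 10), (nat_lit 0, nat_lit 38, nat_lit 0), (nat_lit 0, nat_lit 39,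 nat_lit 0), (nat_lit 0, nat_lit 38, nat_lit 0), (nat_lit 0, nat_lit 41, nat_lit 0), (nat_lit 0, nat_lit 42, nat_lit 40), (nat_lit 0, nat_lit 41, nat_lit 0), (nat_lit 0, nat_lit 44, nat_lit 0), (nat_lit 0, nat_lit 43, nat_lit 0), (nat_lit 0, nat_lit 44, nat_lit 0), (nat_lit 0, nat_lit 47, nat_lit 0), (nat_lit 0, nat_lit 46, nat_lit 4), (nat_lit 0, nat_lit 47, nat_lit 0), (nat_lit 0, nat_lit 50, nat_lit 0), (nat_lit 0, nat_lit 49, nat_lit 26), (nat_lit 0, nat_lit 52, nat_lit 0), (nat_lit 0, nat_lit 53, nat_lit 0), (nat_lit 0, nat_lit 52, nat_lit 0), (nat_lit 0, nat_lit 55, nat_lit 0), (nat_lit 0, nat_lit 54, nat_lit 0), (nat_lit 0, nat_lit 55, nat_lit 0), (nat_lit 0, nat_lit 58, nat_lit 42), (nat_lit 0, nat_lit 59, nat_lit 0), (nat_lit 0, nat_lit 58, nat_lit 0), (nat_lit 0, nat_lit 59, nat_lit 0), (nat_lit 0, nat_lit 62, nat_lit 0), (nat_lit 0, nat_lit 61, nat_lit 0), (nat_lit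 0, nat_lit 62, nat_lit 0), (nat_lit 0, nat_lit 65, nat_lit 22), (nat_lit 0, nat_lit 64, nat_lit 0), (nat_lit 0, nat_lit 67, nat_lit 0), (nat_lit 0, nat_lit 66, nat_lit 0), (nat_lit 0, nat_lit 67, nat_lit 0), (nat_lit 0, nat_lit 70, nat_lit 30), (nat_lit 0, nat_lit 69, nat_lit 0), (nat_lit 0, nat_lit 72, nat_lit 0), (nat_lit 0, nat_lit 73, nat_lit 13), (nat_lit 0, nat_lit 74, nat_lit 0), (nat_lit 0, nat_lit 75, nat_lit 0), (nat_lit 0, nat_lit 76, nat_lit 0), (nat_lit 0, nat_lit 75, nat_lit 0), (nat_lit 0, nat_lit 78, nat_lit 33), (nat_lit 0, nat_lit 79, nat_lit 0), (nat_lit 0, nat_lit 78, nat_lit 0), (nat_lit 0, nat_lit 81, nat_lit 0), (nat_lit 0, nat_lit 80, nat_lit 23), (nat_lit 0, nat_lit 81, nat_lit 0), (nat_lit 0, nat_lit 84, nat_lit 0), (nat_lit 0, nat_lit 83, nat_lit 1), (nat_lit 0, nat_lit 86, nat_lit 0), (nat_lit 0, nat_lit 85, nat_lit 70), (nat_lit 0, nat_lit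 88, nat_lit 0), (nat_lit 0, nat_lit 87, nat_lit 0), (nat_lit 0, nat_lit 88, nat_lit 0), (nat_lit 0, nat_lit 91, nat_lit 0), (nat_lit 0, nat_lit 90, nat_lit 0), (nat_lit 0, nat_lit 91, nat_lit 67), (nat_lit 0, nat_lit 92, nat_lit 0), (nat_lit 0, nat_lit 95, nat_lit 0), (nat_lit 0, nat_lit 94, nat_lit 0), (nat_lit 0, nat_lit 97, nat_lit 0), (nat_lit 0, nat_lit 98, nat_lit 0), (nat_lit 0, nat_lit 99, nat_lit 0), (nat_lit 0, nat_lit 98, nat_lit 12), (nat_lit 0, nat_lit 101, nat_lit 0), (nat_lit 0, nat_lit 102, nat_lit 0), (nat_lit 0, nat_lit 103, nat_lit 0), (nat_lit 0, nat_lit 104, nat_lit 21), (nat_lit 0, nat_lit 105, nat_lit 0), (nat_lit 0, nat_lit 104, nat_lit 0), (nat_lit 0, nat_lit 107, nat_lit 84), (nat_lit 0, nat_lit 106, nat_lit 0), (nat_lit 0, nat_lit 107, nat_lit 0), (nat_lit 0, nat_lit 110, nat_lit 0), (nat_lit 0, nat_lit 111, nat_lit 57), (nat_lit 0, nat_lit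 112, nat_lit 0), (nat_lit 0, nat_lit 111, nat_lit 0), (nat_lit 0, nat_lit 114, nat_lit 0), (nat_lit 0, nat_lit 113, nat_lit 63), (nat_lit 0, nat_lit 116, nat_lit 0), (nat_lit 0, nat_lit 115, nat_lit 0), (nat_lit 0, nat_lit 116, nat_lit 0), (nat_lit 0, nat_lit 117, nat_lit 0)]⟩

def m12_P1_T : List Nat := [nat_lit 0xb984e612503a2c05a9f44b4b1a8c33, nat_lit 0xb66900c9729cd17514f5d90c14a15]
def m12_P1_prog : List (Nat × Nat × Nat) := [(nat_lit 1, nat_lit 1, nat_lit 0), (nat_lit 1, nat_lit 1, nat_lit 0), (nat_lit 0, nat_lit 3, nat_lit 2), (nat_lit 0, nat_lit 0, nat_lit 4), (nat_lit 0, nat_lit 0, nat_lit 5), (nat_lit 0, nat_lit 0, nat_lit 6), (nat_lit 0, nat_lit 0, nat_lit 6), (nat_lit 0, nat_lit 0, nat_lit 8), (nat_lit 0, nat_lit 0, nat_lit 9), (nat_lit 0, nat_lit 0, nat_lit 9), (nat_lit 0, nat_lit 9, nat_lit 9), (nat_lit 0, nat_lit 0, nat_lit 9), (nat_lit 0, nat_lit 0, nat_lit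 10), (nat_lit 0, nat_lit 0, nat_lit 3)]
def m12_P1_s0 : Nat := nat_lit 0xb984e612503a2c05a9f44b4b1a8c33
def m12_P1_s1 : Nat := nat_lit 0xda478b0775bdb5750a95190498a00
noncomputable def m12_P1_lev0 : Core.Lev := Core.mkLev m12_n m12_w m12_mask m12_L m12_maskL m12_idc (nat_lit 0) [m12_P1_s1, m12_P1_s0] [(nat_lit 19, m12_P1_s0, nat_lit 0), (nat_lit 17, m12_P1_s1, nat_lit 19), (nat_lit 12, m12_P1_s0, nat_lit 19), (nat_lit 3, m12_P1_s1, nat_lit 17), (nat_lit 18, m12_P1_s0, nat_lit 17), (nat_lit 21, m12_P1_s1, nat_lit 12), (nat_lit 4, m12_P1_s0, nat_lit 18), (nat_lit 2, m12_P1_s0, nat_lit 21)]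
noncomputable def m12_P1_lev1 : Core.Lev := Core.mkLev m12_n m12_w m12_mask m12_L m12_maskL m12_idc (nat_lit 1) [m12_P1_s1] [(nat_lit 16, m12_P1_s1, nat_lit 1), (nat_lit 23, m12_P1_s1, nat_lit 16)]
noncomputable def m12_P1_levels : List Core.Lev := [m12_P1_lev0, m12_P1_lev1]

noncomputable def m12_P1_cert : Simple.SylCert := ⟨nat_lit 3, nat_lit 27, m12_P1_T, m12_P1_prog, m12_P1_levels, [nat_lit 0xbdab49ca307b9ac5a928398a418820], [(nat_lit 0xb984e612503a2c05a9f44b4b1a8c33, nat_lit 0xbdab49ca307b9ac5a928398a418820, nat_lit 1, nat_lit 0xb984e612503a2c05a9f44b4b1a8c33), (nat_lit 0xb66900c9729cd17514f5d90c14a15, nat_lit 0xbdab49ca307b9ac5a928398a418820, nat_lit 1, nat_lit 0xb66900c9729cd17514f5d90c14a15), (nat_lit 0xbb468044904d0d35a8ee7d8b21542c, nat_lit 0x9e7611237a35352a9c643d7260203, nat_lit 1, nat_lit 0xb984e612503a2c05a9f44b4b1a8c33), (nat_lit 0xda478b0775bdb5750a95190498a00,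 nat_lit 0x8ac68654043bca24b8d6a29b09de41, nat_lit 1, nat_lit 0xb984e612503a2c05a9f44b4b1a8c33), (nat_lit 0xd98f9d6372a5b24394759a8019202, nat_lit 0x1647bc60c4a16433a8db29f508e62, nat_lit 1, nat_lit 0xb984e612503a2c05a9f44b4b1a8c33), (nat_lit 0x8180aa898142ec43a685735f190ef3, nat_lit 0x92ee685483424ec559afa38b104c41, nat_lit 1, nat_lit 0xb66900c9729cd17514f5d90c14a15), (nat_lit 0x984fa9197526c0751672b50394e11, nat_lit 0x9847182375a5a4a394f2d9159ca0c, nat_lit 1, nat_lit 0xb66900c9729cd17514f5d90c14a15), (nat_lit 0x9889902b759ec2438af5369160e13, nat_lit 0x9d02790ef5b3d516a1662a5d061002, nat_lit 1, nat_lit 0xb66900c9729cd17514f5d90c14a15), (nat_lit 0x8346b24441714d33a50aa59ec04af5, nat_lit 0x6202914c1171de3559a6a157285497, nat_lit 1, nat_lit 0xb66900c9729cd17514f5d90c14a15), (nat_lit 0x980760a572bec4a21495b5d3ac603, nat_lit 0x836659458172ec37a68a418e2a92e0, nat_lit 1, nat_lit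 0xb66900c9729cd17514f5d90c14a15), (nat_lit 0x8362504c81428c379e8b75935132f2, nat_lit 0x260e90af5b214433d6d2d0e164663, nat_lit 1, nat_lit 0xb66900c9729cd17514f5d90c14a15), (nat_lit 0x8366a10c01a2cd14bdc5458f2256ec, nat_lit 0xb988f60aa141ec0595c9a354394613, nat_lit 1, nat_lit 0xb66900c9729cd17514f5d90c14a15), (nat_lit 0xb4671441753cd3439692da9523212, nat_lit 0xad028144803b923b2ccd7a8b784a6c, nat_lit 1, nat_lit 0xb66900c9729cd17514f5d90c14a15), (nat_lit 0x85a459b221a29b53a5cb419e2182e4, nat_lit 0x8966683032b1d40725f442da2b8c95, nat_lit 1, nat_lit 0xb984e612503a2c05a9f44b4b1a8c33), (nat_lit 0xb62f24c575a4c3a20a7559d20560c, nat_lit 0x13a2580483458f37a5aaa2cd703255, nat_lit 1, nat_lit 0xb66900c9729cd17514f5d90c14a15), (nat_lit 0x8598a1d66172db279d05a192488ae0, nat_lit 0x12a768808379d6c49a8e69517942a1, nat_lit 1, nat_lit 0xb984e612503a2c05a9f44b4b1a8c33), (nat_lit 0x85aab8c861415ac4be8a718e0992e2,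 nat_lit 0x22aef9c191758a13d1286acc300a55, nat_lit 1, nat_lit 0xb984e612503a2c05a9f44b4b1a8c33), (nat_lit 0xb9888a81907d2c22ad2e3b55394423, nat_lit 0x81854a82575a2c43bd4e2b52364433, nat_lit 1, nat_lit 0xb984e612503a2c05a9f44b4b1a8c33), (nat_lit 0xb981490ab04bac4514e87b56364c31, nat_lit 0x81eaa04c77415e43368b726d193022, nat_lit 1, nat_lit 0xb984e612503a2c05a9f44b4b1a8c33), (nat_lit 0xdaa91ca7751daca216f299c288204, nat_lit 0x1160f8dc95b5161498ed7290094c6c, nat_lit 1, nat_lit 0xb984e612503a2c05a9f44b4b1a8c33), (nat_lit 0x8184b912a1a16c079dca43533646e3, nat_lit 0x9885982307a9a24392b3da951b2f2, nat_lit 1, nat_lit 0xb66900c9729cd17514f5d90c14a15), (nat_lit 0x818856024172ac24bd0ba34e3acef1, nat_lit 0x8363494eb75bac379ca85192460820, nat_lit 1, nat_lit 0xb66900c9729cd17514f5d90c14a15), (nat_lit 0xbb63414c103b8c32ade84d94c24835, nat_lit 0x836659458172ec37a68a418e2a92e0, nat_lit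 1, nat_lit 0xb984e612503a2c05a9f44b4b1a8c33), (nat_lit 0xbb66e20c507a0d1515343d97503032, nat_lit 0xdaaf1309759cd2451492b5c304613, nat_lit 1, nat_lit 0xb984e612503a2c05a9f44b4b1a8c33), (nat_lit 0xbda4e1b2704a1b52acf47994089022, nat_lit 0xb96af8889041d4369a8972ec093033, nat_lit 1, nat_lit 0xb984e612503a2c05a9f44b4b1a8c33), (nat_lit 0xbd9888d4703d1b2515ee4996298024, nat_lit 0x82d868ce413d940721ed4968220ef5, nat_lit 1, nat_lit 0xb984e612503a2c05a9f44b4b1a8c33)], [(nat_lit 1, nat_lit 1, nat_lit 0), (nat_lit 0, nat_lit 2, nat_lit 0), (nat_lit 1, nat_lit 2, nat_lit 0), (nat_lit 0, nat_lit 0, nat_lit 0), (nat_lit 0, nat_lit 3, nat_lit 0), (nat_lit 0, nat_lit 4, nat_lit 0), (nat_lit 0, nat_lit 5, nat_lit 0), (nat_lit 0, nat_lit 4, nat_lit 0), (nat_lit 0, nat_lit 7, nat_lit 0), (nat_lit 0, nat_lit 8, nat_lit 0), (nat_lit 0, nat_lit 7, nat_lit 0), (nat_lit 0, nat_lit 10, nat_lit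 0), (nat_lit 0, nat_lit 11, nat_lit 9), (nat_lit 0, nat_lit 12, nat_lit 0), (nat_lit 0, nat_lit 13, nat_lit 0), (nat_lit 0, nat_lit 14, nat_lit 0), (nat_lit 0, nat_lit 13, nat_lit 0), (nat_lit 0, nat_lit 16, nat_lit 0), (nat_lit 0, nat_lit 15, nat_lit 0), (nat_lit 0, nat_lit 16, nat_lit 0), (nat_lit 0, nat_lit 17, nat_lit 0), (nat_lit 0, nat_lit 20, nat_lit 5), (nat_lit 0, nat_lit 19, nat_lit 0), (nat_lit 0, nat_lit 20, nat_lit 0), (nat_lit 0, nat_lit 21, nat_lit 0), (nat_lit 0, nat_lit 22, nat_lit 0), (nat_lit 0, nat_lit 23, nat_lit 0), (nat_lit 0, nat_lit 24, nat_lit 26), (nat_lit 0, nat_lit 25, nat_lit 0), (nat_lit 0, nat_lit 28, nat_lit 0), (nat_lit 0, nat_lit 29, nat_lit 0), (nat_lit 0, nat_lit 30, nat_lit 0), (nat_lit 0, nat_lit 29, nat_lit 19), (nat_lit 0, nat_lit 30, nat_lit 0), (nat_lit 0, nat_lit 33, nat_lit 0), (nat_lit 0, nat_lit 34, nat_lit 0), (nat_lit 0,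 nat_lit 33, nat_lit 0), (nat_lit 0, nat_lit 34, nat_lit 0), (nat_lit 0, nat_lit 35, nat_lit 0), (nat_lit 0, nat_lit 36, nat_lit 0), (nat_lit 0, nat_lit 39, nat_lit 0), (nat_lit 0, nat_lit 38, nat_lit 0), (nat_lit 0, nat_lit 41, nat_lit 0), (nat_lit 0, nat_lit 40, nat_lit 14), (nat_lit 0, nat_lit 43, nat_lit 0), (nat_lit 0, nat_lit 44, nat_lit 44), (nat_lit 0, nat_lit 43, nat_lit 0), (nat_lit 0, nat_lit 46, nat_lit 0), (nat_lit 0, nat_lit 47, nat_lit 0), (nat_lit 0, nat_lit 48, nat_lit 0), (nat_lit 0, nat_lit 47, nat_lit 0), (nat_lit 0, nat_lit 48, nat_lit 0), (nat_lit 0, nat_lit 49, nat_lit 0), (nat_lit 0, nat_lit 52, nat_lit 0), (nat_lit 0, nat_lit 51, nat_lit 0), (nat_lit 0, nat_lit 54, nat_lit 22), (nat_lit 0, nat_lit 55, nat_lit 0), (nat_lit 0, nat_lit 56, nat_lit 0), (nat_lit 0, nat_lit 55, nat_lit 0), (nat_lit 0, nat_lit 56, nat_lit 0), (nat_lit 0, nat_lit 59, nat_lit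 0), (nat_lit 0, nat_lit 58, nat_lit 13), (nat_lit 0, nat_lit 61, nat_lit 0), (nat_lit 0, nat_lit 62, nat_lit 0), (nat_lit 0, nat_lit 63, nat_lit 28), (nat_lit 0, nat_lit 64, nat_lit 0), (nat_lit 0, nat_lit 65, nat_lit 0), (nat_lit 0, nat_lit 66, nat_lit 0), (nat_lit 0, nat_lit 65, nat_lit 38), (nat_lit 0, nat_lit 66, nat_lit 0), (nat_lit 0, nat_lit 69, nat_lit 0), (nat_lit 0, nat_lit 70, nat_lit 0), (nat_lit 0, nat_lit 71, nat_lit 0), (nat_lit 0, nat_lit 70, nat_lit 0), (nat_lit 0, nat_lit 73, nat_lit 0), (nat_lit 0, nat_lit 72, nat_lit 60), (nat_lit 0, nat_lit 75, nat_lit 0), (nat_lit 0, nat_lit 76, nat_lit 0), (nat_lit 0, nat_lit 77, nat_lit 0), (nat_lit 0, nat_lit 78, nat_lit 0), (nat_lit 0, nat_lit 77, nat_lit 36), (nat_lit 0, nat_lit 78, nat_lit 0), (nat_lit 0, nat_lit 79, nat_lit 0), (nat_lit 0, nat_lit 82, nat_lit 0), (nat_lit 0, nat_lit 83, nat_lit 0), (nat_lit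 0, nat_lit 84, nat_lit 0), (nat_lit 0, nat_lit 83, nat_lit 29), (nat_lit 0, nat_lit 84, nat_lit 0), (nat_lit 0, nat_lit 85, nat_lit 0), (nat_lit 0, nat_lit 88, nat_lit 0), (nat_lit 0, nat_lit 89, nat_lit 0), (nat_lit 0, nat_lit 90, nat_lit 0), (nat_lit 0, nat_lit 91, nat_lit 0), (nat_lit 0, nat_lit 90, nat_lit 89), (nat_lit 0, nat_lit 91, nat_lit 0), (nat_lit 0, nat_lit 94, nat_lit 0), (nat_lit 0, nat_lit 93, nat_lit 0), (nat_lit 0, nat_lit 94, nat_lit 0), (nat_lit 0, nat_lit 97, nat_lit 0), (nat_lit 0, nat_lit 96, nat_lit 0), (nat_lit 0, nat_lit 97, nat_lit 0), (nat_lit 0, nat_lit 100, nat_lit 56), (nat_lit 0, nat_lit 99, nat_lit 0), (nat_lit 0, nat_lit 100, nat_lit 0), (nat_lit 0, nat_lit 103, nat_lit 0), (nat_lit 0, nat_lit 104, nat_lit 0), (nat_lit 0, nat_lit 105, nat_lit 0), (nat_lit 0, nat_lit 104, nat_lit 51), (nat_lit 0, nat_lit 105, nat_lit 0), (nat_lit 0, nat_lit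 108, nat_lit 0), (nat_lit 0, nat_lit 109, nat_lit 0), (nat_lit 0, nat_lit 108, nat_lit 0), (nat_lit 0, nat_lit 111, nat_lit 0), (nat_lit 0, nat_lit 112, nat_lit 0), (nat_lit 0, nat_lit 113, nat_lit 0), (nat_lit 0, nat_lit 114, nat_lit 0), (nat_lit 0, nat_lit 113, nat_lit 69), (nat_lit 0, nat_lit 114, nat_lit 0), (nat_lit 0, nat_lit 115, nat_lit 0), (nat_lit 0, nat_lit 118, nat_lit 0), (nat_lit 0, nat_lit 117, nat_lit 0), (nat_lit 0, nat_lit 118, nat_lit 0), (nat_lit 0, nat_lit 121, nat_lit 0), (nat_lit 0, nat_lit 122, nat_lit 0), (nat_lit 0, nat_lit 123, nat_lit 0), (nat_lit 0, nat_lit 124, nat_lit 0), (nat_lit 0, nat_lit 125, nat_lit 44), (nat_lit 0, nat_lit 124, nat_lit 0), (nat_lit 0, nat_lit 127, nat_lit 0), (nat_lit 0, nat_lit 126, nat_lit 0), (nat_lit 0, nat_lit 127, nat_lit 99), (nat_lit 0, nat_lit 128, nat_lit 0), (nat_lit 0, nat_lit 131, nat_lit 0), (nat_lit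 0, nat_lit 132, nat_lit 0), (nat_lit 0, nat_lit 131, nat_lit 0), (nat_lit 0, nat_lit 132, nat_lit 0), (nat_lit 0, nat_lit 135, nat_lit 0), (nat_lit 0, nat_lit 136, nat_lit 91), (nat_lit 0, nat_lit 137, nat_lit 0), (nat_lit 0, nat_lit 138, nat_lit 0), (nat_lit 0, nat_lit 137, nat_lit 0), (nat_lit 0, nat_lit 138, nat_lit 0), (nat_lit 0, nat_lit 139, nat_lit 0), (nat_lit 0, nat_lit 142, nat_lit 0), (nat_lit 0, nat_lit 143, nat_lit 0), (nat_lit 0, nat_lit 144, nat_lit 0), (nat_lit 0, nat_lit 145, nat_lit 0), (nat_lit 0, nat_lit 146, nat_lit 6), (nat_lit 0, nat_lit 147, nat_lit 0), (nat_lit 0, nat_lit 146, nat_lit 0), (nat_lit 0, nat_lit 149, nat_lit 0), (nat_lit 0, nat_lit 148, nat_lit 32), (nat_lit 0, nat_lit 149, nat_lit 0)]⟩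

def m12_P2_T : List Nat := [nat_lit 0xbd22f04e02538b2b2da74991519181]
def m12_P2_prog : List (Nat × Nat × Nat) := []
def m12_P2_s0 : Nat := nat_lit 0xbd22f04e02538b2b2da74991519181
noncomputable def m12_P2_lev0 : Core.Lev := Core.mkLev m12_n m12_w m12_mask m12_L m12_maskL m12_idc (nat_lit 0) [m12_P2_s0] [(nat_lit 1, m12_P2_s0, nat_lit 0), (nat_lit 12, m12_P2_s0, nat_lit 1), (nat_lit 18, m12_P2_s0, nat_lit 12), (nat_lit 19, m12_P2_s0, nat_lit 18)]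
noncomputable def m12_P2_levels : List Core.Lev := [m12_P2_lev0]

noncomputable def m12_P2_cert : Simple.SylCert := ⟨nat_lit 5, nat_lit 5, m12_P2_T, m12_P2_prog, m12_P2_levels, [nat_lit 0xbdab49ca307b9ac5a928398a418820], [(nat_lit 0xbd22f04e02538b2b2da74991519181, nat_lit 0xbdab49ca307b9ac5a928398a418820, nat_lit 1, nat_lit 0xbd22f04e02538b2b2da74991519181), (nat_lit 0xbbe0a080445b913a58a9698f11d64c, nat_lit 0xba22d0c89039ac0495f45b9421d593, nat_lit 1, nat_lit 0xbd22f04e02538b2b2da74991519181), (nat_lit 0xba84b60495b38e07d10d299301c672, nat_lit 0xb94870ce22699ec4a2d4539701d412, nat_lit 1, nat_lit 0xbd22f04e02538b2b2da74991519181), (nat_lit 0xbac96932b1a392153ce5419a21c013, nat_lit 0x1a24525581699f13a5565ba93b8202, nat_lit 1, nat_lit 0xbd22f04e02538b2b2da74991519181)], [(nat_lit 1, nat_lit 1, nat_lit 0), (nat_lit 0, nat_lit 2, nat_lit 0), (nat_lit 1, nat_lit 2, nat_lit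 0), (nat_lit 0, nat_lit 0, nat_lit 0), (nat_lit 0, nat_lit 3, nat_lit 0), (nat_lit 0, nat_lit 4, nat_lit 0), (nat_lit 0, nat_lit 3, nat_lit 0), (nat_lit 0, nat_lit 6, nat_lit 0), (nat_lit 0, nat_lit 7, nat_lit 0), (nat_lit 0, nat_lit 8, nat_lit 0), (nat_lit 0, nat_lit 7, nat_lit 0), (nat_lit 0, nat_lit 8, nat_lit 0), (nat_lit 0, nat_lit 11, nat_lit 0), (nat_lit 0, nat_lit 10, nat_lit 0), (nat_lit 0, nat_lit 11, nat_lit 0), (nat_lit 0, nat_lit 14, nat_lit 0), (nat_lit 0, nat_lit 15, nat_lit 0), (nat_lit 0, nat_lit 16, nat_lit 14), (nat_lit 0, nat_lit 17, nat_lit 0), (nat_lit 0, nat_lit 16, nat_lit 0), (nat_lit 0, nat_lit 19, nat_lit 0), (nat_lit 0, nat_lit 20, nat_lit 0), (nat_lit 0, nat_lit 21, nat_lit 0), (nat_lit 0, nat_lit 20, nat_lit 0), (nat_lit 0, nat_lit 21, nat_lit 0), (nat_lit 0, nat_lit 24, nat_lit 0), (nat_lit 0, nat_lit 25, nat_lit 0), (nat_lit 0, nat_lit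 24, nat_lit 0), (nat_lit 0, nat_lit 25, nat_lit 0), (nat_lit 0, nat_lit 28, nat_lit 0), (nat_lit 0, nat_lit 29, nat_lit 29), (nat_lit 0, nat_lit 28, nat_lit 0), (nat_lit 0, nat_lit 31, nat_lit 0), (nat_lit 0, nat_lit 30, nat_lit 0), (nat_lit 0, nat_lit 33, nat_lit 0), (nat_lit 0, nat_lit 34, nat_lit 0), (nat_lit 0, nat_lit 35, nat_lit 0), (nat_lit 0, nat_lit 34, nat_lit 0), (nat_lit 0, nat_lit 35, nat_lit 0), (nat_lit 0, nat_lit 36, nat_lit 0)]⟩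

def m12_P3_T : List Nat := [nat_lit 0x9e148d45349ac05350e2adec19257]
def m12_P3_prog : List (Nat × Nat × Nat) := []
def m12_P3_s0 : Nat := nat_lit 0x9e148d45349ac05350e2adec19257
noncomputable def m12_P3_lev0 : Core.Lev := Core.mkLev m12_n m12_w m12_mask m12_L m12_maskL m12_idc (nat_lit 0) [m12_P3_s0] [(nat_lit 23, m12_P3_s0, nat_lit 0), (nat_lit 1, m12_P3_s0, nat_lit 23), (nat_lit 18, m12_P3_s0, nat_lit 1), (nat_lit 21, m12_P3_s0, nat_lit 18), (nat_lit 16, m12_P3_s0, nat_lit 21), (nat_lit 19, m12_P3_s0, nat_lit 16), (nat_lit 17, m12_P3_s0, nat_lit 19), (nat_lit 2, m12_P3_s0, nat_lit 17), (nat_lit 4, m12_P3_s0, nat_lit 2), (nat_lit 12, m12_P3_s0, nat_lit 4)]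
noncomputable def m12_P3_levels : List Core.Lev := [m12_P3_lev0]

noncomputable def m12_P3_cert : Simple.SylCert := ⟨nat_lit 11, nat_lit 11, m12_P3_T, m12_P3_prog, m12_P3_levels, [nat_lit 0xbdab49ca307b9ac5a928398a418820], [(nat_lit 0x9e148d45349ac05350e2adec19257, nat_lit 0xbdab49ca307b9ac5a928398a418820, nat_lit 1, nat_lit 0x9e148d45349ac05350e2adec19257), (nat_lit 0x916741409142cf76d9c67a9201b2a1, nat_lit 0x95af489195519622a0e97b5d018660, nat_lit 2, nat_lit 0x9e148d45349ac05350e2adec19257), (nat_lit 0xabe3424d82728a1b1ccb4b51718212, nat_lit 0x124949c18143ac0799455b4f11caf5, nat_lit 1, nat_lit 0x9e148d45349ac05350e2adec19257), (nat_lit 0x8245464404335f23956a459c11de75, nat_lit 0x95af489195519622a0e97b5d018660, nat_lit 1, nat_lit 0x9e148d45349ac05350e2adec19257), (nat_lit 0x9a09400aec5d9352bd4d71cd218630, nat_lit 0x92054ab0336a4d1b296e794e4182f0, nat_lit 1, nat_lit 0x9e148d45349ac05350e2adec19257),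 (nat_lit 0x8b994b902051d107a5b6315751c853, nat_lit 0xbdab49ca307b9ac5a928398a418820, nat_lit 2, nat_lit 0x9e148d45349ac05350e2adec19257), (nat_lit 0x118140b257695d34a2c75bd501d491, nat_lit 0x124949c18143ac0799455b4f11caf5, nat_lit 2, nat_lit 0x9e148d45349ac05350e2adec19257), (nat_lit 0x22ef4902a1b3cd1438e5525b31c182, nat_lit 0x92054ab0336a4d1b296e794e4182f0, nat_lit 2, nat_lit 0x9e148d45349ac05350e2adec19257), (nat_lit 0x62834ade123a562718af6a2d11cc04, nat_lit 0xae7485d803a1f24a9d62b4c41d622, nat_lit 1, nat_lit 0x9e148d45349ac05350e2adec19257), (nat_lit 0x3654806752a14432de9b38e21c6ec, nat_lit 0xae7485d803a1f24a9d62b4c41d622, nat_lit 2, nat_lit 0x9e148d45349ac05350e2adec19257)], [(nat_lit 1, nat_lit 1, nat_lit 0), (nat_lit 0, nat_lit 2, nat_lit 0), (nat_lit 1, nat_lit 2, nat_lit 0), (nat_lit 0, nat_lit 0, nat_lit 0), (nat_lit 0, nat_lit 1, nat_lit 0), (nat_lit 0, nat_lit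 4, nat_lit 0), (nat_lit 0, nat_lit 3, nat_lit 0), (nat_lit 0, nat_lit 6, nat_lit 0), (nat_lit 0, nat_lit 7, nat_lit 0), (nat_lit 0, nat_lit 8, nat_lit 0), (nat_lit 0, nat_lit 9, nat_lit 0), (nat_lit 0, nat_lit 10, nat_lit 0), (nat_lit 0, nat_lit 11, nat_lit 0), (nat_lit 0, nat_lit 12, nat_lit 0), (nat_lit 0, nat_lit 13, nat_lit 11), (nat_lit 0, nat_lit 14, nat_lit 0), (nat_lit 0, nat_lit 15, nat_lit 0), (nat_lit 0, nat_lit 14, nat_lit 0), (nat_lit 0, nat_lit 15, nat_lit 0), (nat_lit 0, nat_lit 16, nat_lit 0), (nat_lit 0, nat_lit 19, nat_lit 0), (nat_lit 0, nat_lit 18, nat_lit 0), (nat_lit 0, nat_lit 19, nat_lit 0), (nat_lit 0, nat_lit 22, nat_lit 22), (nat_lit 0, nat_lit 23, nat_lit 0), (nat_lit 0, nat_lit 22, nat_lit 0), (nat_lit 0, nat_lit 23, nat_lit 0), (nat_lit 0, nat_lit 24, nat_lit 0), (nat_lit 0, nat_lit 25, nat_lit 0), (nat_lit 0, nat_lit 26, nat_lit 0), (nat_lit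 0, nat_lit 27, nat_lit 0), (nat_lit 0, nat_lit 30, nat_lit 27), (nat_lit 0, nat_lit 31, nat_lit 0), (nat_lit 0, nat_lit 32, nat_lit 0), (nat_lit 0, nat_lit 33, nat_lit 0), (nat_lit 0, nat_lit 34, nat_lit 0), (nat_lit 0, nat_lit 35, nat_lit 0), (nat_lit 0, nat_lit 36, nat_lit 0), (nat_lit 0, nat_lit 37, nat_lit 0)]⟩

noncomputable def m12_reps : List Simple.RepCert := [m12_R0_cert, m12_R1_cert, m12_R2_cert, m12_R3_cert, m12_R4_cert, m12_R5_cert]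
noncomputable def m12_syls : List Simple.SylCert := [m12_P0_cert, m12_P1_cert, m12_P2_cert, m12_P3_cert]

set_option maxRecDepth 1000000 in
theorem m12_G_ok : Core.checkAll m12_n m12_w m12_mask m12_L m12_maskL m12_idc m12_G_T m12_G_prog m12_G_levels = true := by decide +kernel

theorem m12_order : Core.orderC m12_G_levels = 95040 := by decide +kernel

set_option maxRecDepth 1000000 in
theorem m12_reps_ok : Core.allL (Simple.repCheck m12_n m12_w m12_mask m12_L m12_maskL m12_idc m12_G_T m12_G_levels 95040) m12_reps = true := by decide +kernel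

set_option maxRecDepth 1000000 in
theorem m12_syls_ok : Core.allL (Simple.sylCheck m12_n m12_w m12_mask m12_L m12_maskL m12_idc m12_G_T m12_G_levels 95040 (m12_reps.map (·.r))) m12_syls = true := by decide +kernel

theorem m12_prod : (m12_syls.map (·.pk)).prod = 95040 := by decide +kernel

end Cfsg.Agent.Lib.PermComp.Mathieu.CertM12
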