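import Cfsg.Agent.Lib.PermComp.Mathieu.Bridge
import Cfsg.Agent.Lib.PermComp.Mathieu.CertM12
import Cfsg.Agent.Lib.PermComp.Mathieu.CertM11
import Cfsg.Agent.Lib.Golay.Orbits

/-!
# Simplicity of the stabilizer of a dodecad, and of a dodecad and a point on it
-/

namespace Cfsg.Agent.Lib.PermComp.Mathieu.Simple1x

open Cfsg Cfsg.Agent.Lib.PermComp Cfsg.Agent.Lib.PermComp.Mathieu.Bridge
open Cfsg.Agent.Lib.PermComp.G24 (e24)
open Cfsg.Agent.Lib.Golay.Core (pt setOf)
open Cfsg.Agent.Lib.Golay.Perm (checkAut checkAut_valid smul_setOf g_mem_M24 mapMask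
  smul_mem_dodecads)
open Cfsg.Agent.Lib.Golay.Orbits (D1 D1_mem exists_smul_dodecad)
open Cfsg.Agent.Lib.Golay.M24 (card_M24)
open Cfsg.Agent.Lib.PermComp.Mathieu.CertM12 Cfsg.Agent.Lib.PermComp.Mathieu.CertM11
open scoped Pointwise

/-- The permutation of a code. -/
theorem eq_g_of_rep {c : Nat} {g : Equiv.Perm GolayPt} (hc : checkAut c = true) (h : Rep24 c g) :
    g = Cfsg.Agent.Lib.Golay.Perm.g c := by
  ext p
  rw [apply_of_rep24 h, Cfsg.Agent.Lib.Golay.Perm.g_apply (checkAut_valid hc)]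

/-- An isomorphism from inclusion and order. -/
theorem nonempty_equiv_of_le_card {α : Type*} [Finite α] {G : Subgroup (Equiv.Perm α)}
    (S : Subgroup G) (K : Subgroup (Equiv.Perm α))
    (hle : ∀ x ∈ K, ∃ hx : x ∈ G, (⟨x, hx⟩ : G) ∈ S)
    (hcard : Nat.card S ≤ Nat.card K) : Nonempty (S ≃* K) := by
  have hmap : K ≤ S.map G.subtype := by
    intro x hx
    obtain ⟨hx', hxS⟩ := hle x hx
    exact ⟨⟨x, hx'⟩, hxS, rfl⟩
  have e1 : S ≃* S.map G.subtype := Subgroup.equivMapOfInjective S G.subtype G.subtype_injective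
  have heq : K = S.map G.subtype :=
    Subgroup.eq_of_le_of_card_ge hmap (by rw [← Nat.card_congr e1.toEquiv]; exact hcard)
  rw [heq]
  exact ⟨e1⟩

/-! ### The dodecad -/

/-- The order of the stabilizer of the dodecad `D1`. -/
theorem card_stab_D1 : Nat.card (MulAction.stabilizer M24 (setOf D1)) = 95040 := by
  have h1 := Subgroup.card_mul_index (MulAction.stabilizer M24 (setOf D1))
  have horb : MulAction.orbit M24 (setOf D1) = dodecads := by
    ext o
    constructor
    · rintro ⟨g, rfl⟩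
      exact smul_mem_dodecads g.2 D1_mem
    · intro ho
      obtain ⟨τ, hτ, h⟩ := exists_smul_dodecad ho
      exact ⟨⟨τ, hτ⟩, h⟩
  rw [MulAction.index_stabilizer, horb, Cfsg.Agent.Lib.Golay.Core.ncard_dodecads, card_M24] at h1
  exact Nat.eq_of_mul_eq_mul_right (by norm_num : 0 < 2576) (h1.trans (by norm_num))

theorem m12_all : allAut m12_G_T = true := by decide +kernel

theorem m12_fix : Core.allL (fun c => Nat.beq (mapMask c D1) D1) m12_G_T = true := by decide +kernel

theorem m12_main : m12_mask = 2 ^ m12_w - 1 ∧ (∀ i < m12_n, Core.app m12_w m12_mask m12_idc i = i) ∧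
    m12_idc < 2 ^ (m12_n * m12_w) ∧ Core.Sem m12_w m12_mask e24 m12_L m12_maskL m12_G_levels ∧
    Core.H m12_w m12_mask e24 m12_G_T = Core.H m12_w m12_mask e24 (Core.topGens m12_G_levels) ∧
    Nat.card (Core.H m12_w m12_mask e24 m12_G_T) = Core.orderC m12_G_levels :=
  Core.main_of_checkAll (e := e24) (exists_rep24_of_all m12_all) m12_G_ok

theorem H_m12_card : Nat.card (Core.H 5 31 e24 m12_G_T) = 95040 :=
  m12_main.2.2.2.2.2.trans m12_order

theorem isSimple_H_m12 : IsSimpleGroup (Core.H 5 31 e24 m12_G_T) :=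
  Simple.isSimple_of_cert (e := e24) (exists_rep24_of_all m12_all) m12_G_ok m12_order (by norm_num)
    m12_reps_ok m12_syls_ok m12_prod

/-- A generator maps the dodecad to itself. -/
theorem smul_D1_of_gen {c : Nat} (hc : c ∈ m12_G_T) {g : Equiv.Perm GolayPt} (hg : Rep24 c g) :
    g • setOf D1 = setOf D1 := by
  have h1 := List.all_eq_true.1 m12_all c hc
  rw [eq_g_of_rep h1 hg, smul_setOf (checkAut_valid h1),
    Nat.eq_of_beq_eq_true ((Core.allL_eq_true _ _).1 m12_fix c hc)]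

/-- The group generated by the codes, inside the stabilizer of `D1`. -/
theorem H_m12_le_stab : Core.H 5 31 e24 m12_G_T ≤ MulAction.stabilizer (Equiv.Perm GolayPt) (setOf D1) :=
  H_le fun _ hc _ hg => smul_D1_of_gen hc hg

theorem H_m12_mem {x : Equiv.Perm GolayPt} (hx : x ∈ Core.H 5 31 e24 m12_G_T) :
    ∃ hx' : x ∈ M24, (⟨x, hx'⟩ : M24) ∈ MulAction.stabilizer M24 (setOf D1) :=
  ⟨H_le_M24 m12_all hx, H_m12_le_stab hx⟩

theorem nonempty_equiv_stab_D1 :
    Nonempty (MulAction.stabilizer M24 (setOf D1) ≃* Core.H 5 31 e24 m12_G_T) :=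
  nonempty_equiv_of_le_card _ _ (fun _ hx => H_m12_mem hx)
    (by rw [card_stab_D1, H_m12_card])

/-- The stabilizer of a dodecad is simple. -/
theorem isSimple_stab_dodecad {d : Finset GolayPt} (hd : d ∈ dodecads) :
    IsSimpleGroup (MulAction.stabilizer M24 d) := by
  obtain ⟨τ, hτ, rfl⟩ := exists_smul_dodecad hd
  have e1 := MulAction.stabilizerEquivStabilizer (G := M24) (g := (⟨τ, hτ⟩ : M24))
    (a := setOf D1) (b := τ • setOf D1) rfl
  obtain ⟨e2⟩ := nonempty_equiv_stab_D1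
  have := isSimple_H_m12
  exact (e1.symm.trans e2).isSimpleGroup

/-! ### A point of the dodecad -/

theorem m12_orbit : ∀ q : GolayPt, q ∈ setOf D1 → ((e24 q : Fin 24) : ℕ) ∈ Core.ptsOf m12_G_lev0 := by
  decide +kernel

theorem e24_pt0 : ((e24 (pt 0) : Fin 24) : ℕ) = m12_G_lev0.base := by decide +kernel

theorem exists_map_pt0 {q : GolayPt} (hq : q ∈ setOf D1) :
    ∃ h ∈ Core.H 5 31 e24 m12_G_T, h (pt 0) = q := by
  obtain ⟨-, -, -, hsem, heq, -⟩ := m12_main
  have hl : Core.LevelSem m12_w m12_mask e24 m12_L m12_maskL m12_G_lev0 _ := hsem.1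
  obtain ⟨h, hh, hq'⟩ := (Chain.orbit_iff hl e24_pt0 q).1 (m12_orbit q hq)
  exact ⟨h, by
    have h2 : Core.H 5 31 e24 m12_G_T = Core.H 5 31 e24 m12_G_lev0.gens := heq
    rw [h2]
    exact hh, hq'⟩

theorem m11_all : allAut m11_G_T = true := by decide +kernel

theorem m11_fix : Core.allL (fun c => Nat.beq (mapMask c D1) D1) m11_G_T = true := by decide +kernel

theorem H_m11_card : Nat.card (Core.H 5 31 e24 m11_G_T) = 7920 := by
  obtain ⟨-, -, -, -, -, h⟩ := Core.main_of_checkAll (e := e24) (exists_rep24_of_all m11_all) m11_G_ok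
  exact h.trans m11_order

theorem isSimple_H_m11 : IsSimpleGroup (Core.H 5 31 e24 m11_G_T) :=
  Simple.isSimple_of_cert (e := e24) (exists_rep24_of_all m11_all) m11_G_ok m11_order (by norm_num)
    m11_reps_ok m11_syls_ok m11_prod

/-- The order of the stabilizer of `D1` and `0`. -/
theorem card_inf : Nat.card ↥(Core.H 5 31 e24 m12_G_T ⊓ MulAction.stabilizer (Equiv.Perm GolayPt) (pt 0)) = 7920 := by
  have h := Cfsg.Agent.Lib.Golay.Chain.card_eq_mul_card_inf (Core.H 5 31 e24 m12_G_T) (pt 0)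
    (↑(setOf D1) : Set GolayPt)
    (by
      intro g hg
      have h1 : g • setOf D1 = setOf D1 := H_m12_le_stab hg
      have h0 : pt 0 ∈ setOf D1 := by decide +kernel
      have : g (pt 0) ∈ g • setOf D1 := Finset.smul_mem_smul_finset h0
      rw [h1] at this
      exact_mod_cast this)
    (fun q hq => exists_map_pt0 (by exact_mod_cast hq))
  rw [H_m12_card, Set.ncard_coe_finset] at h
  have hc : (setOf D1).card = 12 := (D1_mem).2
  rw [hc] at h
  omega

theorem equiv_inf :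
    ∀ x ∈ (Core.H 5 31 e24 m12_G_T ⊓ MulAction.stabilizer (Equiv.Perm GolayPt) (pt 0)),
    ∃ hx' : x ∈ M24, (⟨x, hx'⟩ : M24) ∈ MulAction.stabilizer M24 (setOf D1) ⊓
      MulAction.stabilizer M24 (pt 0) := by
  rintro x ⟨h1, h2⟩
  exact ⟨H_le_M24 m12_all h1, H_m12_le_stab h1, h2⟩

theorem card_le_inf : Nat.card ↥(MulAction.stabilizer M24 (setOf D1) ⊓ MulAction.stabilizer M24 (pt 0)) ≤ 7920 := by
  rw [← card_inf]
  -- the map to permutations
  have hinj := Subgroup.subtype_injective M24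
  have e1 := Subgroup.equivMapOfInjective (MulAction.stabilizer M24 (setOf D1) ⊓ MulAction.stabilizer M24 (pt 0)) M24.subtype hinj
  rw [Nat.card_congr e1.toEquiv]
  apply Nat.card_mono (Set.toFinite _)
  rintro x ⟨⟨y, hy⟩, ⟨h1, h2⟩, rfl⟩
  have hmem : (y : Equiv.Perm GolayPt) ∈ Core.H 5 31 e24 m12_G_T := by
    have e2 : Core.H 5 31 e24 m12_G_T = (MulAction.stabilizer M24 (setOf D1)).map M24.subtype := by
      refine Subgroup.eq_of_le_of_card_ge ?_ ?_
      · intro z hz
        obtain ⟨h3, h4⟩ := H_m12_mem hz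
        exact ⟨⟨z, h3⟩, h4, rfl⟩
      · have e3 := Subgroup.equivMapOfInjective (MulAction.stabilizer M24 (setOf D1)) M24.subtype hinj
        rw [← Nat.card_congr e3.toEquiv, card_stab_D1, H_m12_card]
    rw [e2]
    exact ⟨⟨y, hy⟩, h1, rfl⟩
  exact ⟨hmem, h2⟩

theorem nonempty_equiv_stab_D1_pt0 :
    Nonempty (↥(MulAction.stabilizer M24 (setOf D1) ⊓ MulAction.stabilizer M24 (pt 0)) ≃*
      Core.H 5 31 e24 m11_G_T) := by
  refine nonempty_equiv_of_le_card _ _ (fun x hx => ?_) (by rw [H_m11_card]; exact card_le_inf)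
  have hfix : Core.H 5 31 e24 m11_G_T ≤ MulAction.stabilizer (Equiv.Perm GolayPt) (pt 0) :=
    H_le_stab m11_all (by decide +kernel)
  have hD : Core.H 5 31 e24 m11_G_T ≤ MulAction.stabilizer (Equiv.Perm GolayPt) (setOf D1) := by
    refine H_le fun c hc g hg => ?_
    have h1 := List.all_eq_true.1 m11_all c hc
    show g • setOf D1 = setOf D1
    rw [eq_g_of_rep h1 hg, smul_setOf (checkAut_valid h1),
      Nat.eq_of_beq_eq_true ((Core.allL_eq_true _ _).1 m11_fix c hc)]
  exact ⟨H_le_M24 m11_all hx, hD hx, hfix hx⟩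

/-- Any dodecad with a point on it is a translate of `D1` with the point `0`. -/
theorem exists_conj {d : Finset GolayPt} (hd : d ∈ dodecads) {p : GolayPt} (hp : p ∈ d) :
    ∃ σ : M24, σ • setOf D1 = d ∧ σ • pt 0 = p := by
  obtain ⟨τ, hτ, rfl⟩ := exists_smul_dodecad hd
  have hq : τ⁻¹ p ∈ setOf D1 := by
    obtain ⟨q, hq, rfl⟩ := Finset.mem_smul_finset.1 hp
    have : τ⁻¹ (τ • q) = q := by simp [Equiv.Perm.smul_def]
    rw [this]
    exact hq
  obtain ⟨h, hh, hh0⟩ := exists_map_pt0 hq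
  obtain ⟨hm, hs⟩ := H_m12_mem hh
  refine ⟨⟨τ, hτ⟩ * ⟨h, hm⟩, ?_, ?_⟩
  · rw [mul_smul]
    have hs' : (⟨h, hm⟩ : M24) • setOf D1 = setOf D1 := hs
    rw [hs']
    rfl
  · rw [mul_smul]
    show τ (h (pt 0)) = p
    rw [hh0]
    simp

/-- The stabilizer of a dodecad and a point on it is simple. -/
theorem isSimple_stab_dodecad_point {d : Finset GolayPt} (hd : d ∈ dodecads) {p : GolayPt}
    (hp : p ∈ d) : IsSimpleGroup ↥(MulAction.stabilizer M24 d ⊓ MulAction.stabilizer M24 p) := by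
  obtain ⟨σ, rfl, rfl⟩ := exists_conj hd hp
  obtain ⟨e1⟩ := nonempty_equiv_inf_conj σ (setOf D1) (pt 0)
  obtain ⟨e2⟩ := nonempty_equiv_stab_D1_pt0
  have := isSimple_H_m11
  exact (e1.symm.trans e2).isSimpleGroup

end Cfsg.Agent.Lib.PermComp.Mathieu.Simple1x
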